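import Groth.Agent.DualCxLib.DimFnLocal
import Mathlib.RingTheory.KrullDimension.Basic

/-!
# Recognition and uniqueness of dualizing complexes over a local ring
-/

set_option autoImplicit false
set_option linter.style.haveILetI false
set_option linter.unusedSectionVars false

universe u

open CategoryTheory CategoryTheory.Limits
open CategoryTheory.Pretriangulated (Triangle)
open Groth.Agent DTen DTenLib
open DTenLib.Point (hH sg kM)

attribute [local instance] HasDerivedCategory.standard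

noncomputable section

namespace Groth.Agent.DualCxLib

variable {A : Type u} [CommRing A]

/-- Finite cohomology, bounded below, and `Ext` of the residue field is one line in degree `d`. -/
structure IsPointwiseDual [IsLocalRing A] (R : Dual.D A) (d : ℤ) : Prop where
  finite : ∀ i : ℤ, Module.Finite A (Dual.HD A R i)
  bddBelow : ∃ a : ℤ, R.IsGE a
  vanishes : ∀ i : ℤ, i ≠ d → Subsingleton (Dual.inD A (IsLocalRing.ResidueField A) ⟶ R⟦i⟧)
  line : Nonempty ((Dual.inD A (IsLocalRing.ResidueField A) ⟶ R⟦d⟧) ≃ₗ[A] IsLocalRing.ResidueField A)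

theorem isPointwiseDual_of_isDualizing [IsLocalRing A] [IsNoetherianRing A] {ω : Dual.D A}
    (hω : Dual.IsDualizing A ω) : ∃ d, IsPointwiseDual ω d := by
  obtain ⟨d, hvan, hline⟩ := ext_residueField_single_degree ω hω (IsLocalRing.maximalIdeal A)
  exact ⟨d, hω.finite_cohomology, isGE_dualizing hω, hvan, hline⟩

section Amplitude

variable [IsLocalRing A] [IsNoetherianRing A] {R : Dual.D A} {d : ℤ} (hR : IsPointwiseDual R d)
include hR

theorem ext_quot_bounds (n : ℕ) (hn : ringKrullDim A ≤ n) (q : PrimeSpectrum A) :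
    ∀ (i : ℤ), (i < d - n ∨ d < i) → Subsingleton (Ext R (ModuleCat.of A (A ⧸ q.asIdeal)) i) := by
  obtain ⟨a, ha⟩ := hR.bddBelow
  haveI := wellFoundedGT_primeSpectrum (A := A)
  suffices H : ∀ q : PrimeSpectrum A, ∀ (l : LTSeries (PrimeSpectrum A)), l.last = q → ∀ i : ℤ,
      (i < d - n + l.length ∨ d < i) → Subsingleton (Ext R (ModuleCat.of A (A ⧸ q.asIdeal)) i) from
    fun i hi => H q (RelSeries.singleton _ q) rfl i (by simpa using hi)
  intro q
  refine WellFoundedGT.induction (motive := fun q => ∀ (l : LTSeries (PrimeSpectrum A)), l.last = q → ∀ i : ℤ,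
      (i < d - n + l.length ∨ d < i) → Subsingleton (Ext R (ModuleCat.of A (A ⧸ q.asIdeal)) i)) q
    fun q ih l hl i hi => ?_
  have hlen : l.length ≤ n :=
    ENat.natCast_le_natCast.1 (WithBot.coe_le_coe.1 (le_trans (Order.LTSeries.length_le_krullDim l) hn))
  rcases eq_or_lt_of_le (le_closedPt q) with rfl | hlt
  · exact hR.vanishes i (by omega)
  obtain ⟨x, hxm, hxq⟩ := Set.exists_of_ssubset (show q.asIdeal < (closedPt A).asIdeal from hlt)
  haveI : Module.Finite A (mulSeq (ModuleCat.of A (A ⧸ q.asIdeal)) x).X₃ :=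
    inferInstanceAs (Module.Finite A (_ ⧸ _))
  refine subsingleton_of_van_closedPt (van_ext_of_regular ha hR.finite (M := ModuleCat.of A (A ⧸ q.asIdeal)) hxm
    (isSMulRegular_quot q hxq) i
    (van_ext_of_primes (M := (mulSeq (ModuleCat.of A (A ⧸ q.asIdeal)) x).X₃) (i + 1) fun r hr _ => ?_))
  have hle := le_of_mem_support_mulSeq hr
  have hqr : q < r := lt_of_le_of_ne (le_sup_left.trans hle) fun h => hxq (by
    rw [h]; exact hle (Ideal.mem_sup_right (Ideal.mem_span_singleton_self x)))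
  haveI := ih r hqr (l.snoc r (by rw [hl]; exact hqr)) (RelSeries.last_snoc _ _ _) (i + 1) (by
    simp only [RelSeries.snoc_length, Nat.cast_add, Nat.cast_one]; omega)
  exact van_of_subsingleton

theorem exists_ext_bounds : ∃ N : ℕ, ∀ (M : Type u) [AddCommGroup M] [Module A M] [Module.Finite A M]
    (i : ℤ), (i < d - N ∨ d < i) → Subsingleton (Ext R (ModuleCat.of A M) i) := by
  obtain ⟨N, hN⟩ : ∃ N : ℕ, ringKrullDim A ≤ N := by
    have h1 : ringKrullDim A ≠ ⊤ := ringKrullDim_ne_top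
    generalize ringKrullDim A = D at h1 ⊢
    induction D using WithBot.recBotCoe with
    | bot => exact ⟨0, bot_le⟩
    | coe D =>
      induction D using ENat.recTopCoe with
      | top => exact absurd rfl h1
      | coe n => exact ⟨n, le_rfl⟩
  refine ⟨N, fun M _ _ _ i hi => subsingleton_of_van_closedPt (van_ext_of_primes i fun q _ _ => ?_)⟩
  haveI := ext_quot_bounds hR N hN q i hi
  exact van_of_subsingleton

theorem hasFiniteInjDim_of_pointwise : DRing.HasFiniteInjDim A R := by
  obtain ⟨N, hN⟩ := exists_ext_bounds hR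
  exact ⟨d - N, d, hasInjAmplitudeIn_of_ext fun I i hi => hN (A ⧸ I) i hi⟩

theorem ext_all_bounds : ∃ a b : ℤ, ∀ (M : Type u) [AddCommGroup M] [Module A M] (i : ℤ),
    (i < a ∨ b < i) → Subsingleton (Dual.inD A M ⟶ R⟦i⟧) := by
  obtain ⟨a, b, hab⟩ := hasFiniteInjDim_of_pointwise hR
  exact ⟨a, b, fun M _ _ i hi => ext_of_hasInjAmplitudeIn hab M i hi⟩

end Amplitude

section RHom

variable [HasLTen A] [HasRHom A]

theorem tm_smul_id' [HasLTen₃ A] [IsSymMonoidal A] (r : A) (X L : Dual.D A) :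
    tm (𝟙 X) (r • 𝟙 L) = r • 𝟙 ((LTen₂ A).obj (X, L)) := by
  have h := symm_natural (A := A) (𝟙 X) (r • 𝟙 L)
  rw [tm_smul_id, Linear.smul_comp, Category.id_comp] at h
  refine (cancel_epi ((DTen.symm A).app (X, L))).1 (h.symm.trans ?_)
  rw [Linear.comp_smul]
  exact congrArg (r • ·) (Category.comp_id _).symm

theorem RHomMap_smul_id [HasLTen₃ A] [IsSymMonoidal A] (r : A) (L M : Dual.D A) :
    RHomMap (r • 𝟙 L) M = r • 𝟙 ((RHomR A L).obj M) := by
  apply ((rhomAdj A L).homEquiv _ _).symm.injective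
  rw [Adjunction.homEquiv_counit, Adjunction.homEquiv_counit, Functor.map_smul,
    CategoryTheory.Functor.map_id, Linear.smul_comp, Category.id_comp]
  refine (RHom_map_ev (r • 𝟙 L) M).trans ?_
  show tm (𝟙 _) (r • 𝟙 L) ≫ _ = _
  rw [tm_smul_id', Linear.smul_comp]
  exact congrArg (r • ·) (Category.id_comp _)

theorem RHomMap_comp {L L' L'' : Dual.D A} (f : L ⟶ L') (g : L' ⟶ L'') (M : Dual.D A) :
    RHomMap (f ≫ g) M = RHomMap g M ≫ RHomMap f M := by
  show ((RHom A).map (f ≫ g).op).app M = _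
  rw [op_comp, Functor.map_comp]
  rfl

end RHom

/-- `RHom(A, R) ≅ R`. -/
theorem nonempty_RHom_unit [HasLTen A] [HasLTen₃ A] [IsSymMonoidal A] [HasRHom A] (R : Dual.D A) :
    Nonempty (R ≅ (RHomR A (unit A)).obj R) := by
  let u : R ⟶ (RHomR A (unit A)).obj R := homLEquiv R (unit A) R ((unitR A).app R)
  suffices IsIso u from ⟨asIso u⟩
  refine isIso_of_bijective_unit u fun j => ?_
  have key : ∀ g : (unit A)⟦j⟧ ⟶ R,
      (homLEquiv ((unit A)⟦j⟧) (unit A) R).symm (g ≫ u) = (unitR A).app _ ≫ g := fun g => by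
    show (tensorRightD A (unit A)).map (g ≫ u) ≫ ev _ R = _
    rw [Functor.map_comp, Category.assoc]
    have hu : (tensorRightD A (unit A)).map u ≫ ev _ R = (unitR A).app R :=
      ((rhomAdj A (unit A)).homEquiv R R).left_inv _
    rw [hu]
    exact (unitR A).naturality g
  refine ⟨fun g g' h => ?_, fun h => ?_⟩
  · have h' := congrArg (homLEquiv ((unit A)⟦j⟧) (unit A) R).symm h
    rw [key, key] at h'
    exact (cancel_epi _).1 h'
  · refine ⟨inv ((unitR A).app _) ≫ (homLEquiv ((unit A)⟦j⟧) (unit A) R).symm h,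
      (homLEquiv ((unit A)⟦j⟧) (unit A) R).symm.injective ?_⟩
    rw [key, IsIso.hom_inv_id_assoc]

section Generator

variable [HasLTen A] [HasLTen₃ A] [IsSymMonoidal A] [HasRHom A] (R Y : Dual.D A)

/-- `RHom(M, R)`. -/
abbrev XR (M : ModuleCat.{u} A) : Dual.D A := (RHomR A (sg M 0)).obj R

/-- `M ↦ Hom(RHom(M, R), Y⟦i⟧)`. -/
abbrev GR (M : ModuleCat.{u} A) (i : ℤ) : Type (u + 1) := XR R M ⟶ Y⟦i⟧

/-- Functoriality. -/
abbrev GMap {M N : ModuleCat.{u} A} (φ : M ⟶ N) (i : ℤ) : GR R Y M i →ₗ[A] GR R Y N i :=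
  pre (RHomMap ((DerivedCategory.singleFunctor (ModuleCat.{u} A) 0).map φ) R) (Y⟦i⟧)

theorem GMap_comp {M N P : ModuleCat.{u} A} (φ : M ⟶ N) (ψ : N ⟶ P) (i : ℤ) (g : GR R Y M i) :
    GMap R Y (φ ≫ ψ) i g = GMap R Y ψ i (GMap R Y φ i g) := by
  show RHomMap ((DerivedCategory.singleFunctor (ModuleCat.{u} A) 0).map (φ ≫ ψ)) R ≫ g = _
  rw [Functor.map_comp, RHomMap_comp, Category.assoc]
  rfl

theorem GMap_smul_id (r : A) (M : ModuleCat.{u} A) (i : ℤ) (g : GR R Y M i) :
    GMap R Y (r • 𝟙 M) i g = r • g := by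
  show RHomMap ((DerivedCategory.singleFunctor (ModuleCat.{u} A) 0).map (r • 𝟙 M)) R ≫ g = _
  rw [Functor.map_smul, CategoryTheory.Functor.map_id, RHomMap_smul_id, Linear.smul_comp]
  exact congrArg (r • ·) (Category.id_comp g)

variable {R Y} {S : ShortComplex (ModuleCat.{u} A)} (hS : S.ShortExact)
include hS

theorem exists_GMap_f (i : ℤ) (g : GR R Y S.X₂ i) (hg : GMap R Y S.g i g = 0) :
    ∃ h : GR R Y S.X₁ i, g = GMap R Y S.f i h := by
  obtain ⟨U, hU, e₁, e₂, e₃, w₁, w₂⟩ := isTri_RHom R _ hS.singleTriangle_distinguished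
  obtain ⟨h, hh⟩ := Triangle.yoneda_exact₂ U hU (e₂.hom ≫ g) (by
    rw [← Category.assoc, ← w₁, Category.assoc]
    exact (congrArg (e₁.hom ≫ ·) hg).trans comp_zero)
  refine ⟨e₃.inv ≫ h, ?_⟩
  refine (cancel_epi e₂.hom).1 ?_
  rw [hh]
  show _ = e₂.hom ≫ RHomMap hS.singleTriangle.mor₁ R ≫ e₃.inv ≫ h
  rw [← Category.assoc e₂.hom, w₂, Category.assoc, Iso.hom_inv_id_assoc]

theorem GMap_g_surjective (i : ℤ) (h₁ : Subsingleton (GR R Y S.X₁ (i + 1))) :
    Function.Surjective (GMap R Y S.g i) := fun g => by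
  obtain ⟨U, hU, e₁, e₂, e₃, w₁, -⟩ := isTri_RHom R _ hS.singleTriangle_distinguished
  obtain ⟨h, hh⟩ := Triangle.yoneda_exact₂ U.invRotate (Pretriangulated.inv_rot_of_distTriang _ hU)
    (e₁.hom ≫ g) (by
      haveI : Subsingleton (U.obj₃⟦(-1 : ℤ)⟧ ⟶ Y⟦i⟧) :=
        (((shiftL _ (Y⟦i⟧) 1).trans (postcompL _ (shift₂ Y i 1 (i + 1) rfl))).trans
          (precompL e₃ _)).toEquiv.subsingleton_congr.2 h₁
      exact Subsingleton.elim (α := U.obj₃⟦(-1 : ℤ)⟧ ⟶ Y⟦i⟧) _ _)
  refine ⟨e₂.inv ≫ h, ?_⟩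
  refine (cancel_epi e₁.hom).1 ?_
  show e₁.hom ≫ RHomMap hS.singleTriangle.mor₂ R ≫ e₂.inv ≫ h = e₁.hom ≫ g
  rw [← Category.assoc e₁.hom, w₁, Category.assoc, Iso.hom_inv_id_assoc]
  exact hh.symm

theorem GMap_f_injective (i j : ℤ) (hij : j + 1 = i) (h₃ : Subsingleton (GR R Y S.X₃ j)) :
    Function.Injective (GMap R Y S.f i) := (injective_iff_map_eq_zero _).2 fun g hg => by
  obtain ⟨U, hU, e₁, e₂, e₃, -, w₂⟩ := isTri_RHom R _ hS.singleTriangle_distinguished
  obtain ⟨h, hh⟩ := Triangle.yoneda_exact₃ U hU (e₃.hom ≫ g) (by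
    rw [← Category.assoc, ← w₂, Category.assoc]
    exact (congrArg (e₂.hom ≫ ·) hg).trans comp_zero)
  haveI : Subsingleton (U.obj₁⟦(1 : ℤ)⟧ ⟶ Y⟦i⟧) :=
    ((shiftOneL _ Y i j hij).trans (precompL e₁ _)).toEquiv.subsingleton_congr.2 h₃
  rw [Subsingleton.elim h 0, comp_zero] at hh
  exact (cancel_epi e₃.hom).1 (hh.trans comp_zero.symm)

omit hS

variable [IsLocalRing A] [IsNoetherianRing A] {d d' : ℤ}

/-- `RHom(k, R)` is a shifted residue field. -/
theorem nonempty_XR_residue (hR : IsPointwiseDual R d) :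
    Nonempty (XR R (ModuleCat.of A (IsLocalRing.ResidueField A)) ≅
      sg (ModuleCat.of A (IsLocalRing.ResidueField A)) d) := by
  let k : Dual.D A := Dual.inD A (IsLocalRing.ResidueField A)
  let X : Dual.D A := XR R (ModuleCat.of A (IsLocalRing.ResidueField A))
  have key : ∀ i, Nonempty ((k ⟶ R⟦i⟧) ≃ₗ[A] (hH A i).obj X) := fun i => by
    obtain ⟨e⟩ := nonempty_tensor_shiftUnit k (-i)
    obtain ⟨v⟩ := nonempty_unit_shift_iso (A := A) i
    exact ⟨((shiftL k R i).symm.trans ((precompL e.symm R).trans ((homLEquiv _ k R).trans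
      (precompL v _)))).trans
      (LinearEquiv.ofBijective (evGen X i) ⟨evGen_injective X i, evGen_surjective X i⟩)⟩
  have hz : ∀ i, i ≠ d → IsZero ((hH A i).obj X) := fun i hi => by
    haveI := (key i).some.toEquiv.subsingleton_congr.1 (hR.vanishes i hi)
    exact ModuleCat.isZero_of_subsingleton _
  haveI : X.IsGE d := (DerivedCategory.isGE_iff X d).2 fun i hi => hz i hi.ne
  haveI : X.IsLE d := (DerivedCategory.isLE_iff X d).2 fun i hi => hz i hi.ne'
  obtain ⟨N, ⟨eN⟩⟩ := DerivedCategory.exists_iso_singleFunctor_obj_of_isGE_of_isLE X d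
  exact ⟨eN ≪≫ (DerivedCategory.singleFunctor (ModuleCat.{u} A) d).mapIso
    (((hH A d).mapIso eN ≪≫ DTenLib.Point.sgH N d).symm ≪≫
      ((key d).some.symm.trans hR.line.some).toModuleIso)⟩

/-- `G^i(k)`. -/
theorem nonempty_GR_residue (hR : IsPointwiseDual R d) (i : ℤ) :
    Nonempty (GR R Y (ModuleCat.of A (IsLocalRing.ResidueField A)) i ≃ₗ[A]
      (Dual.inD A (IsLocalRing.ResidueField A) ⟶ Y⟦i + d⟧)) := by
  obtain ⟨e⟩ := nonempty_XR_residue hR
  let s : (sg (ModuleCat.of A (IsLocalRing.ResidueField A)) 0)⟦-d⟧ ≅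
      sg (ModuleCat.of A (IsLocalRing.ResidueField A)) d :=
    DTenLib.Point.shiftSg _ 0 (-d) ≪≫ eqToIso (by simp)
  exact ⟨(precompL (e ≪≫ s.symm) _).trans
    ((shiftL _ (Y⟦i⟧) d).trans (postcompL _ (shift₂ Y i d (i + d) rfl)))⟩

variable (hR : IsPointwiseDual R d) (hY : IsPointwiseDual Y d')
include hR hY

theorem subsingleton_GR_residue (i : ℤ) (hi : i ≠ d' - d) :
    Subsingleton (GR R Y (ModuleCat.of A (IsLocalRing.ResidueField A)) i) :=
  (nonempty_GR_residue hR i).some.toEquiv.subsingleton_congr.2 (hY.vanishes _ (by omega))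

theorem nonempty_GR_residue_line :
    Nonempty (GR R Y (ModuleCat.of A (IsLocalRing.ResidueField A)) (d' - d) ≃ₗ[A] IsLocalRing.ResidueField A) :=
  ⟨(nonempty_GR_residue hR (d' - d)).some.trans
    ((postcompL _ (eqToIso (by rw [sub_add_cancel]))).trans hY.line.some)⟩

theorem isNoetherian_GR (M : Type u) [AddCommGroup M] [Module A M] [Module.Finite A M] (i : ℤ) :
    IsNoetherian A (GR R Y (ModuleCat.of A M) i) := by
  haveI : ∀ j, Module.Finite A ((hH A j).obj (XR R (ModuleCat.of A M))) := fun j => by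
    obtain ⟨e⟩ := nonempty_tensor_shiftUnit (Dual.inD A M) (-j)
    obtain ⟨v⟩ := nonempty_unit_shift_iso (A := A) j
    let E : (Dual.inD A M ⟶ R⟦j⟧) ≃ₗ[A] (sg (ModuleCat.of A A) j ⟶ XR R (ModuleCat.of A M)) :=
      (shiftL _ R j).symm.trans ((precompL e.symm R).trans ((homLEquiv _ _ R).trans (precompL v _)))
    obtain ⟨a, ha⟩ := hR.bddBelow
    haveI := isNoetherian_ext ha hR.finite (ModuleCat.of A M) j
    exact Module.Finite.of_surjective ((evGen _ j).comp E.toLinearMap)
      ((evGen_surjective _ j).comp E.surjective)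
  haveI : Module.Finite A (GR R Y (ModuleCat.of A M) i) :=
    finite_hom this hY.finite (hasFiniteInjDim_of_pointwise hY) i
  exact isNoetherian_of_isNoetherianRing_of_finite A _

theorem subsingleton_GR_quot (i : ℤ) (hi : i ≠ d' - d) (q : PrimeSpectrum A) :
    Subsingleton (GR R Y (ModuleCat.of A (A ⧸ q.asIdeal)) i) := by
  haveI := wellFoundedGT_primeSpectrum (A := A)
  refine WellFoundedGT.induction (motive := fun q => Subsingleton (GR R Y (ModuleCat.of A (A ⧸ q.asIdeal)) i)) q
    fun q ih => ?_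
  rcases eq_or_lt_of_le (le_closedPt q) with rfl | hlt
  · exact subsingleton_GR_residue hR hY i hi
  obtain ⟨x, hxm, hxq⟩ := Set.exists_of_ssubset (show q.asIdeal < (closedPt A).asIdeal from hlt)
  let S := mulSeq (ModuleCat.of A (A ⧸ q.asIdeal)) x
  have hS : S.ShortExact := shortExact_mulSeq (isSMulRegular_quot q hxq)
  haveI : Module.Finite A S.X₃ := inferInstanceAs (Module.Finite A (_ ⧸ _))
  have h3 : Subsingleton (GR R Y S.X₃ i) := by
    have key : ∀ (M : Type u) [AddCommGroup M] [Module A M] [Module.Finite A M],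
        (∀ r ∈ Module.support A M, q < r) → Subsingleton (GR R Y (ModuleCat.of A M) i) := by
      intro M _ _ _
      refine IsNoetherianRing.induction_on_isQuotientEquivQuotientPrime A (M := M) inferInstance
        (motive := fun N _ _ _ => (∀ r ∈ Module.support A N, q < r) → Subsingleton (GR R Y (ModuleCat.of A N) i)) ?_ ?_ ?_
      · intro N _ _ _ _ _
        have h0 : (1 : A) • 𝟙 (ModuleCat.of A N) = (0 : A) • 𝟙 (ModuleCat.of A N) :=
          ModuleCat.hom_ext (LinearMap.ext fun z => @Subsingleton.elim N _ _ _)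
        exact subsingleton_of_forall_eq 0 fun g => by
          rw [← one_smul A g, ← GMap_smul_id R Y 1 (ModuleCat.of A N) i g, h0, GMap_smul_id, zero_smul]
      · intro N _ _ _ r e h
        have hr : q < r := h r (by
          rw [e.support_eq, Module.support_eq_zeroLocus, Ideal.annihilator_quotient]
          exact fun a ha => ha)
        haveI := ih r hr
        exact (precompL ((RHom A).mapIso (((DerivedCategory.singleFunctor (ModuleCat.{u} A) 0).mapIso
          e.toModuleIso).op) |>.app R).symm (Y⟦i⟧)).toEquiv.subsingleton_congr.2 ‹_›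
      · intro N₁ _ _ _ N₂ _ _ _ N₃ _ _ _ f g hf hg hfg h1 h3 h
        have hsupp := Module.support_of_exact hfg hf hg
        haveI := h1 fun r hr => h r (by rw [hsupp]; exact Or.inl hr)
        haveI := h3 fun r hr => h r (by rw [hsupp]; exact Or.inr hr)
        refine subsingleton_of_forall_eq 0 fun z => ?_
        obtain ⟨w, rfl⟩ := exists_GMap_f (R := R) (Y := Y) (S := ShortComplex.mk (ModuleCat.ofHom f) (ModuleCat.ofHom g)
            (ModuleCat.hom_ext (LinearMap.ext fun x => hfg.apply_apply_eq_zero x)))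
          { exact := (ShortComplex.moduleCat_exact_iff_range_eq_ker _).2 (LinearMap.exact_iff.1 hfg).symm
            mono_f := (ModuleCat.mono_iff_injective _).2 hf
            epi_g := (ModuleCat.epi_iff_surjective _).2 hg } i z (Subsingleton.elim _ _)
        rw [Subsingleton.elim w 0, map_zero]
    refine key S.X₃ fun r hr => ?_
    have hle := le_of_mem_support_mulSeq hr
    exact lt_of_le_of_ne (le_sup_left.trans hle) fun h => hxq (by
      rw [h]; exact hle (Ideal.mem_sup_right (Ideal.mem_span_singleton_self x)))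
  haveI := isNoetherian_GR hR hY (A ⧸ q.asIdeal) i
  refine subsingleton_of_van_closedPt (van_of_smul_surjective hxm fun g => ⟨1, one_notMem, ?_⟩)
  obtain ⟨w, hw⟩ := exists_GMap_f hS i g (Subsingleton.elim _ _)
  exact ⟨w, by rw [one_smul, hw]; exact GMap_smul_id R Y x _ i w⟩

theorem subsingleton_GR (i : ℤ) (hi : i ≠ d' - d) (M : Type u) [AddCommGroup M] [Module A M]
    [Module.Finite A M] : Subsingleton (GR R Y (ModuleCat.of A M) i) := by
  refine IsNoetherianRing.induction_on_isQuotientEquivQuotientPrime A (M := M) inferInstance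
    (motive := fun N _ _ _ => Subsingleton (GR R Y (ModuleCat.of A N) i)) ?_ ?_ ?_
  · intro N _ _ _ _
    have h0 : (1 : A) • 𝟙 (ModuleCat.of A N) = (0 : A) • 𝟙 (ModuleCat.of A N) :=
      ModuleCat.hom_ext (LinearMap.ext fun z => @Subsingleton.elim N _ _ _)
    exact subsingleton_of_forall_eq 0 fun g => by
      rw [← one_smul A g, ← GMap_smul_id R Y 1 (ModuleCat.of A N) i g, h0, GMap_smul_id, zero_smul]
  · intro N _ _ _ r e
    haveI := subsingleton_GR_quot hR hY i hi r
    exact (precompL ((RHom A).mapIso (((DerivedCategory.singleFunctor (ModuleCat.{u} A) 0).mapIso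
      e.toModuleIso).op) |>.app R).symm (Y⟦i⟧)).toEquiv.subsingleton_congr.2 ‹_›
  · intro N₁ _ _ _ N₂ _ _ _ N₃ _ _ _ f g hf hg hfg h1 h3
    refine subsingleton_of_forall_eq 0 fun z => ?_
    obtain ⟨w, rfl⟩ := exists_GMap_f (R := R) (Y := Y) (S := ShortComplex.mk (ModuleCat.ofHom f) (ModuleCat.ofHom g)
        (ModuleCat.hom_ext (LinearMap.ext fun x => hfg.apply_apply_eq_zero x)))
      { exact := (ShortComplex.moduleCat_exact_iff_range_eq_ker _).2 (LinearMap.exact_iff.1 hfg).symm
        mono_f := (ModuleCat.mono_iff_injective _).2 hf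
        epi_g := (ModuleCat.epi_iff_surjective _).2 hg } i z (@Subsingleton.elim _ h3 _ _)
    rw [@Subsingleton.elim _ h1 w 0, map_zero]

/-- Degree zero of the double dual. -/
theorem exists_generator : ∃ g : GR R Y (ModuleCat.of A A) (d' - d),
    Function.Bijective (fun r : A => r • g) ∧
    GMap R Y (ModuleCat.ofHom (IsLocalRing.maximalIdeal A).mkQ : ModuleCat.of A A ⟶
      ModuleCat.of A (IsLocalRing.ResidueField A)) (d' - d) g ≠ 0 := by
  classical
  set c := d' - d with hc
  let m := IsLocalRing.maximalIdeal A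
  let sub : ∀ I : Ideal A, ModuleCat.of A I ⟶ ModuleCat.of A A := fun I => ModuleCat.ofHom (Submodule.subtype I)
  let π : ModuleCat.of A A ⟶ ModuleCat.of A (IsLocalRing.ResidueField A) := ModuleCat.ofHom m.mkQ
  have hseq : ∀ {N P : Type u} [AddCommGroup N] [Module A N] [AddCommGroup P] [Module A P]
      (f : N →ₗ[A] P), Function.Surjective f →
      ∃ S : ShortComplex (ModuleCat.{u} A), ∃ _ : S.ShortExact, ∃ _ : Module.Finite A P → True,
        S = ShortComplex.mk (ModuleCat.ofHom (LinearMap.ker f).subtype) (ModuleCat.ofHom f)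
          (ModuleCat.hom_ext (LinearMap.ext fun x => x.2)) := fun f hf =>
    ⟨_, { exact := (ShortComplex.moduleCat_exact_iff_range_eq_ker _).2 (Submodule.range_subtype _)
          mono_f := (ModuleCat.mono_iff_injective _).2 Subtype.val_injective
          epi_g := (ModuleCat.epi_iff_surjective _).2 hf }, fun _ => trivial, rfl⟩
  have hsurj : ∀ {N P : Type u} [AddCommGroup N] [Module A N] [Module.Finite A N] [AddCommGroup P] [Module A P]
      (f : N →ₗ[A] P), Function.Surjective f →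
      Function.Surjective (GMap R Y (ModuleCat.ofHom f) c) := fun {N P} _ _ _ _ _ f hf => by
    obtain ⟨S, hS, -, rfl⟩ := hseq f hf
    exact GMap_g_surjective hS c (subsingleton_GR hR hY (c + 1) (by omega) (LinearMap.ker f))
  haveI hfinG : IsNoetherian A (GR R Y (ModuleCat.of A A) c) := isNoetherian_GR hR hY A c
  have himage : ∀ (I : Ideal A) (h : GR R Y (ModuleCat.of A I) c),
      GMap R Y (sub I) c h ∈ I • (⊤ : Submodule A (GR R Y (ModuleCat.of A A) c)) := by
    intro I
    refine Submodule.fg_induction (R := A) (M := A) (motive := fun I _ => ∀ h : GR R Y (ModuleCat.of A I) c,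
      GMap R Y (sub I) c h ∈ (I : Ideal A) • (⊤ : Submodule A (GR R Y (ModuleCat.of A A) c))) ?_ ?_ I
      (IsNoetherian.noetherian I)
    · intro x h
      let t : A →ₗ[A] (Submodule.span A {x} : Ideal A) :=
        (LinearMap.toSpanSingleton A A x).codRestrict _ fun a =>
          Submodule.smul_mem _ a (Submodule.mem_span_singleton_self x)
      obtain ⟨g, rfl⟩ := hsurj t (fun y => by
        obtain ⟨a, ha⟩ := Submodule.mem_span_singleton.1 y.2
        exact ⟨a, Subtype.ext ha⟩) h
      rw [← GMap_comp, show ModuleCat.ofHom t ≫ sub (Submodule.span A {x}) = x • 𝟙 (ModuleCat.of A A) from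
        ModuleCat.hom_ext (LinearMap.ext fun a => mul_comm a x), GMap_smul_id]
      exact Submodule.smul_mem_smul (Submodule.mem_span_singleton_self x) Submodule.mem_top
    · intro I J _ _ hI hJ h
      let j₁ : ModuleCat.of A I ⟶ ModuleCat.of A (I ⊔ J : Ideal A) :=
        ModuleCat.ofHom (Submodule.inclusion le_sup_left)
      let j₂ : ModuleCat.of A J ⟶ ModuleCat.of A (I ⊔ J : Ideal A) :=
        ModuleCat.ofHom (Submodule.inclusion le_sup_right)
      let q : (I ⊔ J : Ideal A) →ₗ[A] (I ⊔ J : Ideal A) ⧸ LinearMap.range j₁.hom := Submodule.mkQ _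
      have hq : Function.Surjective (q.comp j₂.hom) := fun z => by
        obtain ⟨⟨z, hz⟩, rfl⟩ := Submodule.Quotient.mk_surjective _ z
        obtain ⟨a, ha, b, hb, rfl⟩ := Submodule.mem_sup.1 hz
        exact ⟨⟨b, hb⟩, (Submodule.Quotient.eq _).2 ⟨-⟨a, ha⟩, Subtype.ext (by
          show -a = b - (a + b); ring)⟩⟩
      obtain ⟨b, hb⟩ := hsurj (q.comp j₂.hom) hq (GMap R Y (ModuleCat.ofHom q) c h)
      obtain ⟨a, ha⟩ := exists_GMap_f (R := R) (Y := Y) (S := ShortComplex.mk j₁ (ModuleCat.ofHom q)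
          (ModuleCat.hom_ext (LinearMap.ext fun z => (Submodule.Quotient.mk_eq_zero _).2 ⟨z, rfl⟩)))
        { exact := (ShortComplex.moduleCat_exact_iff_range_eq_ker _).2 (Submodule.ker_mkQ _).symm
          mono_f := (ModuleCat.mono_iff_injective _).2 (Submodule.inclusion_injective (le_sup_left : I ≤ I ⊔ J))
          epi_g := (ModuleCat.epi_iff_surjective _).2 (Submodule.mkQ_surjective _) } c
        (h - GMap R Y j₂ c b) (by
          rw [map_sub, ← GMap_comp, sub_eq_zero]
          exact hb.symm)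
      rw [show h = GMap R Y j₁ c a + GMap R Y j₂ c b by
        rw [← (show h - GMap R Y j₂ c b = GMap R Y j₁ c a from ha), sub_add_cancel], map_add,
        ← GMap_comp, ← GMap_comp]
      exact Submodule.add_mem _ (Submodule.smul_mono_left le_sup_left (hI a))
        (Submodule.smul_mono_left le_sup_right (hJ b))
  have hk := hsurj (N := A) (P := IsLocalRing.ResidueField A) m.mkQ (Submodule.mkQ_surjective _)
  obtain ⟨ℓ⟩ := nonempty_GR_residue_line hR hY
  obtain ⟨g, hg⟩ := hk (ℓ.symm (Ideal.Quotient.mk m 1))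
  change GMap R Y π c g = _ at hg
  have hg0 : GMap R Y π c g ≠ 0 := fun h => by
    have := congrArg ℓ (h.symm.trans hg)
    rw [map_zero, LinearEquiv.apply_symm_apply] at this
    exact one_notMem (Ideal.Quotient.eq_zero_iff_mem.1 this.symm)
  have hker : ∀ z, GMap R Y π c z = 0 → z ∈ m • (⊤ : Submodule A (GR R Y (ModuleCat.of A A) c)) := fun z hz => by
    obtain ⟨a, rfl⟩ := exists_GMap_f (R := R) (Y := Y)
      (S := ShortComplex.mk (sub m) π
        (ModuleCat.hom_ext (LinearMap.ext fun x => (Submodule.Quotient.mk_eq_zero _).2 x.2)))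
      { exact := (ShortComplex.moduleCat_exact_iff_range_eq_ker _).2
          ((Submodule.range_subtype _).trans (Submodule.ker_mkQ _).symm)
        mono_f := (ModuleCat.mono_iff_injective _).2 Subtype.val_injective
        epi_g := (ModuleCat.epi_iff_surjective _).2 (Submodule.mkQ_surjective _) } c z hz
    exact himage m a
  have hspan : ∀ z, ∃ r : A, z = r • g := by
    have hle : (⊤ : Submodule A (GR R Y (ModuleCat.of A A) c)) ≤ Submodule.span A {g} := by
      refine Submodule.le_of_le_smul_of_le_jacobson_bot (I := m) Module.Finite.fg_top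
        (le_of_eq (IsLocalRing.jacobson_eq_maximalIdeal ⊥ bot_ne_top).symm) fun z _ => ?_
      obtain ⟨r, hr⟩ := Ideal.Quotient.mk_surjective (ℓ (GMap R Y π c z))
      have h1 : GMap R Y π c (z - r • g) = 0 := ℓ.injective (by
        rw [map_sub, map_smul, map_sub, map_smul, hg, LinearEquiv.apply_symm_apply, map_zero, ← hr, sub_eq_zero]
        change (Submodule.Quotient.mk r : A ⧸ m) = r • (Submodule.Quotient.mk 1 : A ⧸ m)
        rw [← Submodule.Quotient.mk_smul, smul_eq_mul, mul_one])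
      rw [← sub_add_cancel z (r • g), sup_comm]
      exact Submodule.add_mem_sup (hker _ h1) (Submodule.smul_mem _ r (Submodule.mem_span_singleton_self g))
    intro z
    obtain ⟨r, hr⟩ := Submodule.mem_span_singleton.1 (hle (Submodule.mem_top (x := z)))
    exact ⟨r, hr.symm⟩
  refine ⟨g, ⟨fun r r' h => by_contra fun hne => ?_, fun z => ?_⟩, hg0⟩
  swap
  · obtain ⟨r, rfl⟩ := hspan z
    exact ⟨r, rfl⟩
  let a := r - r'
  have ha : a • g = 0 := by rw [sub_smul, sub_eq_zero]; exact h
  let t : A →ₗ[A] (Submodule.span A {a} : Ideal A) :=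
    (LinearMap.toSpanSingleton A A a).codRestrict _ fun b =>
      Submodule.smul_mem _ b (Submodule.mem_span_singleton_self a)
  have ht : Function.Surjective t := fun y => by
    obtain ⟨b, hb⟩ := Submodule.mem_span_singleton.1 y.2
    exact ⟨b, Subtype.ext hb⟩
  let I : Ideal A := Submodule.span A {a}
  have hinj : Function.Injective (GMap R Y (sub I) c) :=
    GMap_f_injective (S := ShortComplex.mk (sub I) (ModuleCat.ofHom I.mkQ)
        (ModuleCat.hom_ext (LinearMap.ext fun x => (Submodule.Quotient.mk_eq_zero _).2 x.2)))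
      { exact := (ShortComplex.moduleCat_exact_iff_range_eq_ker _).2
          ((Submodule.range_subtype _).trans (Submodule.ker_mkQ _).symm)
        mono_f := (ModuleCat.mono_iff_injective _).2 Subtype.val_injective
        epi_g := (ModuleCat.epi_iff_surjective _).2 (Submodule.mkQ_surjective _) } c (c - 1) (by omega)
      (subsingleton_GR hR hY (c - 1) (by omega) (A ⧸ I))
  have hzero : ∀ w : GR R Y (ModuleCat.of A I) c, w = 0 := fun w => by
    obtain ⟨z, rfl⟩ := hsurj t ht w
    refine hinj ?_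
    rw [← GMap_comp, show ModuleCat.ofHom t ≫ sub I = a • 𝟙 (ModuleCat.of A A) from
      ModuleCat.hom_ext (LinearMap.ext fun b => mul_comm b a), GMap_smul_id, map_zero]
    obtain ⟨b, rfl⟩ := hspan z
    rw [smul_comm, ha, smul_zero]
  have hne' : Nontrivial I := by
    refine ⟨⟨⟨a, Submodule.mem_span_singleton_self a⟩, 0, fun h => hne (sub_eq_zero.1 (congrArg Subtype.val h))⟩⟩
  obtain ⟨φ, hφ⟩ : ∃ φ : I →ₗ[A] IsLocalRing.ResidueField A, Function.Surjective φ := by
    have hm : (⟨a, Submodule.mem_span_singleton_self a⟩ : I) ∉ m • (⊤ : Submodule A I) := fun hmem => by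
      have htop : (⊤ : Submodule A I) ≤ m • ⊤ := fun y _ => by
        obtain ⟨b, rfl⟩ := ht y
        rw [show t b = b • (⟨a, Submodule.mem_span_singleton_self a⟩ : I) from Subtype.ext rfl]
        exact Submodule.smul_mem _ b hmem
      haveI : Nontrivial (Submodule A I) := (Submodule.nontrivial_iff A).2 hne'
      exact (top_ne_bot (α := Submodule A I)) (Submodule.eq_bot_of_le_smul_of_le_jacobson_bot m ⊤
        Module.Finite.fg_top htop (le_of_eq (IsLocalRing.jacobson_eq_maximalIdeal ⊥ bot_ne_top).symm))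
    obtain ⟨φ, hφ⟩ := DTenLib.Point.exists_functional m hm
    refine ⟨φ, fun y => ?_⟩
    letI : Field (A ⧸ m) := Ideal.Quotient.field m
    obtain ⟨b, hb⟩ := Submodule.Quotient.mk_surjective m ((show A ⧸ m from y) / (show A ⧸ m from φ ⟨a, Submodule.mem_span_singleton_self a⟩))
    refine ⟨b • ⟨a, Submodule.mem_span_singleton_self a⟩, ?_⟩
    rw [map_smul]
    change b • (φ ⟨a, _⟩ : A ⧸ m) = y
    rw [Algebra.smul_def]
    change (Submodule.Quotient.mk b : A ⧸ m) * _ = _
    rw [hb]
    exact div_mul_cancel₀ _ hφ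
  obtain ⟨w, hw⟩ := hsurj φ hφ (ℓ.symm (Ideal.Quotient.mk m 1))
  rw [hzero w, map_zero] at hw
  have := congrArg ℓ hw
  rw [map_zero, LinearEquiv.apply_symm_apply] at this
  exact one_notMem (Ideal.Quotient.eq_zero_iff_mem.1 this.symm)

/-- Maps between pointwise dualizing objects: one free line in one degree. -/
theorem exists_hom_generator :
    (∀ i, i ≠ d' - d → Subsingleton (R ⟶ Y⟦i⟧)) ∧
    ∃ g : R ⟶ Y⟦d' - d⟧, Function.Bijective (fun r : A => r • g) ∧
      ∃ f : sg (ModuleCat.of A (IsLocalRing.ResidueField A)) d ⟶ R, f ≫ g ≠ 0 := by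
  obtain ⟨u⟩ := nonempty_unit_iso (A := A)
  obtain ⟨eR⟩ := nonempty_RHom_unit R
  let e : R ≅ XR R (ModuleCat.of A A) := eR ≪≫ ((RHom A).mapIso u.symm.op).app R
  refine ⟨fun i hi => (precompL e (Y⟦i⟧)).toEquiv.subsingleton_congr.2 (subsingleton_GR hR hY i hi A), ?_⟩
  obtain ⟨g, hg, hg0⟩ := exists_generator hR hY
  obtain ⟨ek⟩ := nonempty_XR_residue hR
  refine ⟨(precompL e (Y⟦d' - d⟧)).symm g, ?_,
    ek.inv ≫ RHomMap ((DerivedCategory.singleFunctor (ModuleCat.{u} A) 0).map
      (ModuleCat.ofHom (IsLocalRing.maximalIdeal A).mkQ : ModuleCat.of A A ⟶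
        ModuleCat.of A (IsLocalRing.ResidueField A))) R ≫ e.inv, fun h => hg0 ?_⟩
  · have : (fun r : A => r • (precompL e (Y⟦d' - d⟧)).symm g) =
        (precompL e (Y⟦d' - d⟧)).symm ∘ (fun r : A => r • g) := funext fun r => (map_smul _ r g).symm
    rw [this]
    exact (precompL e (Y⟦d' - d⟧)).symm.bijective.comp hg
  · have hval : (precompL e (Y⟦d' - d⟧)).symm g = e.hom ≫ g := by
      simp [precompL, Linear.homCongr_symm_apply]
    rw [hval] at h
    simp only [Category.assoc, Iso.inv_hom_id_assoc] at h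
    exact (cancel_epi ek.inv).1 (h.trans comp_zero.symm)

end Generator

section Main

variable [IsLocalRing A] [IsNoetherianRing A]

/-- The recognition criterion. -/
theorem isDualizing_of_pointwise {R : Dual.D A} {d : ℤ} (hR : IsPointwiseDual R d) :
    Dual.IsDualizing A R := by
  obtain ⟨_, _, _, _⟩ := exists_binders A
  obtain ⟨hoff, g, hg, -⟩ := exists_hom_generator hR hR
  let z : R⟦d - d⟧ ≅ R := eqToIso (by rw [sub_self]) ≪≫ (shiftFunctorZero (Dual.D A) ℤ).app R
  let g₀ : R ⟶ R := g ≫ z.hom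
  have hg₀ : Function.Bijective (fun r : A => r • g₀) := by
    have : (fun r : A => r • g₀) = postcompL R z ∘ (fun r : A => r • g) := funext fun r => by
      show r • (g ≫ z.hom) = _
      rw [← Linear.smul_comp]
      simp [postcompL, Linear.homCongr_apply]
    rw [this]
    exact (postcompL R z).bijective.comp hg
  refine ⟨inferInstance, ext_all_bounds hR, hR.finite, ?_, fun i hi => hoff i (by omega)⟩
  obtain ⟨t, ht⟩ := hg₀.2 (𝟙 R)
  obtain ⟨s, hs⟩ := hg₀.2 (g₀ ≫ g₀)
  have h1 : g₀ = (t * s) • g₀ := by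
    calc g₀ = g₀ ≫ 𝟙 R := (Category.comp_id _).symm
      _ = g₀ ≫ (t • g₀) := by rw [← ht]
      _ = _ := by rw [Linear.comp_smul, ← hs, mul_smul]
  have hts : t * s = 1 := (hg₀.1 (show (1 : A) • g₀ = (t * s) • g₀ by rw [one_smul]; exact h1)).symm
  have : (fun r : A => r • 𝟙 R) = (fun r : A => r • g₀) ∘ (fun r : A => r * t) := funext fun r => by
    show r • 𝟙 R = (r * t) • g₀
    rw [mul_smul, ← ht]
  rw [this]
  exact hg₀.comp ⟨fun x y h => by
    have h' := congrArg (· * s) h
    simp only [mul_assoc, hts, mul_one] at h'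
    exact h', fun x => ⟨x * s, by show x * s * t = x; rw [mul_assoc, mul_comm s, hts, mul_one]⟩⟩

theorem eq_zero_or_line {V : Type (u + 1)} [AddCommGroup V] [Module A V]
    (e : V ≃ₗ[A] IsLocalRing.ResidueField A) {v : V} (hv : v ≠ 0) (x : V) : ∃ r : A, x = r • v := by
  letI : Field (A ⧸ IsLocalRing.maximalIdeal A) := Ideal.Quotient.field _
  obtain ⟨r, hr⟩ := Ideal.Quotient.mk_surjective
    ((e x : A ⧸ IsLocalRing.maximalIdeal A) / (e v : A ⧸ IsLocalRing.maximalIdeal A))
  refine ⟨r, e.injective ?_⟩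
  rw [map_smul]
  change (e x : A ⧸ IsLocalRing.maximalIdeal A) = r • (e v : A ⧸ IsLocalRing.maximalIdeal A)
  rw [Algebra.smul_def]
  exact (div_mul_cancel₀ _ (fun h => hv (e.map_eq_zero_iff.1 h))).symm.trans
    (congrArg (· * _) hr.symm)

theorem nonempty_iso_shift {R Y : Dual.D A} {d d' : ℤ} (hR : IsPointwiseDual R d) (hY : IsPointwiseDual Y d') :
    Nonempty (Y⟦d' - d⟧ ≅ R) := by
  obtain ⟨_, _, _, _⟩ := exists_binders A
  obtain ⟨-, g, -, f, hf⟩ := exists_hom_generator hR hY
  let k := ModuleCat.of A (IsLocalRing.ResidueField A)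
  let s : ∀ j, (sg k 0)⟦-j⟧ ≅ sg k j := fun j => DTenLib.Point.shiftSg _ 0 (-j) ≪≫ eqToIso (by simp)
  let LR : ∀ j, (sg k j ⟶ R) ≃ₗ[A] (sg k 0 ⟶ R⟦j⟧) := fun j => (precompL (s j).symm R).trans (shiftL _ R j)
  let LY : ∀ j, (sg k j ⟶ Y⟦(d' - d)⟧) ≃ₗ[A] (sg k 0 ⟶ Y⟦(d' - d) + j⟧) := fun j =>
    ((precompL (s j).symm _).trans (shiftL _ (Y⟦(d' - d)⟧) j)).trans (postcompL _ (shift₂ Y (d' - d) j ((d' - d) + j) rfl))
  have hf0 : f ≠ 0 := fun h => hf (by rw [h, zero_comp])
  have hbij : ∀ j, Function.Bijective fun x : sg k j ⟶ R => x ≫ g := fun j => by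
    by_cases hj : j = d
    · subst hj
      refine ⟨fun x y h => ?_, fun y => ?_⟩
      · obtain ⟨r, hr⟩ := eq_zero_or_line ((LR j).trans hR.line.some) hf0 (x - y)
        have h0 : (x - y) ≫ g = 0 := by rw [Preadditive.sub_comp, sub_eq_zero]; exact h
        rw [← sub_eq_zero]
        by_cases hrm : r ∈ IsLocalRing.maximalIdeal A
        · rw [hr, ← Category.id_comp f, ← Linear.smul_comp]
          exact (congrArg (· ≫ f) (DTenLib.Point.smul_id_sg _ hrm j)).trans zero_comp
        · exfalso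
          rw [hr, Linear.smul_comp] at h0
          exact hf ((IsUnit.smul_eq_zero (IsLocalRing.notMem_maximalIdeal.1 hrm)).1 h0)
      · obtain ⟨r, hr⟩ := eq_zero_or_line (((LY j).trans (postcompL _ (eqToIso (by rw [sub_add_cancel])))).trans
          hY.line.some) hf y
        exact ⟨r • f, by show (r • f) ≫ g = y; rw [Linear.smul_comp, hr]⟩
    · haveI := (LR j).toEquiv.subsingleton_congr.2 (hR.vanishes j hj)
      haveI := (LY j).toEquiv.subsingleton_congr.2 (hY.vanishes ((d' - d) + j) (by omega))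
      exact ⟨fun x y _ => Subsingleton.elim x y, fun y => ⟨0, Subsingleton.elim _ _⟩⟩
  obtain ⟨Z, p, δ, hT⟩ := Pretriangulated.distinguished_cocone_triangle g
  suffices IsZero Z by
    haveI : IsIso g := (Triangle.isZero₃_iff_isIso₁ _ hT).1 this
    exact ⟨(asIso g).symm⟩
  have hZk : ∀ j, Subsingleton (sg k j ⟶ Z) := fun j => by
    refine subsingleton_of_forall_eq 0 fun x => ?_
    have h1 : x ≫ δ = 0 := by
      let e : sg k j ≅ (sg k (j + 1))⟦(1 : ℤ)⟧ := eqToIso (by simp) ≪≫ (DTenLib.Point.shiftSg k (j + 1) 1).symm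
      obtain ⟨y, hy⟩ := (shiftFunctor (Dual.D A) (1 : ℤ)).map_surjective (e.inv ≫ x ≫ δ)
      have hyg : y ≫ g = 0 := (shiftFunctor (Dual.D A) (1 : ℤ)).map_injective (by
        have h0 : δ ≫ g⟦(1 : ℤ)⟧' = 0 := Pretriangulated.comp_distTriang_mor_zero₃₁ _ hT
        rw [Functor.map_comp, hy, Category.assoc, Category.assoc, h0, comp_zero, comp_zero, Functor.map_zero])
      rw [← cancel_epi e.inv, ← hy, (hbij (j + 1)).1 (hyg.trans zero_comp.symm), Functor.map_zero, comp_zero]
    obtain ⟨y, rfl⟩ := Triangle.coyoneda_exact₃ _ hT x h1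
    obtain ⟨w, rfl⟩ := (hbij j).2 y
    show (w ≫ g) ≫ p = 0
    have h0 : g ≫ p = 0 := Pretriangulated.comp_distTriang_mor_zero₁₂ _ hT
    rw [Category.assoc, h0, comp_zero]
  obtain ⟨a, haR⟩ := hR.bddBelow
  obtain ⟨a', haY⟩ := hY.bddBelow
  haveI : (Y⟦(d' - d)⟧).IsGE (a' - (d' - d)) := DerivedCategory.TStructure.t.isGE_shift Y a' (d' - d) (a' - (d' - d)) (by omega)
  let T := Triangle.mk g p δ
  have hYc : ∀ i, Module.Finite A ((hH A i).obj (Y⟦(d' - d)⟧)) := fun i => by
    haveI : Module.Finite A (((hH A 0).shift (i + (d' - d))).obj Y) := hY.finite (i + (d' - d))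
    exact Module.Finite.equiv
      ((((hH A 0).shiftIso (d' - d) i (i + (d' - d)) (by omega)).app Y).toLinearEquiv).symm
  have hfinZ : ∀ i, Module.Finite A ((hH A i).obj Z) := fun i => by
    haveI := hR.finite (i + 1)
    haveI : IsNoetherian A ((hH A i).obj T.obj₂) := isNoetherian_of_isNoetherianRing_of_finite A ((hH A i).obj (Y⟦(d' - d)⟧))
    haveI : IsNoetherian A ((hH A (i + 1)).obj T.obj₁) := isNoetherian_of_isNoetherianRing_of_finite A ((hH A (i + 1)).obj R)
    haveI : IsNoetherian A ((hH A i).obj Z) :=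
      DTenLib.Point.isNoetherian_middle (DerivedCategory.HomologySequence.exact₃ T hT i (i + 1) rfl)
    infer_instance
  have hZk' : ∀ i, Subsingleton (Dual.inD A (IsLocalRing.ResidueField A) ⟶ Z⟦i⟧) := fun i =>
    ((precompL (s i).symm Z).trans (shiftL _ Z i)).toEquiv.subsingleton_congr.1 (hZk i)
  have hge : Z.IsGE (min (a' - (d' - d)) (a - 1)) := (DerivedCategory.isGE_iff Z _).2 fun i hi =>
    (DerivedCategory.HomologySequence.exact₃ T hT i (i + 1) rfl).isZero_of_both_zeros
      ((DerivedCategory.isZero_of_isGE (Y⟦(d' - d)⟧) (a' - (d' - d)) i (by omega)).eq_of_src _ _)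
      ((DerivedCategory.isZero_of_isGE R a (i + 1) (by omega)).eq_of_tgt _ _)
  refine DRingLib.isZero_of_isZero_Hn fun i => ?_
  haveI := wellFoundedGT_primeSpectrum (A := A)
  haveI : Subsingleton (Ext Z (ModuleCat.of A A) i) := by
    refine subsingleton_of_van_closedPt (van_ext_of_primes i fun q _ _ => ?_)
    revert i
    intro i
    refine (WellFoundedGT.induction (motive := fun q => ∀ i, Van (closedPt A).asIdeal
      (Ext Z (ModuleCat.of A (A ⧸ q.asIdeal)) i)) q fun q ih => ?_) i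
    intro i
    rcases eq_or_lt_of_le (le_closedPt q) with rfl | hlt
    · exact @van_of_subsingleton A _ _ _ _ _ _ (hZk' i)
    obtain ⟨x, hxm, hxq⟩ := Set.exists_of_ssubset (show q.asIdeal < (closedPt A).asIdeal from hlt)
    haveI : Module.Finite A (mulSeq (ModuleCat.of A (A ⧸ q.asIdeal)) x).X₃ :=
      inferInstanceAs (Module.Finite A (_ ⧸ _))
    refine van_ext_of_regular hge hfinZ (M := ModuleCat.of A (A ⧸ q.asIdeal)) hxm (isSMulRegular_quot q hxq) i
      (van_ext_of_primes (M := (mulSeq (ModuleCat.of A (A ⧸ q.asIdeal)) x).X₃) (i + 1) fun r hr _ => ?_)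
    have hle := le_of_mem_support_mulSeq hr
    exact ih r (lt_of_le_of_ne (le_sup_left.trans hle) fun h => hxq (by
      rw [h]; exact hle (Ideal.mem_sup_right (Ideal.mem_span_singleton_self x)))) (i + 1)
  haveI : Subsingleton ((hH A i).obj Z) := (extHL Z i).toEquiv.subsingleton_congr.1 ‹_›
  exact ModuleCat.isZero_of_subsingleton _

end Main

end Groth.Agent.DualCxLib
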