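import Groth.Agent.DualCxLib.LocDual
import Groth.Agent.DualCxLib.Uniq
import Groth.Agent.DerLib.Devissage
import Groth.Prelude.Def_CAlg
import Mathlib.RingTheory.Spectrum.Prime.FreeLocus

/-!
# The Gorenstein locus through a dualizing complex
-/

set_option autoImplicit false
set_option linter.style.haveILetI false
set_option linter.unusedSectionVars false

universe u

open CategoryTheory CategoryTheory.Limits
open Groth.Agent
open DTenLib.Point (hH sg)

attribute [local instance] HasDerivedCategory.standard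

noncomputable section

namespace Groth.Agent.DualCxLib

variable {A : Type u} [CommRing A]

/-- A ring of finite injective dimension is its own dualizing complex. -/
theorem isDualizing_inD_self [IsNoetherianRing A]
    (h : ∃ n : ℕ, HasInjectiveDimensionLT (ModuleCat.of A A) n) : Dual.IsDualizing A (Dual.inD A A) := by
  obtain ⟨n, hn⟩ := h
  have hneg : ∀ (N : ModuleCat.{u} A) (i : ℤ), i < 0 → Subsingleton
      ((DerivedCategory.singleFunctor (ModuleCat.{u} A) 0).obj N ⟶ (Dual.inD A A)⟦i⟧) := fun N i hi => by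
    refine subsingleton_of_forall_eq 0 fun f => ?_
    haveI := DerivedCategory.TStructure.t.isGE_shift (Dual.inD A A) 0 i (-i) (by omega)
    exact DerivedCategory.TStructure.t.zero f 0 (-i) (by omega)
  refine ⟨inferInstance, ⟨0, n, fun N _ _ i hi => ?_⟩, fun i => ?_, ⟨fun x y hxy => ?_, fun g => ?_⟩,
    fun i hi => ?_⟩
  · rcases hi with hi | hi
    · exact hneg _ i hi
    · obtain ⟨m, rfl⟩ := Int.eq_ofNat_of_zero_le (show 0 ≤ i by omega)
      haveI := HasInjectiveDimensionLT.subsingleton (ModuleCat.of A A) n m (by omega) (ModuleCat.of A N)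
      exact (Abelian.Ext.homEquiv (X := ModuleCat.of A N) (Y := ModuleCat.of A A) (n := m)).symm.subsingleton
  · rcases eq_or_ne i 0 with rfl | hi
    · exact Module.Finite.equiv (DTenLib.Point.sgH (ModuleCat.of A A) 0).toLinearEquiv.symm
    · haveI := ModuleCat.subsingleton_of_isZero (DTenLib.Point.isZero_sg (N := ModuleCat.of A A) hi)
      exact inferInstanceAs (Module.Finite A ((hH A i).obj (sg (ModuleCat.of A A) 0)))
  · have h1 : x • 𝟙 (ModuleCat.of A A) = y • 𝟙 (ModuleCat.of A A) :=
      (DerivedCategory.singleFunctor (ModuleCat.{u} A) 0).map_injective (by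
        rw [Functor.map_smul, Functor.map_smul, CategoryTheory.Functor.map_id]
        exact hxy)
    have h2 := LinearMap.congr_fun (congrArg ModuleCat.Hom.hom h1) (1 : A)
    simpa using h2
  · obtain ⟨f, rfl⟩ := (DerivedCategory.singleFunctor (ModuleCat.{u} A) 0).map_surjective g
    refine ⟨f.hom 1, ?_⟩
    show f.hom 1 • 𝟙 _ = _
    rw [← CategoryTheory.Functor.map_id, ← Functor.map_smul]
    refine congrArg _ (ModuleCat.hom_ext (LinearMap.ext_ring ?_))
    exact mul_one _
  · haveI := ModuleCat.subsingleton_of_isZero (DTenLib.Point.isZero_sg (N := ModuleCat.of A A) hi)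
    exact (extHL (Dual.inD A A) i).toEquiv.subsingleton

variable {ω : Dual.D A}

theorem injDim_of_iso (hω : Dual.IsDualizing A ω) (n : ℤ) (e : Dual.inD A A ≅ ω⟦n⟧) :
    ∃ m : ℕ, HasInjectiveDimensionLT (ModuleCat.of A A) m := by
  obtain ⟨a, b, hab⟩ := hω.finite_injective_dimension
  refine ⟨(b - n + 1).toNat, ⟨fun i hi Y => ?_⟩⟩
  letI := HasExt.standard (ModuleCat.{u} A)
  haveI := hab Y (n + i) (Or.inr (by omega))
  exact (Abelian.Ext.homEquiv (X := Y) (Y := ModuleCat.of A A) (n := i)).trans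
    ((Iso.refl _).homCongr (((shiftFunctor (Dual.D A) (i : ℤ)).mapIso e) ≪≫
      shift₂ ω n i (n + i) rfl)) |>.subsingleton

theorem gorenstein_iff [IsLocalRing A] [IsNoetherianRing A] (hω : Dual.IsDualizing A ω) :
    LocCoh.IsGorensteinLocalRing A ↔ ∃ n : ℤ, Nonempty (Dual.inD A A ≅ ω⟦n⟧) := by
  refine ⟨fun h => ?_, fun ⟨n, ⟨e⟩⟩ => { exists_hasInjectiveDimensionLT := injDim_of_iso hω n e }⟩
  obtain ⟨d, hd⟩ := isPointwiseDual_of_isDualizing (isDualizing_inD_self h.exists_hasInjectiveDimensionLT)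
  obtain ⟨d', hd'⟩ := isPointwiseDual_of_isDualizing hω
  obtain ⟨e⟩ := nonempty_iso_shift hd hd'
  exact ⟨d' - d, ⟨e.symm⟩⟩

/-- The cohomology of a shift. -/
def hHShift (X : Dual.D A) (n i j : ℤ) (h : n + i = j) : (hH A i).obj (X⟦n⟧) ≅ (hH A j).obj X :=
  ((DerivedCategory.homologyFunctor (ModuleCat.{u} A) 0).shiftIso n i j h).app X

theorem gorenstein_iff_HD [IsLocalRing A] [IsNoetherianRing A] (hω : Dual.IsDualizing A ω) :
    LocCoh.IsGorensteinLocalRing A ↔
      ∃ e : ℤ, (∀ i, i ≠ e → Subsingleton (Dual.HD A ω i)) ∧ Nonempty (Dual.HD A ω e ≃ₗ[A] A) := by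
  rw [gorenstein_iff hω]
  constructor
  · rintro ⟨n, ⟨e⟩⟩
    let f : ∀ i, (hH A i).obj (Dual.inD A A) ≅ (hH A (n + i)).obj ω := fun i =>
      (hH A i).mapIso e ≪≫ hHShift ω n i (n + i) rfl
    refine ⟨n, fun i hi => ?_, ?_⟩
    · haveI := ModuleCat.subsingleton_of_isZero
        (DTenLib.Point.isZero_sg (N := ModuleCat.of A A) (show i - n ≠ 0 by omega))
      haveI : Subsingleton ((hH A (n + (i - n))).obj ω) :=
        (f (i - n)).toLinearEquiv.toEquiv.symm.subsingleton
      rwa [add_sub_cancel] at this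
    · have := (f 0).symm ≪≫ DTenLib.Point.sgH (ModuleCat.of A A) 0
      rw [add_zero] at this
      exact ⟨this.toLinearEquiv⟩
  · rintro ⟨e, hz, ⟨q⟩⟩
    haveI : ω.IsGE e := (DerivedCategory.isGE_iff ω e).2 fun i hi => by
      haveI := hz i (by omega)
      exact ModuleCat.isZero_of_subsingleton _
    haveI : ω.IsLE e := (DerivedCategory.isLE_iff ω e).2 fun i hi => by
      haveI := hz i (by omega)
      exact ModuleCat.isZero_of_subsingleton _
    obtain ⟨c⟩ := Groth.Agent.DerLib.Devissage.nonempty_iso_single ω e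
    let s : sg (ModuleCat.of A A) e ≅ (sg (ModuleCat.of A A) 0)⟦-e⟧ :=
      eqToIso (by simp) ≪≫ (DTenLib.Point.shiftSg (ModuleCat.of A A) 0 (-e)).symm
    let d : ω ≅ (Dual.inD A A)⟦-e⟧ :=
      c ≪≫ (DerivedCategory.singleFunctor (ModuleCat.{u} A) e).mapIso q.toModuleIso ≪≫ s
    exact ⟨e, ⟨((shiftFunctorCompIsoId (Dual.D A) (-e) e (by omega)).app _).symm ≪≫
      ((shiftFunctor (Dual.D A) e).mapIso d).symm⟩⟩

section Prime

variable [IsNoetherianRing A] (p : PrimeSpectrum A)

theorem nonempty_HD_loc {Z : Dual.D (Localization.AtPrime p.asIdeal)}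
    {η : ω ⟶ (DRing.restrictD (algebraMap A (Localization.AtPrime p.asIdeal))).obj Z}
    (hL : IsLocH (algebraMap A (Localization.AtPrime p.asIdeal)) p.asIdeal.primeCompl η) (i : ℤ) :
    Nonempty (LocalizedModule p.asIdeal.primeCompl (Dual.HD A ω i) ≃ₗ[Localization.AtPrime p.asIdeal]
      Dual.HD (Localization.AtPrime p.asIdeal) Z i) := by
  obtain ⟨e⟩ := DRingLib.exists_homology_iso_mapDerived
    (ModuleCat.restrictScalars.{u} (algebraMap A (Localization.AtPrime p.asIdeal))) Z i
  letI : Module A (Dual.HD (Localization.AtPrime p.asIdeal) Z i) :=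
    Module.compHom _ (algebraMap A (Localization.AtPrime p.asIdeal))
  haveI : IsScalarTower A (Localization.AtPrime p.asIdeal) (Dual.HD (Localization.AtPrime p.asIdeal) Z i) :=
    IsScalarTower.of_algebraMap_smul fun _ _ => rfl
  let e' : (hH A i).obj ((DRing.restrictD _).obj Z) ≃ₗ[A] Dual.HD (Localization.AtPrime p.asIdeal) Z i :=
    e.toLinearEquiv
  haveI := hL i
  haveI : IsLocalizedModule p.asIdeal.primeCompl (e'.toLinearMap.comp ((hH A i).map η).hom) :=
    IsLocalizedModule.of_linearEquiv _ _ e'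
  exact ⟨(IsLocalizedModule.iso p.asIdeal.primeCompl
    (e'.toLinearMap.comp ((hH A i).map η).hom)).extendScalarsOfIsLocalization p.asIdeal.primeCompl _⟩

theorem gorenstein_atPrime_iff (hω : Dual.IsDualizing A ω) :
    LocCoh.IsGorensteinLocalRing (Localization.AtPrime p.asIdeal) ↔
      ∃ e : ℤ, (∀ i, i ≠ e → p ∉ Module.support A (Dual.HD A ω i)) ∧
        Nonempty (LocalizedModule p.asIdeal.primeCompl (Dual.HD A ω e) ≃ₗ[Localization.AtPrime p.asIdeal]
          Localization.AtPrime p.asIdeal) := by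
  haveI := DRingLib.hasLBaseChange (algebraMap A (Localization.AtPrime p.asIdeal))
  obtain ⟨η, hη, hL⟩ := exists_loc_base (S := Localization.AtPrime p.asIdeal) p.asIdeal.primeCompl ω
  haveI : IsNoetherianRing (Localization.AtPrime p.asIdeal) :=
    IsLocalization.isNoetherianRing p.asIdeal.primeCompl _ inferInstance
  rw [gorenstein_iff_HD (isDualizing_loc p.asIdeal.primeCompl hω hη hL)]
  have ε := fun i => (nonempty_HD_loc p hL i).some
  refine exists_congr fun e => and_congr (forall_congr' fun i => imp_congr_right fun _ => ?_)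
    ⟨fun ⟨q⟩ => ⟨(ε e).trans q⟩, fun ⟨q⟩ => ⟨(ε e).symm.trans q⟩⟩
  rw [Module.notMem_support_iff]
  exact (ε i).symm.toEquiv.subsingleton_congr

end Prime

/-- The Gorenstein locus is open. -/
theorem isOpen_gorenstein [IsNoetherianRing A] (hω : Dual.IsDualizing A ω) :
    IsOpen {p : PrimeSpectrum A | LocCoh.IsGorensteinLocalRing (Localization.AtPrime p.asIdeal)} := by
  obtain ⟨a, b, hab⟩ := hω.finite_injective_dimension
  haveI := hω.finite_cohomology
  refine isOpen_iff_forall_mem_open.2 fun p hp => ?_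
  obtain ⟨e, hz, ⟨q⟩⟩ := (gorenstein_atPrime_iff p hω).1 hp
  haveI : Module.FinitePresentation A (Dual.HD A ω e) := Module.finitePresentation_of_finite A _
  have hfree : p ∈ Module.freeLocus A (Dual.HD A ω e) := Module.Free.of_equiv q.symm
  let F : Set (Module.freeLocus A (Dual.HD A ω e)) := {x | Module.rankAtStalk (Dual.HD A ω e) x.1 = 1}
  let V : Set (PrimeSpectrum A) :=
    (⋃ i ∈ (Finset.Icc a b).erase e, Module.support A (Dual.HD A ω i))ᶜ ∩ Subtype.val '' F
  refine ⟨V, fun x hx => ?_, ?_, ⟨?_, ⟨p, hfree⟩, ?_, rfl⟩⟩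
  · obtain ⟨h1, ⟨x, hxf⟩, hx1, rfl⟩ := hx
    refine (gorenstein_atPrime_iff x hω).2 ⟨e, fun i hi => ?_, ?_⟩
    · by_cases hib : i ∈ Finset.Icc a b
      · exact fun h => h1 (Set.mem_biUnion (Finset.mem_erase.2 ⟨hi, hib⟩) h)
      · haveI : Subsingleton (Dual.HD A ω i) := ModuleCat.subsingleton_of_isZero
          (isZero_of_ext_ring i (hab _ i (by rw [Finset.mem_Icc] at hib; omega)))
        rw [Module.support_eq_empty]
        exact Set.notMem_empty _
    · haveI : Module.Free (Localization.AtPrime x.asIdeal)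
          (LocalizedModule x.asIdeal.primeCompl (Dual.HD A ω e)) := hxf
      haveI : Module.Finite (Localization.AtPrime x.asIdeal)
          (LocalizedModule x.asIdeal.primeCompl (Dual.HD A ω e)) := inferInstance
      exact ⟨(Module.finBasisOfFinrankEq _ _ hx1).equivFun.trans (LinearEquiv.funUnique (Fin 1) _ _)⟩
  · refine IsOpen.inter (isOpen_compl_iff.2 (Set.Finite.isClosed_biUnion (Finset.finite_toSet _)
      fun i _ => Module.isClosed_support)) ?_
    exact Module.isOpen_freeLocus.isOpenMap_subtype_val F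
      (Module.isLocallyConstant_rankAtStalk_freeLocus.isOpen_fiber 1)
  · intro h
    obtain ⟨i, hi, h'⟩ := Set.mem_iUnion₂.1 h
    exact hz i (Finset.mem_erase.1 hi).1 h'
  · show Module.finrank _ _ = 1
    rw [q.finrank_eq, Module.finrank_self]

end Groth.Agent.DualCxLib
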