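import Groth.Agent.DualCxLib.LocDualApps
import Groth.Agent.DualCxLib.GorLoc
import Groth.Agent.GorLib.Basic
import Groth.Agent.InjHullLib.Quotient
import Groth.Agent.LocCohLib.BaseChange

/-!
# Local cohomology of Gorenstein local rings
-/

set_option autoImplicit false
set_option linter.style.haveILetI false
set_option linter.unusedSectionVars false

universe u

open CategoryTheory CategoryTheory.Limits
open Groth.Agent
open DTenLib.Point (hH sg)

attribute [local instance] HasDerivedCategory.standard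

noncomputable section

namespace Groth.Agent.DualCxLib

variable {A : Type u} [CommRing A]

theorem isDualizing_shift {ω : Dual.D A} (h : Dual.IsDualizing A ω) (n : ℤ) : Dual.IsDualizing A (ω⟦n⟧) := by
  obtain ⟨a, b, hab⟩ := h.finite_injective_dimension
  refine ⟨h.isNoetherianRing, ⟨a - n, b - n, fun N _ _ i hi => ?_⟩, fun i => ?_, ⟨fun x y hxy => ?_, fun g => ?_⟩,
    fun i hi => ?_⟩
  · exact ((Iso.refl _).homCongr (shift₂ ω n i (n + i) rfl).symm).subsingleton_congr.1 (hab N (n + i) (by omega))
  · haveI := h.finite_cohomology (n + i)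
    exact Module.Finite.equiv (hHShift ω n i (n + i) rfl).symm.toLinearEquiv
  · refine h.toEnd_bijective.1 ((shiftFunctor (Dual.D A) n).map_injective ?_)
    show (shiftFunctor (Dual.D A) n).map (x • 𝟙 ω) = (shiftFunctor (Dual.D A) n).map (y • 𝟙 ω)
    rw [Functor.map_smul, Functor.map_smul, CategoryTheory.Functor.map_id]
    exact hxy
  · obtain ⟨f, rfl⟩ := (shiftFunctor (Dual.D A) n).map_surjective g
    obtain ⟨r, rfl⟩ := h.toEnd_bijective.2 f
    refine ⟨r, ?_⟩
    show r • 𝟙 _ = (shiftFunctor (Dual.D A) n).map (r • 𝟙 ω)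
    rw [Functor.map_smul, CategoryTheory.Functor.map_id]
  · refine subsingleton_of_forall_eq 0 fun g => ?_
    obtain ⟨f, hf⟩ := (shiftFunctor (Dual.D A) n).map_surjective
      (g ≫ (shift₂ ω n i (n + i) rfl).hom ≫ (shift₂ ω i n (n + i) (add_comm i n)).inv)
    rw [(h.ext_self_subsingleton i hi).elim f 0, Functor.map_zero] at hf
    exact (cancel_mono ((shift₂ ω n i (n + i) rfl).hom ≫ (shift₂ ω i n (n + i) (add_comm i n)).inv)).1
      (hf.symm.trans zero_comp.symm)

theorem isInjectiveHull_comp_equiv {M E E' : Type u} [AddCommGroup M] [Module A M] [AddCommGroup E] [Module A E]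
    [AddCommGroup E'] [Module A E'] {f : M →ₗ[A] E} (hf : InjHull.IsInjectiveHull f) (e : E ≃ₗ[A] E') :
    InjHull.IsInjectiveHull (e.toLinearMap ∘ₗ f) where
  injective := e.injective.comp hf.injective
  isInjective := InjHullLib.injective_of_equiv hf.isInjective e
  essential N hN h := by
    refine hf.essential (N.comap e.toLinearMap) (fun hb => hN ?_) (eq_bot_iff.2 ?_)
    · refine eq_bot_iff.2 fun y hy => (Submodule.mem_bot A).2 ?_
      have : e.symm y ∈ N.comap e.toLinearMap := by simpa using hy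
      rw [hb, Submodule.mem_bot, LinearEquiv.map_eq_zero_iff] at this
      exact this
    · rintro y ⟨hy, c, rfl⟩
      have : e (f c) ∈ N ⊓ LinearMap.range (e.toLinearMap ∘ₗ f) := ⟨hy, c, rfl⟩
      rw [h, Submodule.mem_bot, LinearEquiv.map_eq_zero_iff] at this
      exact (Submodule.mem_bot A).2 this

variable [IsLocalRing A]

theorem exists_gorenstein_degree [LocCoh.IsGorensteinLocalRing A] :
    ∃ e : ℕ, (∀ i : ℕ, i ≠ e → Subsingleton (LocCoh.H (IsLocalRing.maximalIdeal A) i A)) ∧
      ∃ g : IsLocalRing.ResidueField A →ₗ[A] LocCoh.H (IsLocalRing.maximalIdeal A) e A, InjHull.IsInjectiveHull g := by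
  let ω₀ := Dual.inD A A
  have h₀ := isDualizing_inD_self (A := A) LocCoh.IsGorensteinLocalRing.exists_hasInjectiveDimensionLT
  obtain ⟨N, hN, ⟨eN⟩⟩ := ext_residueField_single_degree ω₀ h₀ (IsLocalRing.maximalIdeal A)
  obtain ⟨e, rfl⟩ := Int.eq_ofNat_of_zero_le (show 0 ≤ N by
    by_contra hlt
    haveI : Subsingleton (Dual.inD A (A ⧸ IsLocalRing.maximalIdeal A) ⟶ ω₀⟦N⟧) := subsingleton_of_forall_eq 0 fun f => by
      haveI := DerivedCategory.TStructure.t.isGE_shift ω₀ 0 N (-N) (by omega)
      exact DerivedCategory.TStructure.t.zero f 0 (-N) (by omega)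
    exact not_subsingleton (A ⧸ IsLocalRing.maximalIdeal A) eN.symm.injective.subsingleton)
  have hω := isDualizing_shift h₀ (e : ℤ)
  have hn : Dual.IsNormalized A (ω₀⟦(e : ℤ)⟧) := fun i hi =>
    (((Iso.refl _).homCongr (shift₂ ω₀ (e : ℤ) i ((e : ℤ) + i) rfl))).subsingleton_congr.2
      (hN _ (by omega))
  obtain ⟨E, _, _, f, hf⟩ := InjHullLib.exists_injectiveHull (R := A) (IsLocalRing.ResidueField A)
  refine ⟨e, fun i hi => ?_, ?_⟩
  · obtain ⟨d⟩ := nonempty_localDuality hω hn hf A i
    haveI := ModuleCat.subsingleton_of_isZero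
      (DTenLib.Point.isZero_sg (N := ModuleCat.of A A) (show (e : ℤ) + -(i : ℤ) ≠ 0 by omega))
    haveI : Subsingleton (Ext (ω₀⟦(e : ℤ)⟧) (ModuleCat.of A A) (-(i : ℤ))) :=
      ((postcompL _ (shift₂ ω₀ (e : ℤ) (-(i : ℤ)) _ rfl)).trans (extHL ω₀ _)).toEquiv.subsingleton
    exact d.toEquiv.subsingleton_congr.2
      (subsingleton_of_forall_eq 0 fun φ => LinearMap.ext fun x => by rw [Subsingleton.elim x 0, map_zero, map_zero])
  · obtain ⟨d⟩ := nonempty_localDuality hω hn hf A e
    let a : Ext (ω₀⟦(e : ℤ)⟧) (ModuleCat.of A A) (-(e : ℤ)) ≃ₗ[A] A :=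
      ((postcompL _ (shift₂ ω₀ (e : ℤ) (-(e : ℤ)) 0 (add_neg_cancel _))).trans (extHL ω₀ 0)).trans
        (DTenLib.Point.sgH (ModuleCat.of A A) 0).toLinearEquiv
    let c : LocCoh.H (IsLocalRing.maximalIdeal A) e A ≃ₗ[A] E :=
      d.trans ((a.arrowCongr (LinearEquiv.refl A E)).trans (LinearMap.ringLmapEquivSelf A A E))
    exact ⟨c.symm.toLinearMap ∘ₗ f, isInjectiveHull_comp_equiv hf c.symm⟩

theorem gorenstein_localCohomology [LocCoh.IsGorensteinLocalRing A] (n : ℕ) (hn : ringKrullDim A = n) :
    (∀ i : ℕ, i ≠ n → Subsingleton (LocCoh.H (IsLocalRing.maximalIdeal A) i A)) ∧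
      ∃ g : IsLocalRing.ResidueField A →ₗ[A] LocCoh.H (IsLocalRing.maximalIdeal A) n A, InjHull.IsInjectiveHull g := by
  obtain ⟨e, hz, hg⟩ := exists_gorenstein_degree (A := A)
  obtain rfl : n = e := by
    by_contra hne
    haveI := hz n hne
    haveI := (LocCohLib.nonvanishing n A (by rw [Module.supportDim_self_eq_ringKrullDim, hn])).1
    exact not_subsingleton (LocCoh.H (IsLocalRing.maximalIdeal A) n A) inferInstance
  exact ⟨hz, hg⟩

end Groth.Agent.DualCxLib

namespace InjHullLib

theorem injective_torsionBy {R : Type u} [CommRing R] (b : Ideal R) {H : Type u} [AddCommGroup H] [Module R H]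
    (hH : Module.Injective R H) : Module.Injective (R ⧸ b) (Submodule.torsionBySet R H (b : Set R)) := by
  refine Module.Baer.injective fun J φ => ?_
  let φ' : (J.comap (Ideal.Quotient.mk b) : Ideal R) →ₗ[R] H :=
    { toFun := fun r => (φ ⟨Ideal.Quotient.mk b r.1, r.2⟩ : Submodule.torsionBySet R H (b : Set R)).1
      map_add' := fun r s => by
        rw [← Submodule.coe_add, ← map_add]
        rfl
      map_smul' := fun c r => by
        rw [RingHom.id_apply, ← Submodule.coe_smul]
        exact congrArg Subtype.val (map_smul φ (Ideal.Quotient.mk b c) ⟨Ideal.Quotient.mk b r.1, r.2⟩) }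
  obtain ⟨ψ, hψ⟩ := (Module.Baer.of_injective hH) _ φ'
  refine ⟨LinearMap.toSpanSingleton (R ⧸ b) _ ⟨ψ 1, InjHullLib.mem_torsionBy_iff.2 fun a ha => ?_⟩, fun z hz => ?_⟩
  · rw [← map_smul, smul_eq_mul, mul_one, hψ a (by simp [Ideal.Quotient.eq_zero_iff_mem.2 ha])]
    refine (congrArg (fun j : J => (φ j).1) (Subtype.ext ?_)).trans ((congrArg Subtype.val (map_zero φ)).trans rfl)
    exact Ideal.Quotient.eq_zero_iff_mem.2 ha
  · obtain ⟨r, rfl⟩ := Ideal.Quotient.mk_surjective z
    refine Subtype.ext ?_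
    show r • ψ 1 = _
    rw [← map_smul, smul_eq_mul, mul_one]
    exact hψ r hz

end InjHullLib

namespace Groth.Agent.DualCxLib

/-- A ring with one injective local cohomology module is Gorenstein. -/
theorem gorenstein_of_single_injective : ∀ (d : ℕ) (A : Type u) [CommRing A] [IsLocalRing A] [IsNoetherianRing A],
    (∀ i : ℕ, i ≠ d → Subsingleton (LocCoh.H (IsLocalRing.maximalIdeal A) i A)) →
    Module.Injective A (LocCoh.H (IsLocalRing.maximalIdeal A) d A) → LocCoh.IsGorensteinLocalRing A := by
  intro d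
  induction d with
  | zero =>
    intro A _ _ _ hz hinj
    obtain ⟨k, hk⟩ : ∃ k : ℕ, ringKrullDim A = k := by
      obtain ⟨v, hv⟩ := WithBot.ne_bot_iff_exists.1 (ringKrullDim_ne_bot (R := A))
      obtain ⟨k, hk⟩ := ENat.ne_top_iff_exists.1 (show v ≠ ⊤ from fun h => by
        subst h
        exact (ne_of_lt (_root_.ringKrullDim_lt_top (R := A))) hv.symm)
      exact ⟨k, by rw [← hv, ← hk]; rfl⟩
    have hk0 : k = 0 := by
      by_contra hne
      haveI := hz k hne
      haveI := (LocCohLib.nonvanishing k A (by rw [Module.supportDim_self_eq_ringKrullDim, hk])).1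
      exact not_subsingleton (LocCoh.H (IsLocalRing.maximalIdeal A) k A) inferInstance
    subst hk0
    haveI : Ring.KrullDimLE 0 A := ringKrullDimZero_iff_ringKrullDim_eq_zero.2 (by rw [hk]; rfl)
    haveI : IsArtinianRing A := isArtinianRing_iff_krullDimLE_zero.2 inferInstance
    obtain ⟨n, hn⟩ := IsArtinianRing.isNilpotent_jacobson_bot (R := A)
    rw [IsLocalRing.jacobson_eq_maximalIdeal _ bot_ne_top] at hn
    have htors : LocCoh.IsPowerTorsion (IsLocalRing.maximalIdeal A) A := fun x => ⟨n, fun a ha => by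
      rw [hn] at ha
      rw [(Submodule.mem_bot A).1 ha, zero_smul]⟩
    obtain ⟨e⟩ := LocCohLib.H0Equiv_of_torsion (IsLocalRing.maximalIdeal A) A htors
    exact GorLib.gorenstein_of_idlt (GorLib.idlt_one_iff.2 (InjHullLib.injective_of_equiv hinj e))
  | succ d ih =>
    intro A _ _ _ hz hinj
    let m := IsLocalRing.maximalIdeal A
    obtain ⟨x, hxm, hx⟩ := CommAlgDim.exists_isSMulRegular_mem
      ((LocCohLib.subsingleton_H0_iff m A).1 (hz 0 (Nat.succ_ne_zero d).symm))
    rw [GorLib.gorenstein_quotient_iff hx hxm]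
    haveI : Nontrivial (A ⧸ Ideal.span {x}) := Ideal.Quotient.nontrivial_iff.2
      (ne_top_of_le_ne_top (Ideal.IsMaximal.ne_top inferInstance) ((Ideal.span_singleton_le_iff_mem _).2 hxm))
    haveI : IsLocalRing (A ⧸ Ideal.span {x}) :=
      IsLocalRing.of_surjective' (Ideal.Quotient.mk _) Ideal.Quotient.mk_surjective
    let B := A ⧸ Ideal.span {x}
    have hmB : m.map (algebraMap A B) = IsLocalRing.maximalIdeal B :=
      IsLocalRing.map_maximalIdeal_of_surjective _ Ideal.Quotient.mk_surjective
    let g : A →ₗ[A] B := Submodule.mkQ _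
    let S : ShortComplex (ModuleCat.{u} A) := ShortComplex.mk (x • 𝟙 (ModuleCat.of A A)) (ModuleCat.ofHom g)
      (ModuleCat.hom_ext (LinearMap.ext fun a => (Submodule.Quotient.mk_eq_zero _).2
        (Ideal.mem_span_singleton'.2 ⟨a, mul_comm a x⟩)))
    have hS : S.ShortExact :=
      { exact := (ShortComplex.moduleCat_exact_iff _).2 fun a ha => by
          obtain ⟨c, hc⟩ := Ideal.mem_span_singleton'.1 ((Submodule.Quotient.mk_eq_zero _).1 ha)
          exact ⟨c, (mul_comm x c).trans hc⟩
        mono_f := (ModuleCat.mono_iff_injective _).2 hx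
        epi_g := (ModuleCat.epi_iff_surjective _).2 (Submodule.mkQ_surjective _) }
    have hsmul : ∀ (i : ℕ) (y : LocCoh.H m i A), ((localCohomology m i).map S.f).hom y = x • y := fun i y =>
      ConcreteCategory.congr_hom (LocCohLib.map_smul_id m x i (ModuleCat.of A A)) y
    have hzero : ∀ i : ℕ, i ≠ d → Subsingleton (LocCoh.H m i B) := fun i hi => subsingleton_of_forall_eq 0 fun y => by
      haveI := hz i
      by_cases hi' : i = d + 1
      · subst hi'
        haveI := hz (d + 1 + 1) (by omega)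
        obtain ⟨z, rfl⟩ := (ShortComplex.moduleCat_exact_iff _).1 ((LocCohLib.lcDelta m).exact₃ hS (d + 1)) y
          (Subsingleton.elim (α := LocCoh.H m (d + 1 + 1) A) _ _)
        -- `x` acts surjectively on an injective module
        obtain ⟨w, hw⟩ : ∃ w : LocCoh.H m (d + 1) A, x • w = z := by
          obtain ⟨ψ, hψ⟩ := InjHullLib.exists_extend hinj (x • (LinearMap.id : A →ₗ[A] A)) hx
            (LinearMap.toSpanSingleton A _ z)
          refine ⟨ψ 1, ?_⟩
          rw [← map_smul, ← one_smul A z]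
          exact LinearMap.congr_fun hψ 1
        rw [← hw, ← hsmul]
        haveI : (localCohomology m (d + 1)).PreservesZeroMorphisms := (LocCohLib.lcDelta m).preservesZero (d + 1)
        exact ConcreteCategory.congr_hom
          (((localCohomology m (d + 1)).map_comp S.f S.g).symm.trans
            ((congrArg (localCohomology m (d + 1)).map S.zero).trans ((localCohomology m (d + 1)).map_zero _ _))) w
      · haveI := hz i hi'
        haveI := hz (i + 1) (by omega)
        obtain ⟨z, rfl⟩ := (ShortComplex.moduleCat_exact_iff _).1 ((LocCohLib.lcDelta m).exact₃ hS i) y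
          (Subsingleton.elim (α := LocCoh.H m (i + 1) A) _ _)
        rw [Subsingleton.elim (α := LocCoh.H m i A) z 0]
        exact map_zero _
    let δ : LocCoh.H m d B →ₗ[A] LocCoh.H m (d + 1) A := ((LocCohLib.lcDelta m).δ hS d).hom
    have hδinj : Function.Injective δ := (injective_iff_map_eq_zero _).2 fun y hy => by
      haveI := hz d (by omega)
      obtain ⟨z, rfl⟩ := (ShortComplex.moduleCat_exact_iff _).1 ((LocCohLib.lcDelta m).exact₃ hS d) y hy
      rw [Subsingleton.elim (α := LocCoh.H m d A) z 0]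
      exact map_zero _
    have hδmem : ∀ z : LocCoh.H m (d + 1) A, z ∈ LinearMap.range δ ↔
        z ∈ Submodule.torsionBySet A (LocCoh.H m (d + 1) A) (Ideal.span {x} : Set A) := by
      intro z
      rw [Submodule.mem_torsionBySet_iff]
      constructor
      · rintro ⟨y, rfl⟩ ⟨a, ha⟩
        obtain ⟨c, rfl⟩ := Ideal.mem_span_singleton'.1 ha
        show (c * x) • δ y = 0
        rw [mul_smul, ← hsmul, show ((localCohomology m (d + 1)).map S.f).hom (δ y) = 0 from
          ConcreteCategory.congr_hom ((LocCohLib.lcDelta m).δ_comp_map hS d) y, smul_zero]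
      · intro h
        obtain ⟨y, hy⟩ := (ShortComplex.moduleCat_exact_iff _).1 ((LocCohLib.lcDelta m).exact₁ hS d) z
          ((hsmul _ z).trans (h ⟨x, Ideal.mem_span_singleton_self x⟩))
        exact ⟨y, hy⟩
    refine ih B ?_ ?_
    · intro i hi
      obtain ⟨φ, -⟩ := LocCohLib.exists_addEquiv_restrict (R' := B) m B i
      haveI := hzero i hi
      rw [← hmB]
      exact φ.toEquiv.subsingleton
    · obtain ⟨φ, hφ⟩ := LocCohLib.exists_addEquiv_restrict (R' := B) m B d
      let T := Submodule.torsionBySet A (LocCoh.H m (d + 1) A) (Ideal.span {x} : Set A)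
      let ψ : LocCoh.H (m.map (algebraMap A B)) d B →+ T :=
        { toFun := fun y => ⟨δ (φ y), (hδmem _).1 ⟨_, rfl⟩⟩
          map_zero' := Subtype.ext (by simp)
          map_add' := fun y y' => Subtype.ext (by simp) }
      let ψl : LocCoh.H (m.map (algebraMap A B)) d B ≃ₗ[B] T :=
        LinearEquiv.ofBijective
          { toFun := ψ
            map_add' := map_add ψ
            map_smul' := fun b y => by
              obtain ⟨a, rfl⟩ := Ideal.Quotient.mk_surjective b
              exact Subtype.ext ((congrArg δ (hφ a y)).trans (map_smul δ a (φ y))) }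
          ⟨fun y y' h => φ.injective (hδinj (congrArg Subtype.val h)), fun z => by
            obtain ⟨y, hy⟩ := (hδmem z.1).2 z.2
            exact ⟨φ.symm y, Subtype.ext (show δ (φ (φ.symm y)) = z.1 by rw [φ.apply_symm_apply]; exact hy)⟩⟩
      rw [← hmB]
      exact InjHullLib.injective_of_equiv (InjHullLib.injective_torsionBy _ hinj) ψl.symm

end Groth.Agent.DualCxLib
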