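import Groth.Agent.DualCxLib.LocDualGor
import Groth.Agent.GorLib.MCM
import Groth.Agent.GorLib.Socle
import Groth.Agent.GorLib.RegSeq

/-!
# Duality over quotients of Gorenstein local rings
-/

set_option autoImplicit false
set_option linter.style.haveILetI false
set_option linter.unusedSectionVars false

universe u

open CategoryTheory CategoryTheory.Limits
open Groth.Agent
open DTenLib.Point (hH sg)

attribute [local instance] HasDerivedCategory.standard

noncomputable section

namespace Groth.Agent.DualCxLib

/-- A regular local ring is Gorenstein. -/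
theorem gorenstein_of_regular (S : Type u) [CommRing S] [IsRegularLocalRing S] : LocCoh.IsGorensteinLocalRing S := by
  obtain ⟨rs, hrs, -, hm⟩ := GorLib.exists_regular_generators S
  rw [GorLib.gorenstein_quotient_ofList_iff rs.length S rs rfl hrs.toIsWeaklyRegular
    fun r hr => hm ▸ Ideal.subset_span hr, hm]
  letI := Ideal.Quotient.field (IsLocalRing.maximalIdeal S)
  exact GorLib.gorenstein_of_idlt (GorLib.idlt_one_iff.2 (Module.Baer.injective fun I φ => by
    rcases Ideal.eq_bot_or_top I with rfl | rfl
    · exact ⟨0, fun x hx => by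
        rw [LinearMap.zero_apply, show (⟨x, hx⟩ : (⊥ : Ideal _)) = 0 from Subtype.ext hx, map_zero]⟩
    · exact ⟨φ ∘ₗ LinearMap.id.codRestrict ⊤ (fun _ => Submodule.mem_top), fun x hx => rfl⟩))

variable {S R : Type u} [CommRing S] [CommRing R] [Algebra S R]

/-- The structure over the quotient of a module killed by the kernel. -/
@[implicit_reducible]
def modR (hs : Function.Surjective (algebraMap S R)) (X : Type*) [AddCommGroup X] [Module S X]
    (h : ∀ a ∈ RingHom.ker (algebraMap S R), ∀ x : X, a • x = 0) : Module R X :=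
  Module.compHom X ((algebraMap S R).liftOfRightInverse (Function.surjInv hs) (Function.rightInverse_surjInv hs)
    ⟨Module.toAddMonoidEnd S X, fun _ ha => AddMonoidHom.ext fun x => h _ ha x⟩)

theorem isScalarTower_modR (hs : Function.Surjective (algebraMap S R)) (X : Type*) [AddCommGroup X] [Module S X]
    (h : ∀ a ∈ RingHom.ker (algebraMap S R), ∀ x : X, a • x = 0) :
    letI := modR hs X h; IsScalarTower S R X :=
  letI := modR hs X h
  IsScalarTower.of_algebraMap_smul fun s x => by
    show ((algebraMap S R).liftOfRightInverse (Function.surjInv hs) (Function.rightInverse_surjInv hs)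
      ⟨Module.toAddMonoidEnd S X, fun _ ha => AddMonoidHom.ext fun y => h _ ha y⟩) (algebraMap S R s) x = s • x
    rw [RingHom.liftOfRightInverse_comp_apply]
    rfl

variable [IsLocalRing S] [IsLocalRing R]

theorem map_maximal_surj (hs : Function.Surjective (algebraMap S R)) :
    (IsLocalRing.maximalIdeal S).map (algebraMap S R) = IsLocalRing.maximalIdeal R :=
  IsLocalRing.map_maximalIdeal_of_surjective _ hs

/-- A hull over the quotient sits as the torsion in a hull over the ring. -/
theorem exists_hull_above [IsNoetherianRing S] (hs : Function.Surjective (algebraMap S R))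
    {E : Type u} [AddCommGroup E] [Module R E] [Module S E] [IsScalarTower S R E]
    {f : IsLocalRing.ResidueField R →ₗ[R] E} (hf : InjHull.IsInjectiveHull f) :
    ∃ (E' : Type u) (_ : AddCommGroup E') (_ : Module S E') (f' : IsLocalRing.ResidueField S →ₗ[S] E')
      (j : E →ₗ[S] E'), InjHull.IsInjectiveHull f' ∧ Function.Injective j ∧
        ∀ x : E', (∀ a ∈ RingHom.ker (algebraMap S R), a • x = 0) → x ∈ LinearMap.range j := by
  let e₁ : E := f 1
  have hkill : (IsLocalRing.maximalIdeal S : Submodule S S) ≤ LinearMap.ker (LinearMap.toSpanSingleton S E e₁) := fun s hs' => by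
    rw [LinearMap.mem_ker, LinearMap.toSpanSingleton_apply, ← algebraMap_smul R s e₁, ← map_smul,
      Algebra.smul_def, IsLocalRing.ResidueField.algebraMap_eq,
      (IsLocalRing.residue_eq_zero_iff _).2 (by rw [← map_maximal_surj hs]; exact Ideal.mem_map_of_mem _ hs'),
      zero_mul, map_zero]
  let f₀ : (S ⧸ IsLocalRing.maximalIdeal S) →ₗ[S] E := Submodule.liftQ _ (LinearMap.toSpanSingleton S E e₁) hkill
  have hf₀ : Function.Injective f₀ := (injective_iff_map_eq_zero _).2 fun q hq => by
    obtain ⟨s, rfl⟩ := Submodule.Quotient.mk_surjective _ q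
    rw [Submodule.Quotient.mk_eq_zero]
    by_contra hsm
    have hu : IsUnit s := by_contra fun hu => hsm ((IsLocalRing.mem_maximalIdeal s).2 hu)
    have h1 : e₁ = 0 := (IsUnit.smul_eq_zero hu).1 hq
    exact one_ne_zero (hf.injective (h1.trans (map_zero f).symm))
  obtain ⟨E', _, _, j, hj⟩ := InjHullLib.exists_injectiveHull (R := S) E
  let f' : IsLocalRing.ResidueField S →ₗ[S] E' := j ∘ₗ f₀
  have hf' : InjHull.IsInjectiveHull f' :=
    { injective := hj.injective.comp hf₀
      isInjective := hj.isInjective
      essential := fun N hN h => by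
        obtain ⟨y, ⟨hy, z, rfl⟩, hy0⟩ := Submodule.exists_mem_ne_zero_of_ne_bot (hj.essential N hN)
        let P : Submodule R E :=
          { carrier := {x | j x ∈ N}
            add_mem' := fun {a b} ha hb => by
              show j (a + b) ∈ N
              rw [map_add]; exact N.add_mem ha hb
            zero_mem' := by
              show j 0 ∈ N
              rw [map_zero]; exact N.zero_mem
            smul_mem' := fun r x hx => by
              obtain ⟨s, rfl⟩ := hs r
              show j (algebraMap S R s • x) ∈ N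
              rw [algebraMap_smul, map_smul]; exact N.smul_mem s hx }
        have hP : P ≠ ⊥ := fun hb => hy0 (by
          have hz : z ∈ P := hy
          rw [hb, Submodule.mem_bot] at hz
          rw [hz, map_zero])
        obtain ⟨x, ⟨hx, c, rfl⟩, hx0⟩ := Submodule.exists_mem_ne_zero_of_ne_bot (hf.essential P hP)
        obtain ⟨r, rfl⟩ := IsLocalRing.residue_surjective c
        obtain ⟨s, rfl⟩ := hs r
        have h2 : f (IsLocalRing.residue R (algebraMap S R s)) = f₀ (Submodule.Quotient.mk s) := by
          show _ = s • e₁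
          rw [← algebraMap_smul R s e₁, ← map_smul, Algebra.smul_def, IsLocalRing.ResidueField.algebraMap_eq, mul_one]
        have h3 : j (f₀ (Submodule.Quotient.mk s)) ∈ N ⊓ LinearMap.range f' := ⟨h2 ▸ hx, Submodule.Quotient.mk s, rfl⟩
        rw [h, Submodule.mem_bot, ← h2] at h3
        exact hx0 (hj.injective (h3.trans (map_zero j).symm)) }
  refine ⟨E', inferInstance, inferInstance, f', j, hf', hj.injective, fun x hx => ?_⟩
  let T := Submodule.torsionBySet S E' (RingHom.ker (algebraMap S R) : Set S)
  have hTk : ∀ a ∈ RingHom.ker (algebraMap S R), ∀ y : T, a • y = 0 := fun a ha y =>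
    Subtype.ext (InjHullLib.mem_torsionBy_iff.1 y.2 a ha)
  letI := modR hs T hTk
  haveI := isScalarTower_modR hs T hTk
  let jT : E →ₗ[S] T := j.codRestrict T fun y => InjHullLib.mem_torsionBy_iff.2 fun a ha => by
    rw [← map_smul, ← algebraMap_smul R a y, RingHom.mem_ker.1 ha, zero_smul, map_zero]
  let jR : E →ₗ[R] T := LinearMap.extendScalarsOfSurjective hs jT
  obtain ⟨ρ, hρ⟩ := InjHullLib.exists_extend hf.isInjective jR
    (fun a b h => hj.injective (congrArg Subtype.val h)) LinearMap.id
  let t : T := ⟨x, InjHullLib.mem_torsionBy_iff.2 hx⟩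
  refine ⟨ρ t, by_contra fun hne => ?_⟩
  let d : T := t - jR (ρ t)
  have hd0 : (d : E') ≠ 0 := fun h => hne (sub_eq_zero.1 h).symm
  obtain ⟨y, ⟨hy, z, rfl⟩, hy0⟩ :=
    Submodule.exists_mem_ne_zero_of_ne_bot (hj.essential (Submodule.span S {(d : E')}) (by simpa using hd0))
  obtain ⟨s, hsd⟩ := Submodule.mem_span_singleton.1 hy
  have h1 : algebraMap S R s • d = jR z := Subtype.ext (by
    rw [algebraMap_smul]
    exact hsd)
  have h2 := congrArg ρ h1
  rw [map_smul, show ρ (jR z) = z from LinearMap.congr_fun hρ z, map_sub,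
    show ρ (jR (ρ t)) = ρ t from LinearMap.congr_fun hρ (ρ t), sub_self, smul_zero] at h2
  exact hy0 (by rw [← h2, map_zero])

variable [IsNoetherianRing R]

/-- Duality over a quotient of a ring with a normalized dualizing complex. -/
theorem exists_dual_model [IsNoetherianRing S] (hs : Function.Surjective (algebraMap S R))
    {ω : Dual.D S} (hω : Dual.IsDualizing S ω) (hn : Dual.IsNormalized S ω)
    {E : Type u} [AddCommGroup E] [Module R E] {f : IsLocalRing.ResidueField R →ₗ[R] E}
    (hf : InjHull.IsInjectiveHull f) (M : Type u) [AddCommGroup M] [Module R M] [Module S M] [IsScalarTower S R M]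
    [Module.Finite R M] (i : ℕ) :
    ∃ (W : Type u) (_ : AddCommGroup W) (_ : Module R W) (_ : Module S W) (_ : IsScalarTower S R W)
      (_ : Module.Finite R W), Nonempty (W ≃ₗ[S] Ext ω (ModuleCat.of S M) (-(i : ℤ))) ∧
      Nonempty ((W →ₗ[R] E) ≃ₗ[R] LocCoh.H (IsLocalRing.maximalIdeal R) i M) := by
  letI : Module S E := Module.compHom E (algebraMap S R)
  haveI : IsScalarTower S R E := IsScalarTower.of_algebraMap_smul fun _ _ => rfl
  haveI : Module.Finite S R := Module.Finite.of_surjective (Algebra.linearMap S R) hs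
  haveI : Module.Finite S M := Module.Finite.trans R M
  obtain ⟨E', _, _, f', j, hf', hj, hrange⟩ := exists_hull_above hs hf
  obtain ⟨W, _, _, _, ⟨eW⟩, ⟨d⟩⟩ := exists_model_duality hω hn hf' M i
  have hk : ∀ a ∈ RingHom.ker (algebraMap S R), ∀ w : W, a • w = 0 := fun a ha w => eW.injective (by
    rw [map_smul, map_zero, ← extMap_smul_id a (ModuleCat.of S M) _,
      show a • 𝟙 (ModuleCat.of S M) = 0 from ModuleCat.hom_ext (LinearMap.ext fun z => by
        show a • (z : M) = 0
        rw [← algebraMap_smul R a (z : M), RingHom.mem_ker.1 ha, zero_smul])]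
    show (DerivedCategory.singleFunctor (ModuleCat.{u} S) 0).map 0 ≫ _ = 0
    rw [Functor.map_zero, zero_comp])
  letI := modR hs W hk
  haveI := isScalarTower_modR hs W hk
  haveI : Module.Finite R W := Module.Finite.of_restrictScalars_finite S R W
  refine ⟨W, inferInstance, inferInstance, inferInstance, inferInstance, inferInstance, ⟨eW⟩, ?_⟩
  obtain ⟨φ, hφ⟩ := LocCohLib.exists_addEquiv_restrict (R' := R) (IsLocalRing.maximalIdeal S) M i
  rw [← map_maximal_surj hs]
  let ι : (W →ₗ[R] E) →+ (W →ₗ[S] E') :=
    { toFun := fun u => j ∘ₗ u.restrictScalars S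
      map_zero' := LinearMap.ext fun w => map_zero j
      map_add' := fun u v => LinearMap.ext fun w => map_add j _ _ }
  have hι : Function.Bijective ι := ⟨fun u v h => LinearMap.ext fun w => hj (LinearMap.congr_fun h w), fun v => by
    have hmem : ∀ w, v w ∈ LinearMap.range j := fun w => hrange _ fun a ha => by rw [← map_smul, hk a ha, map_zero]
    refine ⟨LinearMap.extendScalarsOfSurjective hs
      ((LinearEquiv.ofInjective j hj).symm.toLinearMap ∘ₗ v.codRestrict _ hmem), LinearMap.ext fun w => ?_⟩
    exact congrArg Subtype.val ((LinearEquiv.ofInjective j hj).apply_symm_apply ⟨v w, hmem w⟩)⟩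
  let a : (W →ₗ[R] E) ≃+ LocCoh.H ((IsLocalRing.maximalIdeal S).map (algebraMap S R)) i M :=
    (AddEquiv.ofBijective ι hι).trans (d.symm.toAddEquiv.trans φ.symm)
  refine ⟨{ a with map_smul' := fun r u => φ.injective ?_ }⟩
  obtain ⟨s, rfl⟩ := hs r
  show φ (φ.symm (d.symm (ι (algebraMap S R s • u)))) = φ (algebraMap S R s • φ.symm (d.symm (ι u)))
  rw [hφ, φ.apply_symm_apply, φ.apply_symm_apply, show ι (algebraMap S R s • u) = s • ι u from LinearMap.ext fun w => by
    show j (algebraMap S R s • u w) = s • j (u w)
    rw [algebraMap_smul, map_smul], map_smul]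

/-- Normalized dualizing complexes of Gorenstein local rings. -/
theorem exists_normalized_of_gorenstein [LocCoh.IsGorensteinLocalRing S] :
    ∃ ω : Dual.D S, Dual.IsDualizing S ω ∧ Dual.IsNormalized S ω := by
  have h₀ := isDualizing_inD_self (A := S) LocCoh.IsGorensteinLocalRing.exists_hasInjectiveDimensionLT
  obtain ⟨N, hN, -⟩ := ext_residueField_single_degree (Dual.inD S S) h₀ (IsLocalRing.maximalIdeal S)
  exact ⟨_, isDualizing_shift h₀ N, fun i hi =>
    ((Iso.refl _).homCongr (shift₂ (Dual.inD S S) N i (N + i) rfl)).subsingleton_congr.2 (hN _ (by omega))⟩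

end Groth.Agent.DualCxLib
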