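import Groth.Agent.DTenLib.RHom

/-!
# Evaluation out of the Hom complex is bijective

Used to construct the derived internal Hom, so no `HasRHom` binder may occur here.
-/

set_option autoImplicit false

universe u

open CategoryTheory CategoryTheory.Limits MonoidalCategory HomologicalComplex
open Groth.Agent.DerLib DTen DTenLib
attribute [local instance] HasDerivedCategory.standard

namespace Groth.Agent.DualCxLib

variable {A : Type u} [CommRing A] [HasLTen A]

/-- `DTenLib.evD`, which does not use the internal Hom. -/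
noncomputable abbrev evE (P I : DRing.Cx A) :
    (LTen₂ A).obj (DerivedCategory.Q.obj (DRing.homCx P I), DerivedCategory.Q.obj P) ⟶
      DerivedCategory.Q.obj I :=
  (ε A).app (DRing.homCx P I, P) ≫ DerivedCategory.Q.map (evCx P I)

theorem Q_map_evE {E P I : DRing.Cx A} (g : E ⟶ DRing.homCx P I) :
    (LTen₂ A).map (Prod.mkHom (DerivedCategory.Q.map g) (𝟙 (DerivedCategory.Q.obj P))) ≫ evE P I =
      (ε A).app (E, P) ≫ DerivedCategory.Q.map (ofHom g) := by
  rw [← whiskerRight_evCx g, Functor.map_comp]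
  have h : (LTen₂ A).map (Prod.mkHom (DerivedCategory.Q.map g) (𝟙 (DerivedCategory.Q.obj P))) ≫
      (ε A).app (DRing.homCx P I, P) = (ε A).app (E, P) ≫ DerivedCategory.Q.map (g ▷ P) :=
    (εRight A P).naturality g
  exact (reassoc_of% h) _

theorem bijective_evE {P I : DRing.Cx A} (hP : KF P) [I.IsKInjective] (X : Dual.D A) :
    Function.Bijective fun f : X ⟶ DerivedCategory.Q.obj (DRing.homCx P I) =>
      (LTen₂ A).map (Prod.mkHom f (𝟙 (DerivedCategory.Q.obj P))) ≫ evE P I := by
  obtain ⟨E, -, ⟨e⟩⟩ := exists_kf_rep X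
  have : (DRing.homCx P I).IsKInjective := isKInjective_homCx hP
  have := isIso_ε (A := A) E P (Or.inr hP)
  suffices h : Function.Bijective fun f : DerivedCategory.Q.obj E ⟶ DerivedCategory.Q.obj (DRing.homCx P I) =>
      (LTen₂ A).map (Prod.mkHom f (𝟙 (DerivedCategory.Q.obj P))) ≫ evE P I by
    have e2 : IsIso ((LTen₂ A).map (Prod.mkHom e.hom (𝟙 (DerivedCategory.Q.obj P)))) := by
      have : IsIso (Prod.mkHom e.hom (𝟙 (DerivedCategory.Q.obj P))) :=
        (isIso_prod_iff _ _).2 ⟨inferInstance, inferInstance⟩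
      infer_instance
    have key : ∀ f : X ⟶ DerivedCategory.Q.obj (DRing.homCx P I),
        (LTen₂ A).map (Prod.mkHom (e.hom ≫ f) (𝟙 (DerivedCategory.Q.obj P))) =
          (LTen₂ A).map (Prod.mkHom e.hom (𝟙 (DerivedCategory.Q.obj P))) ≫
            (LTen₂ A).map (Prod.mkHom f (𝟙 (DerivedCategory.Q.obj P))) := fun f => by
      rw [← Functor.map_comp]
      exact congrArg _ (Prod.ext rfl (Category.comp_id _).symm)
    refine ⟨fun f f' hf => (cancel_epi e.hom).1 (h.1 ?_), fun φ => ?_⟩
    · simp only [key, Category.assoc]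
      exact congrArg _ hf
    · obtain ⟨f, hf⟩ := h.2 ((LTen₂ A).map (Prod.mkHom e.hom (𝟙 (DerivedCategory.Q.obj P))) ≫ φ)
      refine ⟨e.inv ≫ f, ?_⟩
      rw [← cancel_epi ((LTen₂ A).map (Prod.mkHom e.hom (𝟙 (DerivedCategory.Q.obj P)))), ← hf,
        ← Category.assoc, ← key, e.hom_inv_id_assoc]
  constructor
  · intro f f' hf
    obtain ⟨g, rfl⟩ := KInjUse.Q_map_surjective E (DRing.homCx P I) f
    obtain ⟨g', rfl⟩ := KInjUse.Q_map_surjective E (DRing.homCx P I) f'
    simp only [Q_map_evE, cancel_epi] at hf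
    have h0 : DerivedCategory.Q.map (ofHom (g - g')) = 0 := by
      rw [ofHom_sub, Functor.map_sub, hf, sub_self]
    have H : Homotopy (ofHom (g - g')) 0 := HomotopyCategory.homotopyOfEq _ _
      ((KInjUse.quotient_eq_zero_of_Q h0).trans (Functor.map_zero _ _ _).symm)
    have H' : Homotopy (g - g') 0 := (Homotopy.ofEq (toHom_ofHom _).symm).trans (toHomHomotopy H)
    have := KInjUse.Q_map_zero_of_quotient (HomotopyCategory.eq_of_homotopy _ _ H' |>.trans
      (Functor.map_zero _ _ _))
    rwa [Functor.map_sub, sub_eq_zero] at this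
  · intro φ
    obtain ⟨f, hf⟩ := KInjUse.Q_map_surjective (E ⊗ P) I (inv ((ε A).app (E, P)) ≫ φ)
    refine ⟨DerivedCategory.Q.map (toHom f), ?_⟩
    simp only [Q_map_evE, ofHom_toHom]
    rw [hf, IsIso.hom_inv_id_assoc]

end Groth.Agent.DualCxLib
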