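import Groth.Agent.DualCxLib.InjAmp
import Groth.Agent.DualCxLib.EvD
import Groth.Agent.DTenLib.Bounds
import Groth.Agent.DTenLib.BCPerfect
import Groth.Agent.DTenLib.ProKoszulH
import Groth.Agent.DRingLib.PCohMore

/-!
# Biduality for dualizing complexes
-/

set_option autoImplicit false
set_option linter.style.haveILetI false
set_option linter.unusedSectionVars false

universe u

open CategoryTheory CategoryTheory.Limits MonoidalCategory
open Groth.Agent DTen DTenLib
open DTenLib.Point (hH sg kM)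

attribute [local instance] HasDerivedCategory.standard

noncomputable section

namespace Groth.Agent.DualCxLib

variable {A : Type u} [CommRing A]

section Binders

variable (A)

theorem hasLTen : HasLTen A := by
  obtain ⟨G, α, hG, -⟩ := exists_derived₂ (A := A)
  exact (Functor.hasLeftDerivedFunctor_iff (tensor₂ A) (QQ A) (qis₂ A)).2
    (Functor.HasRightKanExtension.mk G α)

theorem hasRHom [HasLTen A] : HasRHom A := by
  refine ⟨fun L => ?_⟩
  obtain ⟨P, hP, ⟨e⟩⟩ := exists_kf_rep L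
  choose I hI hI' using fun M : Dual.D A => DerLib.KInjUse.exists_iso_Q_kInjective M
  let eM : ∀ M, DerivedCategory.Q.obj (I M) ≅ M := fun M => (hI' M).some.symm
  let eq : ∀ X M, ((tensorRightD A L).obj X ⟶ M) ≃ (X ⟶ DerivedCategory.Q.obj (DRing.homCx P (I M))) :=
    fun X M => (((LTen₂ A).mapIso (Iso.prod (Iso.refl X) e.symm)).homCongr (eM M).symm).trans
      (Equiv.ofBijective _ (by haveI := hI M; exact bijective_evE hP X)).symm
  refine (Adjunction.adjunctionOfEquivRight eq fun X' X M f g => ?_).isLeftAdjoint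
  apply (eq X' M).symm.injective
  rw [Equiv.symm_apply_apply]
  obtain ⟨g', rfl⟩ := (eq X M).symm.surjective g
  rw [Equiv.apply_symm_apply]
  simp only [eq, Equiv.symm_trans_apply, Equiv.symm_symm, Equiv.ofBijective_apply, Iso.homCongr_symm,
    Iso.homCongr_apply]
  show tm f (𝟙 L) ≫ tm (𝟙 X) e.inv ≫ (tm g' (𝟙 _) ≫ evE P (I M)) ≫ (eM M).hom =
    tm (𝟙 X') e.inv ≫ (tm (f ≫ g') (𝟙 _) ≫ evE P (I M)) ≫ (eM M).hom
  rw [← Category.assoc (tm f (𝟙 L)), tm_comp, Category.assoc (tm g' _), ← Category.assoc (tm (f ≫ 𝟙 X) _),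
    tm_comp, Category.assoc (tm (f ≫ g') _), ← Category.assoc (tm (𝟙 X') e.inv), tm_comp]
  simp

theorem exists_binders : ∃ (_ : HasLTen A) (_ : HasLTen₃ A), IsSymMonoidal A ∧ HasRHom A := by
  haveI := hasLTen A
  haveI := hasLTen₃ A
  exact ⟨inferInstance, inferInstance, isSymMonoidal A, hasRHom A⟩

end Binders

section Linearity

variable [HasLTen A] [HasRHom A]

instance additive_tensorRightD (L : Dual.D A) : (tensorRightD A L).Additive := by
  haveI : (tensorRightD A L).PreservesZeroMorphisms := Functor.preservesZeroMorphisms_of_isLeftAdjoint _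
  haveI : PreservesBinaryBiproducts (tensorRightD A L) :=
    ⟨fun {X Y} => preservesBinaryBiproduct_of_preservesBinaryCoproduct _⟩
  exact Functor.additive_of_preservesBinaryBiproducts _

theorem tm_smul_id (r : A) (X L : Dual.D A) :
    tm (r • 𝟙 X) (𝟙 L) = r • 𝟙 ((LTen₂ A).obj (X, L)) := by
  obtain ⟨P, hP, ⟨eX⟩⟩ := exists_kf_rep X
  obtain ⟨P', -, ⟨eL⟩⟩ := exists_kf_rep L
  have := isIso_ε (A := A) P P' (Or.inl hP)
  have hw : (r • 𝟙 P) ▷ P' = r • 𝟙 (P ⊗ P') :=
    (DTenLib.ProKoszul.T_map_smul P' r (𝟙 P)).trans (congrArg (r • ·) ((DTenLib.ProKoszul.T P').map_id P))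
  have h0 : tm (DerivedCategory.Q.map (r • 𝟙 P)) (𝟙 (DerivedCategory.Q.obj P')) ≫ (ε A).app (P, P') =
      (ε A).app (P, P') ≫ DerivedCategory.Q.map ((r • 𝟙 P) ▷ P') :=
    (εRight A P').naturality _
  rw [hw, Functor.map_smul, Functor.map_smul, CategoryTheory.Functor.map_id] at h0
  erw [CategoryTheory.Functor.map_id, Linear.comp_smul, Category.comp_id] at h0
  have h1 : tm (r • 𝟙 (DerivedCategory.Q.obj P)) (𝟙 (DerivedCategory.Q.obj P')) = r • 𝟙 _ :=
    (cancel_mono ((ε A).app (P, P'))).1 (h0.trans (by rw [Linear.smul_comp, Category.id_comp]))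
  have h2 : tm (r • 𝟙 X) (𝟙 L) =
      tm eX.inv eL.inv ≫ tm (r • 𝟙 (DerivedCategory.Q.obj P)) (𝟙 _) ≫ tm eX.hom eL.hom := by
    rw [tm_comp, tm_comp]
    simp
  rw [h2, h1, Linear.smul_comp, Category.id_comp, Linear.comp_smul, tm_comp, eX.inv_hom_id,
    eL.inv_hom_id, tm_id]

instance linear_tensorRightD (L : Dual.D A) : (tensorRightD A L).Linear A where
  map_smul := fun {X Y} f r => by
    have h : r • f = (r • 𝟙 X) ≫ f := by rw [Linear.smul_comp, Category.id_comp]
    rw [h, Functor.map_comp]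
    show tm (r • 𝟙 X) (𝟙 L) ≫ _ = _
    rw [tm_smul_id, Linear.smul_comp]
    exact congrArg (r • ·) (Category.id_comp _)

/-- The adjunction, linearly. -/
def homLEquiv (X L M : Dual.D A) :
    ((LTen₂ A).obj (X, L) ⟶ M) ≃ₗ[A] (X ⟶ (RHomR A L).obj M) :=
  LinearEquiv.symm
    { toFun := fun g => (tensorRightD A L).map g ≫ ev L M
      invFun := (rhomAdj A L).homEquiv X M
      map_add' := fun g g' => by rw [Functor.map_add, Preadditive.add_comp]
      map_smul' := fun r g => by rw [Functor.map_smul, Linear.smul_comp]; rfl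
      left_inv := fun g => by
        have := (Adjunction.homEquiv_counit (adj := rhomAdj A L) (X := X) (Y := M) (g := g))
        exact (congrArg _ this.symm).trans (Equiv.apply_symm_apply _ _)
      right_inv := fun f => uncurry_curry' f }
where
  uncurry_curry' {X L M : Dual.D A} (f : (LTen₂ A).obj (X, L) ⟶ M) :
      (tensorRightD A L).map ((rhomAdj A L).homEquiv X M f) ≫ ev L M = f :=
    ((rhomAdj A L).homEquiv _ _).left_inv f

/-- Maps out of isomorphic objects, linearly. -/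
def precompL {X X' : Dual.D A} (e : X ≅ X') (Y : Dual.D A) : (X ⟶ Y) ≃ₗ[A] (X' ⟶ Y) :=
  Linear.homCongr A e (Iso.refl Y)

/-- Maps into isomorphic objects, linearly. -/
def postcompL (X : Dual.D A) {Y Y' : Dual.D A} (e : Y ≅ Y') : (X ⟶ Y) ≃ₗ[A] (X ⟶ Y') :=
  Linear.homCongr A (Iso.refl X) e

/-- Maps out of a shift. -/
def shiftL (X Y : Dual.D A) (i : ℤ) : (X⟦-i⟧ ⟶ Y) ≃ₗ[A] (X ⟶ Y⟦i⟧) :=
  LinearEquiv.trans
    (LinearEquiv.ofBijective ((shiftFunctor (Dual.D A) i).mapLinearMap A (X := X⟦-i⟧) (Y := Y))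
      ⟨fun _ _ h => (shiftFunctor (Dual.D A) i).map_injective h,
        fun g => (shiftFunctor (Dual.D A) i).map_surjective g⟩)
    (precompL ((shiftFunctorCompIsoId (Dual.D A) (-i) i (neg_add_cancel i)).app X) _)

theorem isZero_tensor_left {X : Dual.D A} (h : IsZero X) (L : Dual.D A) : IsZero ((LTen₂ A).obj (X, L)) :=
  Functor.map_isZero (tensorRightD A L) h

end Linearity

/-- The unit is `A[0]`. -/
theorem nonempty_unit_iso : Nonempty (unit A ≅ sg (ModuleCat.of A A) 0) :=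
  ⟨((DerivedCategory.singleFunctorIsoCompQ (ModuleCat.{u} A) 0).app (ModuleCat.of A A)).symm⟩

/-- Shifts of the unit are `A[-i]`. -/
theorem nonempty_unit_shift_iso (i : ℤ) : Nonempty ((unit A)⟦-i⟧ ≅ sg (ModuleCat.of A A) i) := by
  obtain ⟨e⟩ := nonempty_unit_iso (A := A)
  exact ⟨(shiftFunctor _ (-i)).mapIso e ≪≫ DTenLib.Point.shiftSg _ 0 (-i) ≪≫ eqToIso (by simp)⟩

/-- Endomorphisms of the unit are scalars. -/
theorem exists_smul_of_endo_unit (g : unit A ⟶ unit A) : ∃ r : A, g = r • 𝟙 _ := by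
  obtain ⟨e⟩ := nonempty_unit_iso (A := A)
  obtain ⟨φ, hφ⟩ := (DerivedCategory.singleFunctor (ModuleCat.{u} A) 0).map_surjective (e.inv ≫ g ≫ e.hom)
  refine ⟨φ.hom (1 : A), ?_⟩
  have h : φ = φ.hom (1 : A) • 𝟙 (ModuleCat.of A A) := ModuleCat.hom_ext (LinearMap.ext_ring
    (show φ.hom (1 : A) = φ.hom (1 : A) • (1 : A) by rw [smul_eq_mul, mul_one]))
  rw [h, Functor.map_smul, CategoryTheory.Functor.map_id] at hφ
  rw [← cancel_epi e.inv, ← cancel_mono e.hom, Category.assoc, ← hφ]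
  simp

/-- Finite cohomology bounded above is pseudo-coherence. -/
theorem isPseudoCoherent'_of_finite [IsNoetherianRing A] {K : Dual.D A} (b : ℤ)
    (hb : ∀ i, b < i → IsZero ((hH A i).obj K)) (hK : ∀ i, Module.Finite A ((hH A i).obj K)) :
    DRing.IsPseudoCoherent' A K :=
  DRingLib.isPseudoCoherent'_of_forall fun _ =>
    DRingLib.isPseudoCoherent_of_finite_noetherian hb fun i _ => hK i

theorem isGE_dualizing {ω : Dual.D A} (hω : Dual.IsDualizing A ω) : ∃ a : ℤ, ω.IsGE a := by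
  obtain ⟨a, b, hab⟩ := hω.finite_injective_dimension
  exact ⟨a, (DerivedCategory.isGE_iff ω a).2 fun i hi => isZero_of_ext_ring i (hab _ i (Or.inl hi))⟩

section Dualizing

variable [HasLTen A] [HasLTen₃ A] [IsSymMonoidal A] [HasRHom A]

theorem nonempty_RHom_self {ω : Dual.D A} (hω : Dual.IsDualizing A ω) :
    Nonempty (unit A ≅ (RHomR A ω).obj ω) := by
  let l : (LTen₂ A).obj (unit A, ω) ≅ ω := DTen.leftUnitor ω
  let u : unit A ⟶ (RHomR A ω).obj ω := homLEquiv _ _ _ l.hom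
  suffices IsIso u from ⟨asIso u⟩
  refine isIso_of_bijective_unit u fun j => ?_
  by_cases hj : j = 0
  · subst hj
    let z : (unit A)⟦(0 : ℤ)⟧ ≅ unit A := (shiftFunctorZero (Dual.D A) ℤ).app _
    let Φ : (unit A ⟶ (RHomR A ω).obj ω) ≃ₗ[A] (ω ⟶ ω) :=
      (homLEquiv _ _ _).symm.trans (precompL l ω)
    have hΦ : Φ u = 𝟙 ω := by simp [Φ, u, precompL, Linear.homCongr_apply]
    refine ⟨fun g g' h => ?_, fun h => ?_⟩
    · obtain ⟨r, hr⟩ := exists_smul_of_endo_unit (z.inv ≫ g)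
      obtain ⟨r', hr'⟩ := exists_smul_of_endo_unit (z.inv ≫ g')
      have h' : r • u = r' • u := by
        have := congrArg (z.inv ≫ ·) h
        simpa only [← Category.assoc, hr, hr', Linear.smul_comp, Category.id_comp] using this
      have h'' := congrArg Φ h'
      rw [map_smul, map_smul, hΦ] at h''
      rw [← cancel_epi z.inv, hr, hr', hω.toEnd_bijective.1 h'']
    · obtain ⟨r, hr⟩ := hω.toEnd_bijective.2 (Φ (z.inv ≫ h))
      refine ⟨z.hom ≫ (r • 𝟙 (unit A)), ?_⟩
      have : r • u = z.inv ≫ h := Φ.injective (by rw [map_smul, hΦ]; exact hr)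
      show (z.hom ≫ (r • 𝟙 (unit A))) ≫ u = h
      rw [Category.assoc, Linear.smul_comp, Category.id_comp, this, Iso.hom_inv_id_assoc]
  · haveI h1 : Subsingleton ((unit A)⟦j⟧ ⟶ unit A) := subsingleton_of_forall_eq 0
      (hom_shift_unit_eq_zero (K := 𝟙_ (DRing.Cx A))
        (HomologicalComplex.isZero_single_obj_X (ComplexShape.up ℤ) 0 _ _ (by omega)))
    haveI h2 : Subsingleton ((unit A)⟦j⟧ ⟶ (RHomR A ω).obj ω) := by
      obtain ⟨e⟩ := nonempty_tensor_shiftUnit ω j
      haveI := hω.ext_self_subsingleton (-j) (by omega)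
      haveI : Subsingleton (ω⟦j⟧ ⟶ ω) :=
        (precompL (eqToIso (by rw [neg_neg])) ω).symm.toEquiv.subsingleton_congr.2
          ((shiftL ω ω (-j)).toEquiv.subsingleton_congr.2 inferInstance)
      exact ((homLEquiv _ _ _).symm.trans (precompL e ω)).toEquiv.subsingleton_congr.2 inferInstance
    exact ⟨fun g g' _ => Subsingleton.elim g g', fun h => ⟨0, Subsingleton.elim _ _⟩⟩

/-- Biduality at pseudo-coherent objects. -/
theorem nonempty_biduality {ω : Dual.D A} (hω : Dual.IsDualizing A ω) {K : Dual.D A}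
    (hK : DRing.IsPseudoCoherent' A K) :
    Nonempty ((RHomR A ((RHomR A K).obj ω)).obj ω ≅ K) := by
  obtain ⟨a, ha⟩ := isGE_dualizing hω
  haveI := isIso_evalHom_of_isPseudoCoherent K ω ω hK a ha
    (hasFiniteInjDim_of_ext hω.finite_injective_dimension)
  obtain ⟨u⟩ := nonempty_RHom_self hω
  exact ⟨(asIso (evalHom K ω ω)).symm ≪≫ (tensorRightD A K).mapIso u.symm ≪≫ DTen.leftUnitor K⟩

end Dualizing

theorem isPseudoCoherent'_inD [IsNoetherianRing A] (M : Type u) [AddCommGroup M] [Module A M]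
    [Module.Finite A M] : DRing.IsPseudoCoherent' A (Dual.inD A M) :=
  isPseudoCoherent'_of_finite 0 (fun i hi => DRingLib.isZero_Hn_inD M (ne_of_gt hi)) fun i => by
    by_cases hi : i = 0
    · subst hi
      exact Module.Finite.equiv (DRingLib.inDEquiv M).symm
    · haveI := ModuleCat.subsingleton_of_isZero (DRingLib.isZero_Hn_inD (R := A) M hi)
      exact inferInstance

/-- Endomorphisms of a residue field are scalars. -/
theorem exists_smul_of_endo_kM (m : Ideal A) (g : sg (kM m) 0 ⟶ sg (kM m) 0) : ∃ r : A, g = r • 𝟙 _ := by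
  obtain ⟨φ, rfl⟩ := (DerivedCategory.singleFunctor (ModuleCat.{u} A) 0).map_surjective g
  obtain ⟨r, hr⟩ := Ideal.Quotient.mk_surjective (φ.hom (1 : A ⧸ m))
  refine ⟨r, ?_⟩
  rw [← CategoryTheory.Functor.map_id, ← Functor.map_smul]
  congr 1
  refine ModuleCat.hom_ext (LinearMap.ext fun x => ?_)
  obtain ⟨a, rfl⟩ := Submodule.Quotient.mk_surjective _ x
  have : (Submodule.Quotient.mk a : A ⧸ m) = a • (1 : A ⧸ m) := by
    rw [Algebra.smul_def, mul_one]; rfl
  change φ.hom (Submodule.Quotient.mk a) = r • (Submodule.Quotient.mk a : A ⧸ m)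
  rw [this, map_smul, ← hr, smul_comm]
  congr 1
  rw [Algebra.smul_def, mul_one]; rfl

/-- `Ext` of the residue field into a dualizing complex. -/
theorem ext_residueField_single_degree [IsNoetherianRing A] (ω : Dual.D A) (hω : Dual.IsDualizing A ω)
    (m : Ideal A) [m.IsMaximal] :
    ∃ n : ℤ, (∀ i : ℤ, i ≠ n → Subsingleton (Dual.inD A (A ⧸ m) ⟶ ω⟦i⟧)) ∧
      Nonempty ((Dual.inD A (A ⧸ m) ⟶ ω⟦n⟧) ≃ₗ[A] (A ⧸ m)) := by
  obtain ⟨_, _, _, _⟩ := exists_binders A
  let k : Dual.D A := sg (kM m) 0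
  let X : Dual.D A := (RHomR A k).obj ω
  obtain ⟨B⟩ := nonempty_biduality hω (isPseudoCoherent'_inD (A := A) (A ⧸ m))
  let B' : (RHomR A X).obj ω ≅ k := B
  obtain ⟨a, ha⟩ := isGE_dualizing hω
  obtain ⟨a', b', hinj⟩ := hasFiniteInjDim_of_ext hω.finite_injective_dimension
  have hbdd : ∃ c d : ℤ, ∀ i, (i < c ∨ d < i) → IsZero ((hH A i).obj X) := by
    have h1 : X.IsGE (a - 0) := isGE_RHom (inferInstanceAs ((sg (kM m) 0).IsLE 0)) ha
    have h2 : X.IsLE (b' - 0) := isLE_RHom hinj (inferInstanceAs ((sg (kM m) 0).IsGE 0))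
    exact ⟨a - 0, b' - 0, fun i hi => hi.elim (fun h => DerivedCategory.isZero_of_isGE X _ i h)
      (fun h => DerivedCategory.isZero_of_isLE X _ i h)⟩
  let E₀ : (X ⟶ X) ≃ₗ[A] (k ⟶ k) :=
    (homLEquiv X k ω).symm.trans ((precompL (DTen.braiding k X) ω).trans
      ((homLEquiv k X ω).trans (postcompL k B')))
  have hne : ¬ IsZero X := fun h => by
    haveI : Subsingleton (X ⟶ X) := ⟨fun f g => h.eq_of_src f g⟩
    haveI := E₀.symm.toEquiv.subsingleton
    have h0 : IsZero k := (IsZero.iff_id_eq_zero k).2 (Subsingleton.elim _ _)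
    exact zero_ne_one (α := A ⧸ m) ((DTenLib.Point.sgH (kM m) 0).toLinearEquiv.toEquiv.symm.subsingleton_congr.2
      (ModuleCat.subsingleton_of_isZero (Functor.map_isZero (hH A 0) h0)) |>.elim _ _)
  have hm : ∀ r ∈ m, r • 𝟙 X = 0 := fun r hr => E₀.injective (by
    rw [map_zero, map_smul, ← Category.id_comp (E₀ _), ← Linear.smul_comp,
      DTenLib.Point.smul_id_sg m hr, zero_comp])
  have hend : ∀ e : X ⟶ X, ∃ r : A, e = r • 𝟙 X := fun e => by
    obtain ⟨c, hc⟩ := exists_smul_of_endo_kM m (E₀ (𝟙 X))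
    obtain ⟨d, hd⟩ := exists_smul_of_endo_kM m (E₀ e)
    by_cases hcm : c ∈ m
    · exfalso
      refine hne ((IsZero.iff_id_eq_zero X).2 (E₀.injective ?_))
      rw [hc, map_zero, DTenLib.Point.smul_id_sg m hcm]
    · obtain ⟨c', hc'⟩ := DTenLib.Point.exists_inv m hcm
      refine ⟨d * c', E₀.injective ?_⟩
      rw [map_smul, hc, hd, ← mul_smul, ← sub_eq_zero, ← sub_smul]
      refine DTenLib.Point.smul_id_sg m ?_ 0
      rw [show d - d * c' * c = -(d * (c' * c - 1)) by ring]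
      exact m.neg_mem (m.mul_mem_left _ hc')
  have hneg : ∀ j : ℤ, j < 0 → Subsingleton (X ⟶ X⟦j⟧) := fun j hj => by
    obtain ⟨eX⟩ := nonempty_tensor_shiftUnit X (-j)
    obtain ⟨ek⟩ := nonempty_tensor_shiftUnit k (-j)
    let eT : (LTen₂ A).obj (X⟦-j⟧, k) ≅ (LTen₂ A).obj (k⟦-j⟧, X) :=
      (tensorRightD A k).mapIso eX.symm ≪≫ DTen.associator _ X k ≪≫
        ((LTen A).obj _).mapIso (DTen.braiding k X) ≪≫ (DTen.associator _ k X).symm ≪≫
          (tensorRightD A X).mapIso ek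
    let E : (X ⟶ X⟦j⟧) ≃ₗ[A] (k⟦-j⟧ ⟶ k) :=
      (shiftL X X j).symm.trans ((homLEquiv _ k ω).symm.trans ((precompL eT ω).trans
        ((homLEquiv _ X ω).trans (postcompL _ B'))))
    refine E.toEquiv.subsingleton_congr.2 (subsingleton_of_forall_eq 0 fun f => ?_)
    haveI hk : (k⟦-j⟧).IsLE j :=
      DerivedCategory.TStructure.t.isLE_shift k 0 (-j) j (by omega)
    exact DerivedCategory.TStructure.t.zero f j 0 hj
  obtain ⟨c, ⟨eXc⟩⟩ := DTenLib.Point.exists_iso_sg m hbdd hne hm hneg hend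
  have key : ∀ i : ℤ, Nonempty ((Dual.inD A (A ⧸ m) ⟶ ω⟦i⟧) ≃ₗ[A] (sg (ModuleCat.of A A) i ⟶ sg (kM m) c)) := by
    intro i
    obtain ⟨e⟩ := nonempty_tensor_shiftUnit k (-i)
    obtain ⟨v⟩ := nonempty_unit_shift_iso (A := A) i
    exact ⟨(shiftL k ω i).symm.trans ((precompL e.symm ω).trans ((homLEquiv _ k ω).trans
      ((precompL v _).trans (postcompL _ eXc))))⟩
  refine ⟨c, fun i hi => (key i).some.toEquiv.subsingleton_congr.2
    (subsingleton_of_forall_eq 0 (DTenLib.Point.hom_eq_zero_of_ne m hi)), ?_⟩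
  let F := DerivedCategory.singleFunctor (ModuleCat.{u} A) c
  exact ⟨(key c).some.trans ((LinearEquiv.ofBijective (F.mapLinearMap A (X := ModuleCat.of A A) (Y := kM m))
    ⟨fun _ _ h => F.map_injective h, fun g => F.map_surjective g⟩).symm.trans
      (ModuleCat.homLinearEquiv.trans (LinearMap.ringLmapEquivSelf A A (A ⧸ m))))⟩

end Groth.Agent.DualCxLib
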