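import Groth.Agent.DualCxLib.Depth

/-!
# Consequences: depth, Cohen-Macaulay loci
-/

set_option autoImplicit false
set_option linter.style.haveILetI false
set_option linter.unusedSectionVars false

universe u

open CategoryTheory CategoryTheory.Limits
open Groth.Agent
open DTenLib.Point (hH sg kM)

attribute [local instance] HasDerivedCategory.standard

noncomputable section

namespace Groth.Agent.DualCxLib

variable {A : Type u} [CommRing A]

theorem van_closedPt_iff [IsLocalRing A] {V : Type (u + 1)} [AddCommGroup V] [Module A V] :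
    Van (closedPt A).asIdeal V ↔ Subsingleton V :=
  ⟨subsingleton_of_van_closedPt, fun _ => van_of_subsingleton⟩

theorem notMem_support_iff_subsingleton {p : PrimeSpectrum A} {M : Type u} [AddCommGroup M] [Module A M] :
    p ∉ Module.support A M ↔ Subsingleton (LocalizedModule p.asIdeal.primeCompl M) :=
  Module.notMem_support_iff'.trans
    (Iff.symm (LocalizedModule.subsingleton_iff (S := p.asIdeal.primeCompl) (M := M)))

variable [IsNoetherianRing A] {ω : Dual.D A}

section Local

variable [IsLocalRing A] (hω : Dual.IsDualizing A ω) (hn : Dual.IsNormalized A ω)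
include hω hn

theorem depth_eq_iff_ext (M : Type u) [AddCommGroup M] [Module A M] [Module.Finite A M] (n : ℕ) :
    LocCoh.depth A M = n ↔ ((∀ δ : ℕ, δ < n → Subsingleton (Dual.inD A M ⟶ ω⟦(-(δ : ℤ))⟧)) ∧
      Nontrivial (Dual.inD A M ⟶ ω⟦(-(n : ℤ))⟧)) := by
  rw [depth_eq_depth_closedPt M, depth_eq_iff_van hω (closedPt A) n M, deg_closedPt_of_normalized hω hn]
  simp only [zero_sub, van_closedPt_iff, not_subsingleton_iff_nontrivial]

theorem depth_eq_iff_HD (n : ℕ) :
    LocCoh.depth A A = n ↔ ((∀ δ : ℕ, δ < n → Subsingleton (Dual.HD A ω (-(δ : ℤ)))) ∧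
      Nontrivial (Dual.HD A ω (-(n : ℤ)))) := by
  rw [depth_eq_iff_ext hω hn A n]
  exact and_congr (forall₂_congr fun δ _ => (extHL ω (-(δ : ℤ))).toEquiv.subsingleton_congr)
    (extHL ω (-(n : ℤ))).toEquiv.nontrivial_congr

theorem isCM_iff_ext_single (M : Type u) [AddCommGroup M] [Module A M] [Module.Finite A M] [Nontrivial M]
    (d : ℕ) (hd : Module.supportDim A M = d) :
    LocCoh.IsCohenMacaulayModule A M ↔ ∀ i : ℤ, i ≠ d → Subsingleton (Dual.inD A M ⟶ ω⟦(-i)⟧) := by
  unfold LocCoh.IsCohenMacaulayModule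
  rw [hd, show ((d : ℕ) : WithBot ℕ∞) = (((d : ℕ) : ℕ∞) : WithBot ℕ∞) from rfl, WithBot.coe_inj, eq_comm,
    depth_eq_iff_ext hω hn M d]
  constructor
  · rintro ⟨h, -⟩ i hi
    rcases lt_trichotomy i 0 with hneg | rfl | hpos
    · exact subsingleton_ext_of_pos hω hn M (-i) (by omega)
    · exact h 0 (by omega)
    · rcases lt_or_gt_of_ne hi with hlt | hgt
      · have := h i.toNat (by omega)
        rwa [Int.toNat_of_nonneg hpos.le] at this
      · exact subsingleton_ext_of_lt hω hn M d hd.le (-i) (by omega)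
  · intro h
    refine ⟨fun δ hδ => h δ (by omega), ?_⟩
    by_contra hsub
    rw [not_nontrivial_iff_subsingleton] at hsub
    obtain ⟨s, hs, hsM⟩ := exists_killed_of_van hω (closedPt A).asIdeal M fun i => by
      refine van_closedPt_iff.2 ?_
      by_cases hi : -i = (d : ℤ)
      · obtain rfl : i = -(d : ℤ) := by omega
        exact hsub
      · have := h (-i) hi
        rwa [neg_neg] at this
    exact not_subsingleton M (subsingleton_of_forall_eq (0 : M)
      fun x => (IsUnit.smul_eq_zero (IsLocalRing.notMem_maximalIdeal.1 hs)).1 (hsM x))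

theorem support_ext_iff_depth_add_dim (M : Type u) [AddCommGroup M] [Module A M] [Module.Finite A M]
    (i : ℕ) (p : PrimeSpectrum A) :
    (∃ j : ℕ, j ≤ i ∧ p ∈ Module.support A (Dual.inD A M ⟶ ω⟦(-(j : ℤ))⟧)) ↔
      ((LocCoh.depth (Localization.AtPrime p.asIdeal) (LocalizedModule p.asIdeal.primeCompl M) : ℕ∞) :
        WithBot ℕ∞) + ringKrullDim (A ⧸ p.asIdeal) ≤ (i : WithBot ℕ∞) := by
  obtain ⟨e, he⟩ : ∃ e : ℕ, ringKrullDim (A ⧸ p.asIdeal) = e := ⟨_, ringKrullDim_quotient_eq hω p⟩
  have hp := deg_eq_neg_dim hω hn p e he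
  simp only [mem_support_iff_not_van]
  rw [he]
  show _ ↔ ((LocCoh.depth _ _ + (e : ℕ∞) : ℕ∞) : WithBot ℕ∞) ≤ ((i : ℕ∞) : WithBot ℕ∞)
  rw [WithBot.coe_le_coe]
  rcases lt_or_ge i e with hie | hie
  · refine iff_of_false ?_ fun h => ?_
    · rintro ⟨j, hj, hv⟩
      exact hv (van_of_gt hω p _ (by rw [hp]; omega))
    · have : (e : ℕ∞) ≤ i := le_trans le_add_self h
      exact absurd (ENat.natCast_le_natCast.1 this) (not_le.2 hie)
  · have key : (∃ j : ℕ, j ≤ i ∧ ¬ Van p.asIdeal (Dual.inD A M ⟶ ω⟦(-(j : ℤ))⟧)) ↔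
        ¬ ((i - e + 1 : ℕ) : ℕ∞) ≤
          LocCoh.depth (Localization.AtPrime p.asIdeal) (LocalizedModule p.asIdeal.primeCompl M) := by
      rw [le_depth_iff_van hω p (i - e + 1) M]
      push Not
      constructor
      · rintro ⟨j, hj, hv⟩
        by_cases hje : j < e
        · exact absurd (van_of_gt hω p _ (by rw [hp]; omega)) hv
        · refine ⟨j - e, by omega, ?_⟩
          rwa [hp, show -(e : ℤ) - ((j - e : ℕ) : ℤ) = -(j : ℤ) by omega]
      · rintro ⟨δ, hδ, hv⟩
        refine ⟨δ + e, by omega, ?_⟩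
        rwa [hp, show -(e : ℤ) - (δ : ℤ) = -((δ + e : ℕ) : ℤ) by omega] at hv
    refine key.trans ?_
    generalize LocCoh.depth (Localization.AtPrime p.asIdeal) (LocalizedModule p.asIdeal.primeCompl M) = D
    induction D using ENat.recTopCoe with
    | top => simp
    | coe n =>
      rw [ENat.natCast_le_natCast, ← Nat.cast_add, ENat.natCast_le_natCast]
      omega

end Local

theorem isOpen_CM (hω : Dual.IsDualizing A ω) (M : Type u) [AddCommGroup M] [Module A M] [Module.Finite A M] :
    IsOpen {p : PrimeSpectrum A | Subsingleton (LocalizedModule p.asIdeal.primeCompl M) ∨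
      LocCoh.IsCohenMacaulayModule (Localization.AtPrime p.asIdeal) (LocalizedModule p.asIdeal.primeCompl M)} := by
  obtain ⟨a, b, hab⟩ := hω.finite_injective_dimension
  have hset : {p : PrimeSpectrum A | Subsingleton (LocalizedModule p.asIdeal.primeCompl M) ∨
      LocCoh.IsCohenMacaulayModule (Localization.AtPrime p.asIdeal) (LocalizedModule p.asIdeal.primeCompl M)} =
      (⋃ ij ∈ ((Finset.Icc a b ×ˢ Finset.Icc a b).filter fun ij => ij.1 ≠ ij.2),
        Module.support A (Ext ω (ModuleCat.of A M) ij.1) ∩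
          Module.support A (Ext ω (ModuleCat.of A M) ij.2))ᶜ := by
    ext p
    simp only [Set.mem_ofPred_eq, Set.mem_compl_iff, Set.mem_iUnion, Set.mem_inter_iff, not_exists,
      mem_support_iff_not_van, Finset.mem_filter, Finset.mem_product]
    by_cases hp : p ∈ Module.support A M
    · rw [isCM_localized_iff hω p M hp]
      have hns : ¬ Subsingleton (LocalizedModule p.asIdeal.primeCompl M) :=
        fun h => notMem_support_iff_subsingleton.2 h hp
      constructor
      · rintro (h | h) ij ⟨-, hne⟩ ⟨h1, h2⟩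
        · exact hns h
        · exact hne (h _ _ h1 h2)
      · intro h
        refine Or.inr fun i j hi hj => by_contra fun hne => ?_
        have hmem : ∀ k, ¬ Van p.asIdeal (Ext ω (ModuleCat.of A M) k) → k ∈ Finset.Icc a b := fun k hk => by
          by_contra hk'
          rw [Finset.mem_Icc, not_and_or, not_le, not_le] at hk'
          exact hk (@van_of_subsingleton A _ p.asIdeal _ _ _ _ (hab M k hk'))
        exact h (i, j) ⟨⟨hmem i hi, hmem j hj⟩, hne⟩ ⟨hi, hj⟩
    · refine iff_of_true (Or.inl (notMem_support_iff_subsingleton.1 hp)) fun ij _ h => h.1 ?_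
      exact van_ext_of_primes _ fun q hq hqp => absurd (Module.mem_support_mono (p := q) (q := p) hqp hq) hp
  rw [hset]
  refine isOpen_compl_iff.2 (Set.Finite.isClosed_biUnion (Finset.finite_toSet _) fun ij _ => ?_)
  haveI := Ext_finite hω M ij.1
  haveI := Ext_finite hω M ij.2
  exact Module.isClosed_support.inter Module.isClosed_support

theorem exists_minimal_support (M : Type u) [AddCommGroup M] [Module A M] [Module.Finite A M]
    {p : PrimeSpectrum A} (hp : p ∈ Module.support A M) :
    ∃ q : PrimeSpectrum A, q ∈ Module.support A M ∧ q ≤ p ∧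
      ∀ r, r ∈ Module.support A M → r ≤ q → r = q := by
  obtain ⟨q, hq, hqp⟩ := Ideal.exists_minimalPrimes_le (Module.mem_support_iff_of_finite.1 hp)
  refine ⟨⟨q, hq.1.1⟩, Module.mem_support_iff_of_finite.2 hq.1.2, hqp, fun r hr hrq => ?_⟩
  exact PrimeSpectrum.ext (le_antisymm hrq (hq.2 ⟨r.isPrime, Module.mem_support_iff_of_finite.1 hr⟩ hrq))

theorem support_subset_closure_CM (hω : Dual.IsDualizing A ω) (M : Type u) [AddCommGroup M] [Module A M]
    [Module.Finite A M] :
    Module.support A M ⊆ closure ({p : PrimeSpectrum A | LocCoh.IsCohenMacaulayModule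
      (Localization.AtPrime p.asIdeal) (LocalizedModule p.asIdeal.primeCompl M)} ∩ Module.support A M) := by
  intro p hp
  obtain ⟨q, hq, hqp, hmin⟩ := exists_minimal_support M hp
  refine (specializes_iff_mem_closure.1 ((PrimeSpectrum.le_iff_specializes q p).1 hqp)) |> closure_mono ?_
  rw [Set.singleton_subset_iff]
  refine ⟨(isCM_localized_iff hω q M hq).2 fun i j hi hj => ?_, hq⟩
  rw [(not_van_iff_of_minimal hω q hq hmin i).1 hi, (not_van_iff_of_minimal hω q hq hmin j).1 hj]

theorem isCM_localRing_iff (p : PrimeSpectrum A) :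
    LocCoh.IsCohenMacaulayLocalRing (Localization.AtPrime p.asIdeal) ↔
      LocCoh.IsCohenMacaulayModule (Localization.AtPrime p.asIdeal) (LocalizedModule p.asIdeal.primeCompl A) := by
  let ε : LocalizedModule p.asIdeal.primeCompl A ≃ₗ[Localization.AtPrime p.asIdeal]
      Localization.AtPrime p.asIdeal :=
    (IsLocalizedModule.linearEquiv p.asIdeal.primeCompl (LocalizedModule.mkLinearMap p.asIdeal.primeCompl A)
      (Algebra.linearMap A (Localization.AtPrime p.asIdeal))).extendScalarsOfIsLocalization p.asIdeal.primeCompl _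
  haveI : IsNoetherianRing (Localization.AtPrime p.asIdeal) :=
    IsLocalization.isNoetherianRing p.asIdeal.primeCompl _ ‹_›
  unfold LocCoh.IsCohenMacaulayModule
  rw [Module.supportDim_eq_of_equiv ε, CommAlgDim.depth_congr ε]
  exact ⟨fun h => h.supportDim_eq_depth, fun h => ⟨h⟩⟩

theorem mem_support_ring (p : PrimeSpectrum A) : p ∈ Module.support A A :=
  Module.mem_support_iff_of_finite.2 fun a ha => by
    have h1 : a • (1 : A) = 0 := Module.mem_annihilator.1 ha 1
    rw [smul_eq_mul, mul_one] at h1
    rw [h1]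
    exact p.asIdeal.zero_mem

theorem isOpen_dense_CM_ring (hω : Dual.IsDualizing A ω) :
    IsOpen {p : PrimeSpectrum A | LocCoh.IsCohenMacaulayLocalRing (Localization.AtPrime p.asIdeal)} ∧
      Dense {p : PrimeSpectrum A | LocCoh.IsCohenMacaulayLocalRing (Localization.AtPrime p.asIdeal)} := by
  simp only [isCM_localRing_iff]
  constructor
  · convert isOpen_CM hω A using 1
    ext p
    simp only [Set.mem_ofPred_eq]
    exact ⟨Or.inr, fun h => h.resolve_left fun hs => notMem_support_iff_subsingleton.2 hs (mem_support_ring p)⟩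
  · intro p
    exact closure_mono Set.inter_subset_left (support_subset_closure_CM hω A (mem_support_ring p))

theorem isCohenMacaulayRing_of_module (W : Type u) [AddCommGroup W] [Module A W]
    (h : Dual.IsDualizing A (Dual.inD A W)) : LocCoh.IsCohenMacaulayRing A := by
  refine { isCohenMacaulayLocalRing_localization := fun p _ => ?_ }
  refine (isCM_localRing_iff ⟨p, inferInstance⟩).2 ((isCM_localized_iff h _ A (mem_support_ring _)).2
    fun i j hi hj => ?_)
  have key : ∀ i, ¬ Van p (Ext (Dual.inD A W) (ModuleCat.of A A) i) → i = 0 := fun i hi => by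
    by_contra hne
    exact hi (@van_of_subsingleton A _ p _ _ _ _ ((extHL (Dual.inD A W) i).toEquiv.subsingleton_congr.2
      (ModuleCat.subsingleton_of_isZero (DRingLib.isZero_Hn_inD W hne))))
  rw [key i hi, key j hj]

end Groth.Agent.DualCxLib
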