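import Groth.Agent.DualCxLib.LocDualHull
import Groth.Agent.LocCohLib.NonVanishing

/-!
# Local duality
-/

set_option autoImplicit false
set_option linter.style.haveILetI false
set_option linter.unusedSectionVars false
set_option maxHeartbeats 1000000

universe u

open CategoryTheory CategoryTheory.Limits
open Groth.Agent
open DTenLib.Point (hH sg)

attribute [local instance] HasDerivedCategory.standard

noncomputable section

namespace LocCohLib

variable {C D : Type*} [Category C] [Abelian C] [Category D] [Abelian D] [EnoughInjectives C]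
variable {T T' : DeltaFun C D}

/-- The comparison of effaceable delta functors commutes with every connecting map. -/
theorem DeltaFun.δ_succHom_app (h : T.Effaceable) (i : ℕ) (α : T.F i ⟶ T'.F i) {S : ShortComplex C}
    (hS : S.ShortExact) :
    T.δ hS i ≫ (DeltaFun.succHom h i α).app S.X₁ = α.app S.X₃ ≫ T'.δ hS i := by
  haveI := hS.mono_f
  haveI := hS.epi_g
  let t₂ : S.X₂ ⟶ Injective.under S.X₁ := Injective.factorThru (Injective.ι S.X₁) S.f
  have h₂ : S.f ≫ t₂ = Injective.ι S.X₁ := Injective.comp_factorThru _ _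
  have h₀ : S.f ≫ t₂ ≫ cokernel.π (Injective.ι S.X₁) = 0 := by
    rw [← Category.assoc, h₂, cokernel.condition]
  let φ : S ⟶ DeltaFun.under C S.X₁ :=
    { τ₁ := 𝟙 _
      τ₂ := t₂
      τ₃ := hS.exact.desc _ h₀
      comm₁₂ := (Category.id_comp _).trans h₂.symm
      comm₂₃ := (hS.exact.g_desc _ h₀).symm }
  let u := DeltaFun.under_shortExact S.X₁
  have e : T.δ hS i = (T.F i).map φ.τ₃ ≫ T.δ u i :=
    ((Category.comp_id _).symm.trans (congrArg (T.δ hS i ≫ ·) ((T.F (i + 1)).map_id S.X₁).symm)).trans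
      (T.δ_natural hS u φ i)
  have e' : T'.δ hS i = (T'.F i).map φ.τ₃ ≫ T'.δ u i :=
    ((Category.comp_id _).symm.trans (congrArg (T'.δ hS i ≫ ·) ((T'.F (i + 1)).map_id S.X₁).symm)).trans
      (T'.δ_natural hS u φ i)
  exact (congrArg (· ≫ (DeltaFun.succHom h i α).app S.X₁) e).trans ((Category.assoc _ _ _).trans
    ((congrArg ((T.F i).map φ.τ₃ ≫ ·) (DeltaFun.δ_succApp h i α S.X₁)).trans
      ((α.naturality_assoc φ.τ₃ _).trans (congrArg (α.app S.X₃ ≫ ·) e'.symm))))

end LocCohLib

namespace Groth.Agent.DualCxLib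

variable {A : Type u} [CommRing A] [IsLocalRing A] [IsNoetherianRing A] {ω : Dual.D A}
  {E : Type u} [AddCommGroup E] [Module A E]

/-- `H^i_m` in one universe up. -/
abbrev lcUp (A : Type u) [CommRing A] [IsLocalRing A] :
    LocCohLib.DeltaFun (ModuleCat.{u} A) (ModuleCat.{u + 1} A) :=
  (LocCohLib.lcDelta (IsLocalRing.maximalIdeal A)).postcomp (ModuleCat.uliftFunctor.{u + 1, u} A)

/-- `H^i_m(M)` one universe up. -/
abbrev upH (A : Type u) [CommRing A] [IsLocalRing A] (i : ℕ) (M : ModuleCat.{u} A) : ModuleCat.{u + 1} A :=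
  (localCohomology (IsLocalRing.maximalIdeal A) i ⋙ ModuleCat.uliftFunctor.{u + 1, u} A).obj M

theorem lcUp_effaceable : (lcUp A).Effaceable :=
  (LocCohLib.lcDelta_effaceable _).postcomp _

namespace Traces

variable (T : Traces ω E)

/-- The degree zero comparison. -/
def theta₀ : (lcUp A).F 0 ⟶ dualExt ω E 0 where
  app M :=
    show upH A 0 M ⟶ _ from
      ModuleCat.ofHom ((T.theta M).comp
        ((((LocCohLib.lcZeroIso (IsLocalRing.maximalIdeal A)).app M).hom.hom).comp
          (ULift.moduleEquiv.{u, u, u + 1} (M := (localCohomology (IsLocalRing.maximalIdeal A) 0).obj M)).toLinearMap))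
  naturality M N φ := ModuleCat.hom_ext (LinearMap.ext fun y => LinearMap.ext fun g => by
    show T.theta N (((LocCohLib.lcZeroIso (IsLocalRing.maximalIdeal A)).hom.app N).hom
        (((localCohomology (IsLocalRing.maximalIdeal A) 0).map φ).hom y.down)) g =
      T.theta M (((LocCohLib.lcZeroIso (IsLocalRing.maximalIdeal A)).hom.app M).hom y.down) (extMap ω φ 0 g)
    exact (congrArg (fun z => T.theta N z g) (ConcreteCategory.congr_hom
      ((LocCohLib.lcZeroIso (IsLocalRing.maximalIdeal A)).hom.naturality φ) y.down)).trans (T.theta_natural φ _ g))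

variable (hE : Module.Baer A E) (hpos : ∀ M : ModuleCat.{u} A, Subsingleton (Ext ω M 1))

/-- The comparison in every degree. -/
def thetaNat : ∀ i : ℕ, (lcUp A).F i ⟶ dualExt ω E i
  | 0 => T.theta₀
  | i + 1 => LocCohLib.DeltaFun.succHom (T' := dualDelta ω E hE hpos) lcUp_effaceable i (thetaNat i)

/-- The duality map `H^i_m(M) → Hom(Ext^{-i}(M, ω), E)`. -/
def map (i : ℕ) (M : ModuleCat.{u} A) :
    (localCohomology (IsLocalRing.maximalIdeal A) i).obj M →ₗ[A] (Ext ω M (-(i : ℤ)) →ₗ[A] E) :=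
  (show upH A i M ⟶ (dualExt ω E i).obj M from (T.thetaNat hE hpos i).app M).hom.comp
    (ULift.moduleEquiv.{u, u, u + 1} (M := (localCohomology (IsLocalRing.maximalIdeal A) i).obj M)).symm.toLinearMap

theorem map_natural (i : ℕ) {M N : ModuleCat.{u} A} (φ : M ⟶ N)
    (y : (localCohomology (IsLocalRing.maximalIdeal A) i).obj M) (g : Ext ω N (-(i : ℤ))) :
    T.map hE hpos i N (((localCohomology (IsLocalRing.maximalIdeal A) i).map φ).hom y) g =
      T.map hE hpos i M y (extMap ω φ _ g) :=
  LinearMap.congr_fun (ConcreteCategory.congr_hom ((T.thetaNat hE hpos i).naturality φ) (ULift.up y)) g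

theorem map_δ_hom (i : ℕ) {S : ShortComplex (ModuleCat.{u} A)} (hS : S.ShortExact) :
    (lcUp A).δ hS i ≫ (T.thetaNat hE hpos (i + 1)).app S.X₁ = (T.thetaNat hE hpos i).app S.X₃ ≫ dualδ ω hS E i :=
  LocCohLib.DeltaFun.δ_succHom_app (T' := dualDelta ω E hE hpos) lcUp_effaceable i (T.thetaNat hE hpos i) hS

theorem map_δ (i : ℕ) {S : ShortComplex (ModuleCat.{u} A)} (hS : S.ShortExact)
    (y : (localCohomology (IsLocalRing.maximalIdeal A) i).obj S.X₃) (g : Ext ω S.X₁ (-((i + 1 : ℕ) : ℤ))) :
    T.map hE hpos (i + 1) S.X₁ (((LocCohLib.lcDelta (IsLocalRing.maximalIdeal A)).δ hS i).hom y) g =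
      T.map hE hpos i S.X₃ y (conn ω hS (-((i + 1 : ℕ) : ℤ)) (-(i : ℤ)) (by omega) g) := by
  have h := T.map_δ_hom hE hpos i hS
  have h2 := congrArg (fun (z : upH A i S.X₃ ⟶ (dualExt ω E (i + 1)).obj S.X₁) => z.hom (ULift.up y)) h
  exact LinearMap.congr_fun h2 g

theorem map_zero_apply (M : ModuleCat.{u} A) (y : (localCohomology (IsLocalRing.maximalIdeal A) 0).obj M) :
    T.map hE hpos 0 M y = T.theta M (((LocCohLib.lcZeroIso (IsLocalRing.maximalIdeal A)).app M).hom.hom y) := rfl

end Traces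

theorem exists_pow_kill_of_finite {V : Type*} [AddCommGroup V] [Module A V] [Module.Finite A V]
    {W : Type*} [AddCommGroup W] [Module A W] (hW : ∀ x : W, ∃ n : ℕ, ∀ a ∈ IsLocalRing.maximalIdeal A ^ n, a • x = 0)
    (φ : V →ₗ[A] W) : ∃ n : ℕ, ∀ a ∈ IsLocalRing.maximalIdeal A ^ n, a • φ = 0 := by
  classical
  obtain ⟨s, hs⟩ := (Module.Finite.fg_top : (⊤ : Submodule A V).FG)
  choose c hc using fun v : V => hW (φ v)
  refine ⟨s.sup c, fun a ha => LinearMap.ext_on hs fun v hv => ?_⟩
  exact hc v a (Ideal.pow_le_pow_right (Finset.le_sup hv) ha)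

theorem isFiniteLength_of_pow_kill (M : Type u) [AddCommGroup M] [Module A M] [Module.Finite A M] {k : ℕ}
    (hk : ∀ a ∈ IsLocalRing.maximalIdeal A ^ k, ∀ x : M, a • x = 0) : IsFiniteLength A M := by
  obtain ⟨_, _⟩ := isFiniteLength_iff_isNoetherian_isArtinian.1
    (InjHullLib.isFiniteLength_quotient_pow (m := IsLocalRing.maximalIdeal A) k)
  obtain ⟨r, π, hπ⟩ := Module.Finite.exists_fin' A M
  let q : (Fin r → A ⧸ IsLocalRing.maximalIdeal A ^ k) →ₗ[A] M :=
    ∑ j, (Submodule.liftQ _ (LinearMap.toSpanSingleton A M (π (Pi.single j 1))) fun c hc => hk c hc _) ∘ₗ LinearMap.proj j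
  refine isFiniteLength_iff_isNoetherian_isArtinian.2 ⟨inferInstance, isArtinian_of_surjective _ q fun x => ?_⟩
  obtain ⟨c, rfl⟩ := hπ x
  refine ⟨fun j => Submodule.Quotient.mk (c j), ?_⟩
  rw [pi_eq_sum_univ' c, map_sum]
  simp [q, LinearMap.sum_apply, Pi.single_apply]
  rfl

variable (hω : Dual.IsDualizing A ω) (hn : Dual.IsNormalized A ω)
include hω hn

/-- No degree zero `Ext` for a module of positive depth. -/
theorem subsingleton_ext_zero_of_regular (M : Type u) [AddCommGroup M] [Module A M] [Module.Finite A M] {x : A}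
    (hx : x ∈ IsLocalRing.maximalIdeal A) (hreg : IsSMulRegular M x) :
    Subsingleton (Ext ω (ModuleCat.of A M) 0) := by
  haveI : IsNoetherian A (Ext ω (ModuleCat.of A M) 0) := Ext_finite hω M 0
  have hS := shortExact_mulSeq (M := ModuleCat.of A M) hreg
  haveI h1 : Subsingleton (Ext ω (mulSeq (ModuleCat.of A M) x).X₃ (0 + 1)) :=
    subsingleton_ext_pos hω hn _ _ (by omega)
  refine Submodule.subsingleton_iff A |>.1 (subsingleton_of_top_le_bot (le_of_eq ?_))
  refine Submodule.eq_bot_of_le_smul_of_le_jacobson_bot (IsLocalRing.maximalIdeal A) ⊤ (IsNoetherian.noetherian _) ?_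
    (by rw [IsLocalRing.jacobson_eq_maximalIdeal _ bot_ne_top])
  intro g _
  obtain ⟨g', hg'⟩ := exists_extend hS 0 h1 g
  rw [show g = x • g' from hg'.trans (extMap_smul_id x _ 0 g')]
  exact Submodule.smul_mem_smul hx Submodule.mem_top

variable (T : Traces ω E) {f : IsLocalRing.ResidueField A →ₗ[A] E} (hf : InjHull.IsInjectiveHull f)
  (hE : Module.Baer A E) (hpos : ∀ M : ModuleCat.{u} A, Subsingleton (Ext ω M 1))
include hf

theorem theta_bijective (M : Type u) [AddCommGroup M] [Module A M] [Module.Finite A M] {k : ℕ}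
    (hk : ∀ a ∈ IsLocalRing.maximalIdeal A ^ k, ∀ x : M, a • x = 0) :
    Function.Bijective (T.theta (ModuleCat.of A M)) := by
  have hkill : ∀ a ∈ IsLocalRing.maximalIdeal A ^ (k + 1), ∀ x : ModuleCat.of A M, a • x = 0 := fun a ha x =>
    hk a (Ideal.pow_le_pow_right (Nat.le_succ k) ha) x
  have hvan : ∀ (N : ModuleCat.{u} A) [Module.Finite A N], (∀ r ∈ IsLocalRing.maximalIdeal A ^ (k + 1), ∀ x : N, r • x = 0) →
      Subsingleton (Ext ω N (0 - 1)) := fun N _ hN =>
    subsingleton_ext_finLen hn N (isFiniteLength_of_pow_kill N hN) _ (by omega)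
  let e₁ : Ext ω (ModuleCat.of A M) 0 ≃ₗ[A] (M →ₗ[A] Ext ω (qPow A (k + 1)) 0) :=
    LinearEquiv.ofBijective (rep hkill) ⟨rep_injective hvan hkill, rep_surjective hvan hkill⟩
  let c : (M →ₗ[A] Ext ω (qPow A (k + 1)) 0) →ₗ[A] (M →ₗ[A] E) :=
    { toFun := fun φ => (T.ι (k + 1)).comp φ
      map_add' := fun φ ψ => LinearMap.comp_add _ _ _
      map_smul' := fun r φ => LinearMap.comp_smul _ r φ }
  have hc : Function.Bijective c := ⟨fun u v h => LinearMap.ext fun x => T.injective _ (LinearMap.congr_fun h x),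
    fun φ => by
      have hmem : ∀ x, φ x ∈ LinearMap.range (T.ι (k + 1)) := fun x => by
        rw [range_eq_torsion hω hn hf k _ (T.injective _)]
        exact InjHullLib.mem_torsionBy_iff.2 fun a ha => by rw [← map_smul, hkill a ha x, map_zero]
      exact ⟨(LinearEquiv.ofInjective _ (T.injective _)).symm.toLinearMap.comp (φ.codRestrict _ hmem),
        LinearMap.ext fun x => congrArg Subtype.val
          ((LinearEquiv.ofInjective _ (T.injective (k + 1))).apply_symm_apply ⟨φ x, hmem x⟩)⟩⟩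
  let e : Ext ω (ModuleCat.of A M) 0 ≃ₗ[A] (M →ₗ[A] E) := e₁.trans (LinearEquiv.ofBijective c hc)
  have key : ∀ (x : DRing.torsionSub (IsLocalRing.maximalIdeal A) (ModuleCat.of A M)) (g : Ext ω (ModuleCat.of A M) 0),
      T.theta (ModuleCat.of A M) x g = e g x.1 := fun x g => T.theta_apply x (k + 1) (fun a ha => hkill a ha _) g
  have hd := InjHullLib.applyₗ_bijective_of_isFiniteLength hf (isFiniteLength_of_pow_kill M hk) hk
  refine ⟨fun x y h => Subtype.ext (hd.1 (LinearMap.ext fun φ => ?_)), fun χ => ?_⟩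
  · obtain ⟨g, rfl⟩ := e.surjective φ
    exact (key x g).symm.trans ((LinearMap.congr_fun h g).trans (key y g))
  · obtain ⟨x, hx⟩ := hd.2 (χ ∘ₗ e.symm.toLinearMap)
    refine ⟨⟨x, k + 1, fun a ha => hkill a ha x⟩, LinearMap.ext fun g => ?_⟩
    exact (key _ g).trans ((LinearMap.congr_fun hx (e g)).trans (congrArg χ (e.symm_apply_apply g)))

/-- Local duality: the map is bijective on finite modules. -/
theorem map_bijective : ∀ (i : ℕ) (M : Type u) [AddCommGroup M] [Module A M] [Module.Finite A M],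
    Function.Bijective (T.map hE hpos i (ModuleCat.of A M)) := by
  intro i
  induction i with
  | zero =>
    intro M _ _ _
    let N := DRing.torsionSub (IsLocalRing.maximalIdeal A) M
    obtain ⟨k, hk⟩ := exists_pow_kill_of_finite (W := N)
      (LocCohLib.isPowerTorsion_gamma (IsLocalRing.maximalIdeal A) (ModuleCat.of A M)) (LinearMap.id : N →ₗ[A] N)
    have hbij := theta_bijective hω hn T hf N (k := k) fun a ha x => LinearMap.congr_fun (hk a ha) x
    let S : ShortComplex (ModuleCat.{u} A) := ShortComplex.mk (ModuleCat.ofHom N.subtype) (ModuleCat.ofHom N.mkQ)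
      (ModuleCat.hom_ext (LinearMap.ext fun x => (Submodule.Quotient.mk_eq_zero _).2 x.2))
    have hS : S.ShortExact :=
      { exact := (ShortComplex.moduleCat_exact_iff_range_eq_ker S).2
          ((Submodule.range_subtype _).trans (Submodule.ker_mkQ _).symm)
        mono_f := (ModuleCat.mono_iff_injective _).2 Subtype.val_injective
        epi_g := (ModuleCat.epi_iff_surjective _).2 (Submodule.mkQ_surjective _) }
    obtain ⟨x, hx, hreg⟩ := LocCohLib.exists_regular_mem (R := A) M
    haveI : Subsingleton (Ext ω S.X₃ 0) := subsingleton_ext_zero_of_regular hω hn (M ⧸ N) hx hreg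
    haveI : Subsingleton (LocCoh.H (IsLocalRing.maximalIdeal A) 0 (M ⧸ N)) :=
      LocCohLib.subsingleton_H0_quot_torsion _ M
    have hfsurj : Function.Surjective (extMap ω S.f 0) := fun g =>
      (exists_extend hS 0 (subsingleton_ext_pos hω hn _ _ (by omega)) g).imp fun _ h => h.symm
    have hfinj : Function.Injective (extMap ω S.f 0) := (injective_iff_map_eq_zero _).2 fun g hg => by
      obtain ⟨w, rfl⟩ := exists_of_extMap_f_eq_zero hS 0 g hg
      rw [Subsingleton.elim w 0, map_zero]
    refine ⟨(injective_iff_map_eq_zero _).2 fun y hy => ?_, fun χ => ?_⟩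
    · obtain ⟨z, rfl⟩ := (ShortComplex.moduleCat_exact_iff _).1
        ((LocCohLib.lcDelta (IsLocalRing.maximalIdeal A)).exact₂ hS 0) y
        (Subsingleton.elim (α := LocCoh.H (IsLocalRing.maximalIdeal A) 0 (M ⧸ N)) _ _)
      have hz : T.map hE hpos 0 S.X₁ z = 0 := LinearMap.ext fun g => by
        obtain ⟨g', rfl⟩ := hfsurj g
        exact (T.map_natural hE hpos 0 S.f z g').symm.trans (LinearMap.congr_fun hy g')
      have hz0 : z = 0 := by
        have := hbij.1 (hz.trans (map_zero _).symm)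
        exact ((LocCohLib.lcZeroIso (IsLocalRing.maximalIdeal A)).app S.X₁).toLinearEquiv.injective
          (this.trans (map_zero _).symm)
      rw [hz0]
      exact map_zero _
    · obtain ⟨t, ht⟩ := hbij.2 (χ ∘ₗ (LinearEquiv.ofBijective (extMap ω S.f 0) ⟨hfinj, hfsurj⟩).symm.toLinearMap)
      refine ⟨((localCohomology (IsLocalRing.maximalIdeal A) 0).map S.f).hom
        ((((LocCohLib.lcZeroIso (IsLocalRing.maximalIdeal A)).app S.X₁).toLinearEquiv).symm t), LinearMap.ext fun g => ?_⟩
      refine (T.map_natural hE hpos 0 S.f _ g).trans ?_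
      rw [T.map_zero_apply, show (((LocCohLib.lcZeroIso (IsLocalRing.maximalIdeal A)).app S.X₁).hom.hom
          ((((LocCohLib.lcZeroIso (IsLocalRing.maximalIdeal A)).app S.X₁).toLinearEquiv).symm t)) = t from
        (((LocCohLib.lcZeroIso (IsLocalRing.maximalIdeal A)).app S.X₁).toLinearEquiv).apply_symm_apply t]
      exact (LinearMap.congr_fun ht _).trans (congrArg χ
        ((LinearEquiv.ofBijective (extMap ω S.f 0) ⟨hfinj, hfsurj⟩).symm_apply_apply g))
  | succ i ih =>
    intro M _ _ _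
    let N := DRing.torsionSub (IsLocalRing.maximalIdeal A) M
    let S : ShortComplex (ModuleCat.{u} A) := ShortComplex.mk (ModuleCat.ofHom N.subtype) (ModuleCat.ofHom N.mkQ)
      (ModuleCat.hom_ext (LinearMap.ext fun x => (Submodule.Quotient.mk_eq_zero _).2 x.2))
    have hS : S.ShortExact :=
      { exact := (ShortComplex.moduleCat_exact_iff_range_eq_ker S).2
          ((Submodule.range_subtype _).trans (Submodule.ker_mkQ _).symm)
        mono_f := (ModuleCat.mono_iff_injective _).2 Subtype.val_injective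
        epi_g := (ModuleCat.epi_iff_surjective _).2 (Submodule.mkQ_surjective _) }
    have hNt : LocCoh.IsPowerTorsion (IsLocalRing.maximalIdeal A) N :=
      LocCohLib.isPowerTorsion_gamma (IsLocalRing.maximalIdeal A) (ModuleCat.of A M)
    obtain ⟨k, hk⟩ := exists_pow_kill_of_finite (W := N) hNt (LinearMap.id : N →ₗ[A] N)
    have hNfl := isFiniteLength_of_pow_kill N (k := k) fun a ha x => LinearMap.congr_fun (hk a ha) x
    obtain ⟨x, hxm, hreg⟩ := LocCohLib.exists_regular_mem (R := A) M
    have hsat : ∀ n : ℕ, IsSMulRegular (M ⧸ N) (x ^ n) := fun n => hreg.pow n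
    have hQ : Function.Bijective (T.map hE hpos (i + 1) (ModuleCat.of A (M ⧸ N))) := by
      refine ⟨(injective_iff_map_eq_zero _).2 fun y hy => ?_, fun χ => ?_⟩
      · obtain ⟨n, hn'⟩ := LocCohLib.isPowerTorsion_H (IsLocalRing.maximalIdeal A) (i + 1) (M ⧸ N) y
        have hSx := shortExact_mulSeq (M := ModuleCat.of A (M ⧸ N)) (hsat n)
        obtain ⟨z, hz⟩ := (ShortComplex.moduleCat_exact_iff _).1
          ((LocCohLib.lcDelta (IsLocalRing.maximalIdeal A)).exact₁ hSx i) y
          ((ConcreteCategory.congr_hom (LocCohLib.map_smul_id (IsLocalRing.maximalIdeal A) (x ^ n) (i + 1)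
            (ModuleCat.of A (M ⧸ N))) y).trans (hn' _ (Ideal.pow_mem_pow hxm n)))
        subst hz
        obtain ⟨w, hw⟩ := exists_comp_of_exact hE _ _
          (fun q hq => exists_conn_eq ω hSx (-((i + 1 : ℕ) : ℤ)) (-(i : ℤ)) (by omega) q hq)
          (T.map hE hpos i _ z) (LinearMap.ext fun g =>
            (T.map_δ hE hpos i hSx z g).symm.trans (LinearMap.congr_fun hy g))
        obtain ⟨v, hv⟩ := (ih (mulSeq (ModuleCat.of A (M ⧸ N)) (x ^ n)).X₂).2 w
        have hzv : z = ((localCohomology (IsLocalRing.maximalIdeal A) i).map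
            (mulSeq (ModuleCat.of A (M ⧸ N)) (x ^ n)).g).hom v :=
          (ih (mulSeq (ModuleCat.of A (M ⧸ N)) (x ^ n)).X₃).1 (LinearMap.ext fun g => by
            refine Eq.trans ?_ (T.map_natural hE hpos i _ v g).symm
            rw [show T.map hE hpos i _ v = w from hv]
            exact (LinearMap.congr_fun hw g).symm)
        rw [hzv]
        exact ConcreteCategory.congr_hom
          ((LocCohLib.lcDelta (IsLocalRing.maximalIdeal A)).map_comp_δ hSx i) v
      · haveI : IsNoetherian A (Ext ω (ModuleCat.of A (M ⧸ N)) (-((i + 1 : ℕ) : ℤ))) := Ext_finite hω _ _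
        obtain ⟨n, hn'⟩ := exists_pow_kill_of_finite (InjHullLib.isPowerTorsion_hull_local hf) χ
        have hSx := shortExact_mulSeq (M := ModuleCat.of A (M ⧸ N)) (hsat n)
        obtain ⟨ψ, hψ⟩ := exists_comp_of_exact hE _ (conn ω hSx (-((i + 1 : ℕ) : ℤ)) (-(i : ℤ)) (by omega))
          (fun q hq => exists_extMap_f_eq ω hSx _ _ (by omega) q hq) χ (LinearMap.ext fun g => by
            refine (congrArg χ (extMap_smul_id (x ^ n) _ _ g)).trans ?_
            rw [map_smul]
            exact LinearMap.congr_fun (hn' _ (Ideal.pow_mem_pow hxm n)) g)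
        obtain ⟨v, hv⟩ := (ih (mulSeq (ModuleCat.of A (M ⧸ N)) (x ^ n)).X₃).2 ψ
        refine ⟨((LocCohLib.lcDelta (IsLocalRing.maximalIdeal A)).δ hSx i).hom v, LinearMap.ext fun g => ?_⟩
        refine (T.map_δ hE hpos i hSx v g).trans ?_
        rw [show T.map hE hpos i _ v = ψ from hv]
        exact LinearMap.congr_fun hψ g
    haveI h1 : Subsingleton (LocCoh.H (IsLocalRing.maximalIdeal A) (i + 1) N) :=
      LocCohLib.subsingleton_H_of_torsion _ N hNt _ (Nat.succ_pos _)
    haveI h2 : Subsingleton (LocCoh.H (IsLocalRing.maximalIdeal A) (i + 1 + 1) N) :=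
      LocCohLib.subsingleton_H_of_torsion _ N hNt _ (Nat.succ_pos _)
    have hginj : Function.Injective (extMap ω S.g (-((i + 1 : ℕ) : ℤ))) := (injective_iff_map_eq_zero _).2 fun g hg => by
      obtain ⟨w, rfl⟩ := exists_conn_eq ω hS (-((i + 1 + 1 : ℕ) : ℤ)) (-((i + 1 : ℕ) : ℤ)) (by omega) g hg
      haveI : Subsingleton (Ext ω S.X₁ (-((i + 1 + 1 : ℕ) : ℤ))) := subsingleton_ext_finLen hn N hNfl _ (by omega)
      rw [Subsingleton.elim w 0, map_zero]
    have hgsurj : Function.Surjective (extMap ω S.g (-((i + 1 : ℕ) : ℤ))) := fun g => by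
      haveI : Subsingleton (Ext ω S.X₁ (-((i + 1 : ℕ) : ℤ))) := subsingleton_ext_finLen hn N hNfl _ (by omega)
      exact (exists_of_extMap_f_eq_zero hS _ g (Subsingleton.elim _ _)).imp fun _ h => h.symm
    have hHinj : Function.Injective ((localCohomology (IsLocalRing.maximalIdeal A) (i + 1)).map S.g).hom :=
      (injective_iff_map_eq_zero _).2 fun y hy => by
        obtain ⟨w, rfl⟩ := (ShortComplex.moduleCat_exact_iff _).1
          ((LocCohLib.lcDelta (IsLocalRing.maximalIdeal A)).exact₂ hS (i + 1)) y hy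
        rw [Subsingleton.elim (α := LocCoh.H (IsLocalRing.maximalIdeal A) (i + 1) N) w 0]
        exact map_zero _
    refine ⟨fun y y' h => hHinj (hQ.1 (LinearMap.ext fun g => ?_)), fun χ => ?_⟩
    · exact (T.map_natural hE hpos (i + 1) S.g y g).trans
        ((LinearMap.congr_fun h _).trans (T.map_natural hE hpos (i + 1) S.g y' g).symm)
    · obtain ⟨t, ht⟩ := hQ.2 (χ ∘ₗ extMap ω S.g _)
      obtain ⟨y, hy⟩ := (ShortComplex.moduleCat_exact_iff _).1
        ((LocCohLib.lcDelta (IsLocalRing.maximalIdeal A)).exact₃ hS (i + 1)) t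
        (Subsingleton.elim (α := LocCoh.H (IsLocalRing.maximalIdeal A) (i + 1 + 1) N) _ _)
      refine ⟨y, LinearMap.ext fun g => ?_⟩
      obtain ⟨g', rfl⟩ := hgsurj g
      refine (T.map_natural hE hpos (i + 1) S.g y g').symm.trans ?_
      exact (congrArg (fun z => T.map hE hpos (i + 1) _ z g') hy).trans (LinearMap.congr_fun ht g')

omit hf in
/-- Local duality. -/
theorem nonempty_localDuality (hf : InjHull.IsInjectiveHull f) (M : Type u) [AddCommGroup M] [Module A M]
    [Module.Finite A M] (i : ℕ) :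
    Nonempty (LocCoh.H (IsLocalRing.maximalIdeal A) i M ≃ₗ[A] (Ext ω (ModuleCat.of A M) (-(i : ℤ)) →ₗ[A] E)) := by
  obtain ⟨T⟩ := nonempty_traces hω hn hf
  exact ⟨LinearEquiv.ofBijective _ (map_bijective hω hn T hf (Module.Baer.of_injective hf.isInjective)
    (fun M => subsingleton_ext_pos hω hn M 1 (by omega)) i M)⟩

end Groth.Agent.DualCxLib
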