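import Groth.Agent.DualCxLib.DepthApps
import Groth.Agent.CMFlatLib.Open
import Groth.Agent.DerLib.ExactHomology
import Groth.Prelude.Def_DualSch

/-!
# Dualizing complexes on schemes: stalks, the Cohen-Macaulay locus
-/

set_option autoImplicit false
set_option linter.style.haveILetI false
set_option linter.unusedSectionVars false

universe u

open CategoryTheory CategoryTheory.Limits AlgebraicGeometry
open Groth.Agent

attribute [local instance] HasDerivedCategory.standard

noncomputable section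

namespace Groth.Agent.DualCxLib

/-- The stalk of `M~`. -/
def stalkTilde (R : CommRingCat.{u}) (M : ModuleCat.{u} R) (x : PrimeSpectrum.Top R) :
    LocalizedModule x.asIdeal.primeCompl M ≃ ((tilde M).presheaf.stalk x : Type u) :=
  (IsLocalizedModule.iso x.asIdeal.primeCompl (tilde.toStalk M x).hom).toEquiv

variable {X : Scheme.{u}}
  [∀ (U : Scheme.{u}) (j : U ⟶ X) [IsOpenImmersion j], PreservesFiniteLimits (Scheme.Modules.restrictFunctor j)]
  [∀ (R : CommRingCat.{u}), PreservesFiniteLimits (tilde.functor R)]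
  {A : Type u} [CommRing A] (j : Spec (CommRingCat.of A) ⟶ X) [IsOpenImmersion j]

/-- The stalk of the cohomology of `K` at a point of an affine chart is a localization. -/
def stalkHD {K : DCoh.D X} {ω : Dual.D A}
    (e : (DCoh.restrictD j).obj K ≅ (DCoh.tildeD (CommRingCat.of A)).obj ω) (p : PrimeSpectrum A) (i : ℤ) :
    ((DCoh.HD K i).presheaf.stalk (j p) : Type u) ≃ LocalizedModule p.asIdeal.primeCompl (Dual.HD A ω i) :=
  haveI : (tilde.functor (CommRingCat.of A)).Additive :=
    instAdditiveModuleCatCarrierModulesSpecOfFunctor (R := CommRingCat.of A)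
  haveI : PreservesFiniteColimits (tilde.functor (CommRingCat.of A)) :=
    haveI : PreservesColimitsOfSize.{0, 0} (tilde.functor (CommRingCat.of A)) :=
      (tilde.adjunction (R := CommRingCat.of A)).leftAdjoint_preservesColimits
    PreservesColimitsOfSize.preservesFiniteColimits _
  let M : ModuleCat.{u} (CommRingCat.of A) := ModuleCat.of (CommRingCat.of A) (Dual.HD A ω i)
  let α : (Scheme.Modules.restrictFunctor j).obj (DCoh.HD K i) ≅ tilde M :=
    ((DerLib.ExactHomology.homologyIso (Scheme.Modules.restrictFunctor j) i).app K).symm ≪≫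
      (DerivedCategory.homologyFunctor _ i).mapIso e ≪≫
      (DerLib.ExactHomology.homologyIso (A := ModuleCat.{u} (CommRingCat.of A))
        (tilde.functor (CommRingCat.of A)) i).app ω
  let F : (Spec (CommRingCat.of A)).Modules ⥤ Ab.{u} :=
    Scheme.Modules.toPresheaf (Spec (CommRingCat.of A)) ⋙ TopCat.Presheaf.stalkFunctor Ab.{u} p
  let β := ((Scheme.Modules.restrictStalkNatIso j p).app (DCoh.HD K i)).symm ≪≫ F.mapIso α
  β.addCommGroupIsoToAddEquiv.toEquiv.trans (stalkTilde (CommRingCat.of A) M p).symm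

/-- The local ring at a point of an affine chart. -/
def stalkRing (p : PrimeSpectrum A) :
    (X.presheaf.stalk (j p) : Type u) ≃+* Localization.AtPrime p.asIdeal :=
  (asIso (j.stalkMap p)).commRingCatIsoToRingEquiv.trans
    (StructureSheaf.stalkIso A p).symm.toRingEquiv

theorem cm_stalk_iff_chart {ω : Dual.D A} (hω : Dual.IsDualizing A ω) [IsNoetherianRing A]
    {K : DCoh.D X} (e : (DCoh.restrictD j).obj K ≅ (DCoh.tildeD (CommRingCat.of A)).obj ω) (p : PrimeSpectrum A) :
    LocCoh.IsCohenMacaulayLocalRing (X.presheaf.stalk (j p)) ↔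
      ∃! i : ℤ, Nontrivial ((DCoh.HD K i).presheaf.stalk (j p)) := by
  rw [CMFlatLib.isCohenMacaulayLocalRing_congr (stalkRing j p), isCM_localRing_iff,
    isCM_localized_iff hω p A (mem_support_ring p)]
  simp only [(stalkHD j e p _).nontrivial_congr, nontrivial_localized_iff (extHL ω _)]
  obtain ⟨q₀, -, -, -, hne⟩ := exists_min_deg hω p A (mem_support_ring p)
  exact ⟨fun h => ⟨_, hne, fun i hi => h i _ hi hne⟩,
    fun ⟨n, _, hn⟩ i j hi hj => (hn i hi).trans (hn j hj).symm⟩

theorem chart_of_point [IsLocallyNoetherian X] (x : X) :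
    ∃ (A : Type u) (_ : CommRing A) (_ : IsNoetherianRing A) (j : Spec (CommRingCat.of A) ⟶ X)
      (_ : IsOpenImmersion j) (p : PrimeSpectrum A), j p = x := by
  obtain ⟨_, ⟨U, hU, rfl⟩, hx, -⟩ := X.isBasis_affineOpens.exists_subset_of_mem_open (Set.mem_univ x) isOpen_univ
  exact ⟨Γ(X, U), inferInstance, IsLocallyNoetherian.component_noetherian ⟨U, hU⟩, hU.fromSpec,
    inferInstance, hU.primeIdealOf ⟨x, hx⟩, hU.fromSpec_primeIdealOf ⟨x, hx⟩⟩

theorem isOpen_CM_locus_sch [IsLocallyNoetherian X] (ω : DCoh.D X) (hω : Dual2.IsDualizingSch X ω) :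
    (∀ x : X, LocCoh.IsCohenMacaulayLocalRing (X.presheaf.stalk x) ↔
      ∃! i : ℤ, Nontrivial ((DCoh.HD ω i).presheaf.stalk x)) ∧
    IsOpen {x : X | LocCoh.IsCohenMacaulayLocalRing (X.presheaf.stalk x)} := by
  refine ⟨fun x => ?_, isOpen_iff_forall_mem_open.2 fun x hx => ?_⟩
  · obtain ⟨A, _, _, j, _, p, rfl⟩ := chart_of_point x
    obtain ⟨w, hw, ⟨e⟩⟩ := hω A j
    exact cm_stalk_iff_chart j hw e p
  · obtain ⟨A, _, _, j, _, p, rfl⟩ := chart_of_point x
    obtain ⟨w, hw, -⟩ := hω A j
    refine ⟨(fun q : PrimeSpectrum A => j q) ''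
      {q : PrimeSpectrum A | LocCoh.IsCohenMacaulayLocalRing (Localization.AtPrime q.asIdeal)}, ?_, ?_, ?_⟩
    · rintro _ ⟨q, hq, rfl⟩
      exact (CMFlatLib.isCohenMacaulayLocalRing_congr (stalkRing j q)).2 hq
    · exact j.isOpenEmbedding.isOpenMap _ (isOpen_dense_CM_ring hw).1
    · exact ⟨p, (CMFlatLib.isCohenMacaulayLocalRing_congr (stalkRing j p)).1 hx, rfl⟩

end Groth.Agent.DualCxLib
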