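import Groth.Agent.DualCxLib.S2
import Groth.Agent.DualCxLib.Sch
import Groth.Agent.FlatLib.QStalk
import Groth.Agent.QCohLib.QCoh

/-!
# The lowest cohomology sheaf of a dualizing complex on affine opens
-/

set_option autoImplicit false
set_option linter.style.haveILetI false
set_option linter.unusedSectionVars false

universe u

open CategoryTheory CategoryTheory.Limits AlgebraicGeometry
open Groth.Agent

attribute [local instance] HasDerivedCategory.standard

noncomputable section

namespace Groth.Agent.DualCxLib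

variable {X : Scheme.{u}}

theorem image_top_eq {U : X.Opens} (hU : IsAffineOpen U) : hU.fromSpec ''ᵁ ⊤ = U :=
  (Scheme.Hom.image_top_eq_opensRange _).trans hU.opensRange_fromSpec

/-- Sections over an affine open of a module which is `N~` there. -/
def sectionsEquiv {U : X.Opens} (hU : IsAffineOpen U) (M : X.Modules) (N : ModuleCat.{u} Γ(X, U))
    (α : M.restrict hU.fromSpec ≅ tilde N) : (N : Type u) ≃ₗ[Γ(X, U)] Γ(M, U) :=
  let e₁ := (tilde.isoTop N ≪≫
    ((sheafToPresheaf _ _).mapIso (modulesSpecToSheaf.mapIso α.symm)).app (.op ⊤)).toLinearEquiv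
  let e₂ : (Γ(M.restrict hU.fromSpec, ⊤) : Type u) ≃+ (Γ(M, U) : Type u) :=
    (M.restrictAppIso hU.fromSpec ⊤ ≪≫ M.presheaf.mapIso (eqToIso (image_top_eq hU).symm).op).addCommGroupIsoToAddEquiv
  { e₁.toAddEquiv.trans e₂ with
    map_smul' := fun r m => by
      show e₂ (e₁ (r • m)) = r • e₂ (e₁ m)
      rw [map_smul]
      show M.presheaf.map _ ((M.restrictAppIso hU.fromSpec ⊤).hom (r • (show Γ(M.restrict hU.fromSpec, ⊤) from e₁ m))) = _
      rw [QCohLib.restrict_smul hU M ⊤ (image_top_eq hU).le r]
      refine (Scheme.Modules.map_smul M _ _ _).trans ?_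
      congr 1
      exact ((ConcreteCategory.congr_hom (X.presheaf.map_comp _ _) r).symm).trans (by simp) }

section Loc

variable {A S : Type u} [CommRing A] [IsNoetherianRing A] [CommRing S] [Algebra A S]
  (p : Ideal A) [p.IsPrime] [IsLocalization.AtPrime S p] {M N : Type u} [AddCommGroup M] [Module A M]
  [Module.Finite A M] [AddCommGroup N] [Module S N] [Module A N] [IsScalarTower A S N] (g : M →ₗ[A] N)
  [IsLocalizedModule p.primeCompl g]

include p g in
/-- Depth at least `min(2, dim)` passes to a localized module. -/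
theorem min_two_le_of_localized
    (h : ∀ q : PrimeSpectrum A, min (2 : WithBot ℕ∞) (ringKrullDim (Localization.AtPrime q.asIdeal)) ≤
      ((LocCoh.depth (Localization.AtPrime q.asIdeal) (LocalizedModule q.asIdeal.primeCompl M) : ℕ∞) : WithBot ℕ∞))
    (P : Ideal S) [P.IsPrime] :
    min (2 : WithBot ℕ∞) (ringKrullDim (Localization.AtPrime P)) ≤
      ((LocCoh.depth (Localization.AtPrime P) (LocalizedModule P.primeCompl N) : ℕ∞) : WithBot ℕ∞) := by
  let q : PrimeSpectrum A := ⟨P.comap (algebraMap A S), inferInstance⟩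
  haveI : IsScalarTower A S (Localization.AtPrime P) := inferInstance
  haveI : IsLocalization.AtPrime (Localization.AtPrime P) q.asIdeal :=
    IsLocalization.isLocalization_isLocalization_atPrime_isLocalization p.primeCompl (Localization.AtPrime P) P
  haveI : IsScalarTower A (Localization.AtPrime P) (LocalizedModule P.primeCompl N) :=
    IsScalarTower.of_algebraMap_smul fun a x => by
      rw [IsScalarTower.algebraMap_apply A S (Localization.AtPrime P), algebraMap_smul, algebraMap_smul]
  let g' : M →ₗ[A] LocalizedModule P.primeCompl N :=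
    ((LocalizedModule.mkLinearMap P.primeCompl N).restrictScalars A).comp g
  haveI : IsLocalizedModule q.asIdeal.primeCompl g' :=
    (isLocalizedModule_iff_isBaseChange q.asIdeal.primeCompl (Localization.AtPrime P) g').2
      (IsBaseChange.comp (IsLocalizedModule.isBaseChange p.primeCompl S g)
        (IsLocalizedModule.isBaseChange P.primeCompl (Localization.AtPrime P)
          (LocalizedModule.mkLinearMap P.primeCompl N)))
  refine le_trans (min_le_min_left _ (le_of_eq (ringKrullDim_eq_of_ringEquiv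
      (IsLocalization.algEquiv q.asIdeal.primeCompl (Localization.AtPrime P)
        (Localization.AtPrime q.asIdeal)).toRingEquiv))) ((h q).trans (WithBot.coe_le_coe.2 ?_))
  refine ENat.forall_natCast_le_iff_le.1 fun k hk => ?_
  exact (LocSuppLib.le_depth_iff_localization q.asIdeal g' k).2 hk

include p g in
/-- `(S₂)` for a localized module. -/
theorem hasSk_two_of_localized
    (h : ∀ q : PrimeSpectrum A, min (2 : WithBot ℕ∞) (ringKrullDim (Localization.AtPrime q.asIdeal)) ≤
      ((LocCoh.depth (Localization.AtPrime q.asIdeal) (LocalizedModule q.asIdeal.primeCompl M) : ℕ∞) : WithBot ℕ∞)) :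
    LocCoh.HasSk 2 S N := fun P _ =>
  le_trans (min_le_min_left _ (Module.supportDim_le_ringKrullDim _ _)) (min_two_le_of_localized p g h P)

include p g in
/-- Torsion-free localized modules. -/
theorem isTorsionFree_of_localized [IsDomain S] [IsDomain A] (h : ∀ a : A, a ≠ 0 → IsSMulRegular M a) :
    Module.IsTorsionFree S N := by
  refine ⟨fun r hr => ?_⟩
  obtain ⟨⟨a, t⟩, ht⟩ := IsLocalization.surj (M := p.primeCompl) r
  have hu : IsUnit (algebraMap A S t) := IsLocalization.map_units S t
  have ha : a ≠ 0 := fun ha => by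
    rw [ha, map_zero] at ht
    exact hr.ne_zero (hu.mul_left_eq_zero.1 ht)
  have hN : IsSMulRegular N a := fun x y (hxy : a • x = a • y) => by
    refine sub_eq_zero.1 ?_
    obtain ⟨⟨m, s⟩, hs⟩ := IsLocalizedModule.surj p.primeCompl g (x - y)
    have h1 : g (a • m) = 0 := by
      rw [map_smul, ← hs, smul_comm, smul_sub a, hxy, sub_self, smul_zero]
    obtain ⟨s', hs'⟩ := (IsLocalizedModule.eq_zero_iff p.primeCompl g).1 h1
    have h2 : (s' : A) • m = 0 := (h a ha).right_eq_zero_of_smul (by rw [smul_comm]; exact hs')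
    have h3 : g m = 0 := (IsLocalizedModule.eq_zero_iff p.primeCompl g).2 ⟨s', h2⟩
    exact IsLocalizedModule.smul_injective g s (by simp only [hs, h3, smul_zero])
  intro x y hxy
  refine hN ?_
  show a • x = a • y
  rw [← algebraMap_smul S a x, ← algebraMap_smul S a y, ← ht, mul_comm, mul_smul, mul_smul,
    show r • x = r • y from hxy]

end Loc

section HD

variable [∀ (U : Scheme.{u}) (j : U ⟶ X) [IsOpenImmersion j], PreservesFiniteLimits (Scheme.Modules.restrictFunctor j)]
  [∀ (R : CommRingCat.{u}), PreservesFiniteLimits (tilde.functor R)]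

/-- On a chart the cohomology sheaves are the `tilde` of the cohomology modules. -/
def chartIso {A : CommRingCat.{u}} (j : Spec A ⟶ X) [IsOpenImmersion j] {K : DCoh.D X} {ω : Dual.D A}
    (e : (DCoh.restrictD j).obj K ≅ (DCoh.tildeD A).obj ω) (i : ℤ) :
    (DCoh.HD K i).restrict j ≅ tilde (ModuleCat.of A (Dual.HD A ω i)) :=
  haveI : (tilde.functor A).Additive := instAdditiveModuleCatCarrierModulesSpecOfFunctor (R := A)
  haveI : PreservesFiniteColimits (tilde.functor A) :=
    haveI : PreservesColimitsOfSize.{0, 0} (tilde.functor A) :=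
      (tilde.adjunction (R := A)).leftAdjoint_preservesColimits
    PreservesColimitsOfSize.preservesFiniteColimits _
  ((DerLib.ExactHomology.homologyIso (Scheme.Modules.restrictFunctor j) i).app K).symm ≪≫
    (DerivedCategory.homologyFunctor _ i).mapIso e ≪≫
    (DerLib.ExactHomology.homologyIso (A := ModuleCat.{u} A) (tilde.functor A) i).app ω

theorem isQCoh_HD {K : DCoh.D X} (hK : Dual2.IsDualizingSch X K) (i : ℤ) : Coh.IsQCoh (DCoh.HD K i) := by
  refine QCohLib.isQCoh_of_cover _ (fun U : X.affineOpens => U.1) QCohLib.iSup_affineOpens_val fun U => ?_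
  haveI := U.2.isOpenImmersion_fromSpec
  obtain ⟨ω, -, ⟨e⟩⟩ := hK Γ(X, U.1) U.2.fromSpec
  refine QCohLib.isQCoh_restrict_ι_of_fromSpec U.2 _ ?_
  have h : Coh.IsQCoh (tilde (ModuleCat.of Γ(X, U.1) (Dual.HD Γ(X, U.1) ω i))) :=
    inferInstanceAs ((tilde (ModuleCat.of Γ(X, U.1) (Dual.HD Γ(X, U.1) ω i))).IsQuasicoherent)
  haveI := h
  exact QCohLib.isQCoh_of_iso (chartIso U.2.fromSpec e i).symm

/-- Sections of the cohomology sheaves over an affine open. -/
def sectionsHD {U : X.Opens} (hU : IsAffineOpen U) {K : DCoh.D X} {ω : Dual.D Γ(X, U)}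
    (e : (DCoh.restrictD hU.fromSpec).obj K ≅ (DCoh.tildeD Γ(X, U)).obj ω) (i : ℤ) :
    Dual.HD Γ(X, U) ω i ≃ₗ[Γ(X, U)] Γ(DCoh.HD K i, U) :=
  sectionsEquiv hU _ (ModuleCat.of Γ(X, U) (Dual.HD Γ(X, U) ω i)) (chartIso hU.fromSpec e i)

/-- If the cohomology vanishes below `n` then every degree is at least `n`. -/
theorem le_deg_of_isZero [IsLocallyNoetherian X] {U : X.Opens} (hU : IsAffineOpen U) {K : DCoh.D X}
    {ω : Dual.D Γ(X, U)} (hω : Dual.IsDualizing Γ(X, U) ω)
    (e : (DCoh.restrictD hU.fromSpec).obj K ≅ (DCoh.tildeD Γ(X, U)).obj ω) (n : ℤ)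
    (hlt : ∀ i : ℤ, i < n → IsZero (DCoh.HD K i)) :
    haveI := IsLocallyNoetherian.component_noetherian ⟨U, hU⟩
    ∀ q, n ≤ deg hω q := by
  haveI := IsLocallyNoetherian.component_noetherian ⟨U, hU⟩
  intro q
  obtain ⟨r, hr, hrq⟩ := Ideal.exists_minimalPrimes_le (show (⊥ : Ideal Γ(X, U)) ≤ q.asIdeal from bot_le)
  let r' : PrimeSpectrum Γ(X, U) := ⟨r, hr.1.1⟩
  refine le_trans ?_ ((deg_strictMono hω).monotone (show r' ≤ q from hrq))
  by_contra h
  have hnt := (nontrivial_HD_minimal_iff hω r' hr (deg hω r')).2 rfl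
  haveI : Subsingleton (Γ(DCoh.HD K (deg hω r'), U) : Type u) := subsingleton_of_forall_eq 0 fun x => by
    have h0 := congrArg (fun φ => Scheme.Modules.Hom.app φ U x) ((hlt _ (lt_of_not_ge h)).eq_of_src (𝟙 _) 0)
    simpa using h0
  haveI : Subsingleton (Dual.HD Γ(X, U) ω (deg hω r')) := (sectionsHD hU e _).toEquiv.subsingleton
  exact not_subsingleton_iff_nontrivial.2 hnt inferInstance

end HD

end Groth.Agent.DualCxLib
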