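import Groth.Agent.DualCxLib.LocAway
import Groth.Agent.DualCxLib.Chart
import Groth.Agent.SweepSix.TildePull
import Groth.Agent.S0997

/-!
# Changing affine charts of a dualizing complex
-/

set_option autoImplicit false
set_option linter.style.haveILetI false
set_option linter.unusedSectionVars false

universe u

open CategoryTheory CategoryTheory.Limits AlgebraicGeometry
open Groth.Agent DTen
open DTenLib.Point (hH sg)

attribute [local instance] HasDerivedCategory.standard

noncomputable section

namespace Groth.Agent.DualCxLib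

instance tilde_additive (A : CommRingCat.{u}) : (tilde.functor A).Additive :=
  instAdditiveModuleCatCarrierModulesSpecOfFunctor (R := A)

instance tilde_preservesFiniteColimits (A : CommRingCat.{u}) : PreservesFiniteColimits (tilde.functor A) :=
  haveI : PreservesColimitsOfSize.{0, 0} (tilde.functor A) :=
    (tilde.adjunction (R := A)).leftAdjoint_preservesColimits
  PreservesColimitsOfSize.preservesFiniteColimits _

section Restrict

variable [∀ (U V : Scheme.{u}) (j : U ⟶ V) [IsOpenImmersion j], PreservesFiniteLimits (Scheme.Modules.restrictFunctor j)]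
  {U V X : Scheme.{u}}

/-- Restriction of the image of a complex. -/
def restrictQ (j : U ⟶ X) [IsOpenImmersion j] (P : CochainComplex X.Modules ℤ) :
    (DCoh.restrictD j).obj (DerivedCategory.Q.obj P) ≅
      DerivedCategory.Q.obj (((Scheme.Modules.restrictFunctor j).mapHomologicalComplex (ComplexShape.up ℤ)).obj P) :=
  (Scheme.Modules.restrictFunctor j).mapDerivedCategoryFactors.app P

/-- Restriction is functorial in the open immersion. -/
def restrictCompIso (a : U ⟶ V) (b : V ⟶ X) [IsOpenImmersion a] [IsOpenImmersion b] (K : DCoh.D X) :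
    (DCoh.restrictD (a ≫ b)).obj K ≅ (DCoh.restrictD a).obj ((DCoh.restrictD b).obj K) :=
  let P := DerivedCategory.Q.objPreimage K
  let e : DerivedCategory.Q.obj P ≅ K := DerivedCategory.Q.objObjPreimageIso K
  (DCoh.restrictD (a ≫ b)).mapIso e.symm ≪≫ restrictQ (a ≫ b) P ≪≫
    DerivedCategory.Q.mapIso ((NatIso.mapHomologicalComplex (Scheme.Modules.restrictFunctorComp a b)
      (ComplexShape.up ℤ)).app P) ≪≫
    (restrictQ a (((Scheme.Modules.restrictFunctor b).mapHomologicalComplex (ComplexShape.up ℤ)).obj P)).symm ≪≫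
    (DCoh.restrictD a).mapIso ((restrictQ b P).symm ≪≫ (DCoh.restrictD b).mapIso e)

/-- Restriction along equal maps. -/
def restrictCongrIso {a b : U ⟶ X} [IsOpenImmersion a] [IsOpenImmersion b] (h : a = b) (K : DCoh.D X) :
    (DCoh.restrictD a).obj K ≅ (DCoh.restrictD b).obj K :=
  eqToIso (by subst h; rfl)

/-- Restriction of a sheaf placed in degree zero. -/
def restrictInD (j : U ⟶ X) [IsOpenImmersion j] (F : X.Modules) :
    (DCoh.restrictD j).obj (DCoh.inD X F) ≅ DCoh.inD U (F.restrict j) :=
  (DCoh.restrictD j).mapIso ((DerivedCategory.singleFunctorIsoCompQ X.Modules 0).app F) ≪≫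
    restrictQ j _ ≪≫ DerivedCategory.Q.mapIso ((HomologicalComplex.singleMapHomologicalComplex
      (Scheme.Modules.restrictFunctor j) (ComplexShape.up ℤ) 0).app F) ≪≫
    ((DerivedCategory.singleFunctorIsoCompQ U.Modules 0).app (F.restrict j)).symm

/-- The structure sheaf in degree zero restricts to the structure sheaf. -/
def restrictInDUnit (j : U ⟶ X) [IsOpenImmersion j] :
    (DCoh.restrictD j).obj (DCoh.inD X (Coh.structureModule X)) ≅ DCoh.inD U (Coh.structureModule U) :=
  restrictInD j _ ≪≫ (DerivedCategory.singleFunctor U.Modules 0).mapIso (Scheme.Modules.restrictUnitIso j)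

end Restrict

section Tilde

variable [∀ (R : CommRingCat.{u}), PreservesFiniteLimits (tilde.functor R)]

/-- The tilde of the ring in degree zero. -/
def tildeInDSelf (A : CommRingCat.{u}) :
    (DCoh.tildeD A).obj (Dual.inD A A) ≅ DCoh.inD (Spec A) (Coh.structureModule (Spec A)) :=
  (DCoh.tildeD A).mapIso ((DerivedCategory.singleFunctorIsoCompQ (ModuleCat.{u} A) 0).app (ModuleCat.of A A)) ≪≫
    (tilde.functor A).mapDerivedCategoryFactors.app _ ≪≫
    DerivedCategory.Q.mapIso ((HomologicalComplex.singleMapHomologicalComplex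
      (tilde.functor A) (ComplexShape.up ℤ) 0).app (ModuleCat.of A A)) ≪≫
    ((DerivedCategory.singleFunctorIsoCompQ (Spec A).Modules 0).app _).symm ≪≫
    (DerivedCategory.singleFunctor (Spec A).Modules 0).mapIso tildeSelf

variable [∀ (U V : Scheme.{u}) (j : U ⟶ V) [IsOpenImmersion j], PreservesFiniteLimits (Scheme.Modules.restrictFunctor j)]

/-- Restriction to an affine open of a tilde, termwise. -/
def tildeRestrictQ {A B : CommRingCat.{u}} (φ : A ⟶ B) [IsOpenImmersion (Spec.map φ)]
    (P : CochainComplex (ModuleCat.{u} A) ℤ) :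
    (DCoh.restrictD (Spec.map φ)).obj ((DCoh.tildeD A).obj (DerivedCategory.Q.obj P)) ≅
      (DCoh.tildeD B).obj (DerivedCategory.Q.obj
        (((ModuleCat.extendScalars.{u, u, u} φ.hom).mapHomologicalComplex (ComplexShape.up ℤ)).obj P)) :=
  let α : tilde.functor A ⋙ Scheme.Modules.restrictFunctor (Spec.map φ) ≅
      ModuleCat.extendScalars.{u, u, u} φ.hom ⋙ tilde.functor B :=
    (Functor.isoWhiskerLeft (tilde.functor A) (Scheme.Modules.restrictFunctorIsoPullback (Spec.map φ))) ≪≫
      SweepSix.tildePullIso φ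
  let T := ((tilde.functor A).mapHomologicalComplex (ComplexShape.up ℤ)).obj P
  let E := ((ModuleCat.extendScalars.{u, u, u} φ.hom).mapHomologicalComplex (ComplexShape.up ℤ)).obj P
  let c : ((Scheme.Modules.restrictFunctor (Spec.map φ)).mapHomologicalComplex (ComplexShape.up ℤ)).obj T ≅
      ((tilde.functor B).mapHomologicalComplex (ComplexShape.up ℤ)).obj E :=
    HomologicalComplex.Hom.isoOfComponents (fun i => α.app (P.X i)) fun i k _ =>
      (α.hom.naturality (P.d i k)).symm
  (DCoh.restrictD (Spec.map φ)).mapIso ((tilde.functor A).mapDerivedCategoryFactors.app P) ≪≫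
    restrictQ (Spec.map φ) T ≪≫ DerivedCategory.Q.mapIso c ≪≫
    ((tilde.functor B).mapDerivedCategoryFactors.app E).symm

variable {X : Scheme.{u}} {K : DCoh.D X} {A S : Type u} [CommRing A] [CommRing S]

theorem nonempty_iso_of_tildeD {ω ω' : Dual.D A}
    (e : (DCoh.tildeD (CommRingCat.of A)).obj ω ≅ (DCoh.tildeD (CommRingCat.of A)).obj ω') :
    Nonempty (ω ≅ ω') := by
  obtain ⟨_, _, -⟩ := Groth.Agent.S0997.result (CommRingCat.of A)
  exact ⟨(DCoh.tildeD (CommRingCat.of A)).preimageIso e⟩

variable [Algebra A S] (M : Submonoid A) [IsLocalization M S]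
  [IsOpenImmersion (Spec.map (CommRingCat.ofHom (algebraMap A S)))]
  (j : Spec (CommRingCat.of A) ⟶ X) [IsOpenImmersion j]

/-- The localization of a chart is a chart. -/
theorem exists_chart_loc {ω : Dual.D A}
    (e : (DCoh.restrictD j).obj K ≅ (DCoh.tildeD (CommRingCat.of A)).obj ω) :
    ∃ (Z : Dual.D S) (η : ω ⟶ (DRing.restrictD (algebraMap A S)).obj Z),
      IsUniv (algebraMap A S) η ∧ IsLocH (algebraMap A S) M η ∧
        Nonempty ((DCoh.restrictD (Spec.map (CommRingCat.ofHom (algebraMap A S)) ≫ j)).obj K ≅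
          (DCoh.tildeD (CommRingCat.of S)).obj Z) := by
  let P := DerivedCategory.Q.objPreimage ω
  let f : DerivedCategory.Q.obj P ≅ ω := DerivedCategory.Q.objObjPreimageIso ω
  refine ⟨_, _, (isUniv_γ M P).comp_iso f.symm (Iso.refl _), (isLocH_γ M P).comp_iso f.symm (Iso.refl _), ⟨?_⟩⟩
  exact restrictCompIso (Spec.map (CommRingCat.ofHom (algebraMap A S))) j K ≪≫
    (DCoh.restrictD (Spec.map (CommRingCat.ofHom (algebraMap A S)))).mapIso
      (e ≪≫ (DCoh.tildeD (CommRingCat.of A)).mapIso f.symm) ≪≫
    tildeRestrictQ (CommRingCat.ofHom (algebraMap A S)) P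

end Tilde

/-- Dualizing complexes are stable under isomorphism. -/
theorem isDualizing_of_iso {A : Type u} [CommRing A] {ω ω' : Dual.D A} (e : ω ≅ ω')
    (h : Dual.IsDualizing A ω) : Dual.IsDualizing A ω' := by
  obtain ⟨a, b, hab⟩ := h.finite_injective_dimension
  refine ⟨h.isNoetherianRing, ⟨a, b, fun N _ _ i hi => ?_⟩, fun i => ?_, ⟨fun x y hxy => ?_, fun g => ?_⟩,
    fun i hi => ?_⟩
  · exact ((Iso.refl _).homCongr ((shiftFunctor (Dual.D A) i).mapIso e)).subsingleton_congr.1 (hab N i hi)
  · haveI := h.finite_cohomology i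
    exact Module.Finite.equiv ((DerivedCategory.homologyFunctor (ModuleCat.{u} A) i).mapIso e).toLinearEquiv
  · refine h.toEnd_bijective.1 ?_
    have := congrArg (fun z => e.hom ≫ z ≫ e.inv) hxy
    simpa [Linear.smul_comp, Linear.comp_smul] using this
  · obtain ⟨r, hr⟩ := h.toEnd_bijective.2 (e.hom ≫ g ≫ e.inv)
    refine ⟨r, ?_⟩
    have := congrArg (fun z => e.inv ≫ z ≫ e.hom) hr
    simpa [Linear.smul_comp, Linear.comp_smul] using this
  · exact (e.homCongr ((shiftFunctor (Dual.D A) i).mapIso e)).subsingleton_congr.1 (h.ext_self_subsingleton i hi)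

end Groth.Agent.DualCxLib
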