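import Groth.Agent.DTenLib.PointObj
import Groth.Agent.DTenLib.Bounds
import Groth.Agent.DerLib.Horseshoe
import Groth.Agent.DerLib.KInjUse
import Mathlib.Algebra.Module.Injective

/-!
# Injective amplitude
-/

set_option autoImplicit false
set_option linter.style.haveILetI false
set_option linter.unusedSectionVars false

universe u

open CategoryTheory CategoryTheory.Limits HomologicalComplex
open Groth.Agent
open DTenLib.Point (hH sg sgH)

attribute [local instance] HasDerivedCategory.standard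

noncomputable section

namespace Groth.Agent.DualCxLib

variable {A : Type u} [CommRing A]

/-- Maps out of `N[-i]` are maps out of `N` to the shift. -/
def sgHomEquiv (N : ModuleCat.{u} A) (K : Dual.D A) (i : ℤ) :
    (sg N i ⟶ K) ≃ (Dual.inD A N ⟶ K⟦i⟧) :=
  ((DRingLib.singleShiftIso N i).homCongr (Iso.refl K)).symm.trans
    ((shiftEquiv' (Dual.D A) (-i) i (neg_add_cancel i)).toAdjunction.homEquiv _ _)

theorem isZero_of_ext_ring {K : Dual.D A} (i : ℤ)
    (h : Subsingleton (Dual.inD A (A ⧸ (⊥ : Ideal A)) ⟶ K⟦i⟧)) : IsZero ((hH A i).obj K) := by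
  let q : ModuleCat.of A A ≅ ModuleCat.of A (A ⧸ (⊥ : Ideal A)) :=
    (Submodule.quotEquivOfEqBot (⊥ : Ideal A) rfl).symm.toModuleIso
  haveI : Subsingleton (sg (ModuleCat.of A A) i ⟶ K) :=
    (((DerivedCategory.singleFunctor (ModuleCat.{u} A) i).mapIso q).homCongr (Iso.refl K)).subsingleton_congr.2
      ((sgHomEquiv _ K i).subsingleton_congr.2 h)
  haveI : Subsingleton ((hH A i).obj K) := subsingleton_of_forall_eq 0 fun x => by
    obtain ⟨f, hf⟩ := DTenLib.Point.exists_evA_eq i x
    rw [← hf, Subsingleton.elim f 0]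
    simp [DTenLib.Point.evA]
  exact ModuleCat.isZero_of_subsingleton _

/-- Injective amplitude from the vanishing of `Ext` from cyclic modules. -/
theorem hasInjAmplitudeIn_of_ext {K : Dual.D A} {a b : ℤ}
    (h : ∀ (I : Ideal A) (i : ℤ), (i < a ∨ b < i) → Subsingleton (Dual.inD A (A ⧸ I) ⟶ K⟦i⟧)) :
    DRing.HasInjAmplitudeIn A a b K := by
  classical
  haveI : K.IsGE a := (DerivedCategory.isGE_iff K a).2 fun i hi => isZero_of_ext_ring i (h ⊥ i (Or.inl hi))
  haveI : K.IsLE b := (DerivedCategory.isLE_iff K b).2 fun i hi => isZero_of_ext_ring i (h ⊥ i (Or.inr hi))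
  obtain ⟨L, hL, ⟨eL⟩⟩ := DerivedCategory.exists_iso_Q_obj_of_isGE K a
  haveI : EnoughInjectives (ModuleCat.{u} A) := inferInstance
  obtain ⟨J, α, hJ, hinj, -, hα⟩ := DerLib.Horseshoe.exists_injective_resolution L a
  haveI := hJ
  haveI := hinj
  haveI := hα
  haveI := CochainComplex.isKInjective_of_injective J a
  let eJ : DerivedCategory.Q.obj J ≅ K := (asIso (DerivedCategory.Q.map α)).symm ≪≫ eL.symm
  haveI : J.IsLE b := by
    rw [CochainComplex.isLE_iff]
    intro i hi
    rw [exactAt_iff_isZero_homology]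
    exact (DerivedCategory.isZero_of_isLE K b i hi).of_iso
      (((DerivedCategory.homologyFunctorFactors (ModuleCat.{u} A) i).app J).symm ≪≫ (hH A i).mapIso eJ)
  haveI : QuasiIso (J.ιTruncLE b) := (J.quasiIso_ιTruncLE_iff b).2 inferInstance
  have hZ : Module.Injective A (J.cycles b) := by
    haveI : ∀ i, Module.Injective A (J.X i) := fun i => Module.injective_module_of_injective_object A (J.X i)
    refine Module.Baer.injective fun I φ => ?_
    obtain ⟨ψ, hψ⟩ := Module.Baer.of_injective (inferInstance : Module.Injective A (J.X b)) I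
      ((J.iCycles b).hom.comp φ)
    let χ : ModuleCat.of A (A ⧸ I) ⟶ J.X (b + 1) := ModuleCat.ofHom (Submodule.liftQ I ((J.d b (b + 1)).hom.comp ψ)
      fun x hx => by
        change (J.d b (b + 1)).hom (ψ x) = 0
        rw [hψ x hx]
        change (J.iCycles b ≫ J.d b (b + 1)).hom (φ ⟨x, hx⟩) = 0
        rw [J.iCycles_d]
        rfl)
    have hχ : χ ≫ J.d (b + 1) (b + 1 + 1) = 0 := by
      refine ModuleCat.hom_ext (LinearMap.ext fun x => ?_)
      obtain ⟨y, rfl⟩ := Submodule.Quotient.mk_surjective _ x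
      change (J.d b (b + 1) ≫ J.d (b + 1) (b + 1 + 1)).hom (ψ y) = 0
      rw [J.d_comp_d]
      rfl
    let f : (single (ModuleCat.{u} A) (ComplexShape.up ℤ) (b + 1)).obj (ModuleCat.of A (A ⧸ I)) ⟶ J :=
      mkHomFromSingle χ fun k hk => by
        obtain rfl : b + 1 + 1 = k := hk
        exact hχ
    haveI := h I (b + 1) (Or.inr (by omega))
    haveI : Subsingleton (sg (ModuleCat.of A (A ⧸ I)) (b + 1) ⟶ DerivedCategory.Q.obj J) :=
      ((Iso.refl _).homCongr eJ).subsingleton_congr.2 ((sgHomEquiv _ K (b + 1)).subsingleton_congr.2 inferInstance)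
    have hQ : DerivedCategory.Q.map f = 0 := by
      let s₀ : sg (ModuleCat.of A (A ⧸ I)) (b + 1) ≅ DerivedCategory.Q.obj _ :=
        (DerivedCategory.singleFunctorIsoCompQ (ModuleCat.{u} A) (b + 1)).app (ModuleCat.of A (A ⧸ I))
      refine (cancel_epi s₀.hom).1 ?_
      exact Subsingleton.elim (α := sg (ModuleCat.of A (A ⧸ I)) (b + 1) ⟶ DerivedCategory.Q.obj J) _ _
    have H : Homotopy f 0 := HomotopyCategory.homotopyOfEq _ _
      ((DerLib.KInjUse.quotient_eq_zero_of_Q hQ).trans (Functor.map_zero _ _ _).symm)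
    let s := singleObjXSelf (ComplexShape.up ℤ) (b + 1) (ModuleCat.of A (A ⧸ I))
    let w : ModuleCat.of A (A ⧸ I) ⟶ J.X b := s.inv ≫ H.hom (b + 1) b
    have hw : w ≫ J.d b (b + 1) = χ := by
      have hc := H.comm (b + 1)
      rw [dNext_eq _ (show (ComplexShape.up ℤ).Rel (b + 1) (b + 1 + 1) from rfl),
        prevD_eq _ (show (ComplexShape.up ℤ).Rel b (b + 1) from rfl), single_obj_d, zero_comp,
        HomologicalComplex.zero_f, add_zero, zero_add, mkHomFromSingle_f, ← Iso.eq_inv_comp] at hc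
      rw [Category.assoc]
      exact hc.symm
    let ψ' : A →ₗ[A] J.X b := ψ - w.hom.comp (Submodule.mkQ I)
    have hψ' : ModuleCat.ofHom ψ' ≫ J.d b (b + 1) = 0 := by
      refine ModuleCat.hom_ext (LinearMap.ext fun y => ?_)
      change (J.d b (b + 1)).hom (ψ y - w.hom (Submodule.Quotient.mk y)) = 0
      rw [map_sub, sub_eq_zero]
      exact (congr($(hw).hom (Submodule.Quotient.mk y))).symm
    refine ⟨(J.liftCycles (ModuleCat.ofHom ψ') (b + 1) (by simp) hψ').hom, fun x hx => ?_⟩
    apply (ModuleCat.mono_iff_injective (J.iCycles b)).1 inferInstance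
    change (J.liftCycles (ModuleCat.ofHom ψ') (b + 1) (by simp) hψ' ≫ J.iCycles b).hom x = _
    rw [J.liftCycles_i]
    change ψ x - w.hom (Submodule.Quotient.mk x) = _
    rw [(Submodule.Quotient.mk_eq_zero I).2 hx, map_zero, sub_zero, hψ x hx]
    rfl
  have hX : ∀ i, i < b → Nonempty ((J.truncLE b).X i ≅ J.X i) := fun i hi => ⟨J.truncLEXIso b i hi⟩
  let e0 : (J.truncLE b).X b ≅ J.cycles b := J.truncLEXIsoCycles b
  refine ⟨J.truncLE b, fun i hi => ?_, fun i => ?_,
    ⟨asIso (DerivedCategory.Q.map (J.ιTruncLE b)) ≪≫ eJ⟩⟩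
  · rcases hi with hi | hi
    · by_cases hib : i < b
      · exact (J.isZero_of_isStrictlyGE a i hi).of_iso (hX i hib).some
      · rcases eq_or_lt_of_le (not_lt.1 hib) with rfl | h'
        · exact (IsZero.of_mono (J.iCycles b) (J.isZero_of_isStrictlyGE a b hi)).of_iso e0
        · exact (J.truncLE b).isZero_of_isStrictlyLE b i h'
    · exact (J.truncLE b).isZero_of_isStrictlyLE b i hi
  · rcases lt_trichotomy i b with hib | rfl | hib
    · haveI : Module.Injective A (J.X i) := Module.injective_module_of_injective_object A (J.X i)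
      exact Module.Injective.of_ringEquiv (RingEquiv.refl A) (hX i hib).some.toLinearEquiv.symm
    · exact Module.Injective.of_ringEquiv (RingEquiv.refl A) e0.toLinearEquiv.symm
    · haveI := ModuleCat.subsingleton_of_isZero ((J.truncLE b).isZero_of_isStrictlyLE b i hib)
      exact ⟨fun X Y _ _ _ _ f hf g => ⟨0, fun x => Subsingleton.elim _ _⟩⟩

/-- Injective amplitude gives the vanishing of `Ext`. -/
theorem ext_of_hasInjAmplitudeIn {K : Dual.D A} {a b : ℤ} (h : DRing.HasInjAmplitudeIn A a b K)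
    (N : Type u) [AddCommGroup N] [Module A N] (i : ℤ) (hi : i < a ∨ b < i) :
    Subsingleton (Dual.inD A N ⟶ K⟦i⟧) := by
  refine (sgHomEquiv (ModuleCat.of A N) K i).subsingleton_congr.1 (subsingleton_of_forall_eq 0 fun f => ?_)
  rcases hi with hi | hi
  · obtain ⟨E, hE, -, ⟨e⟩⟩ := id h
    haveI : K.IsGE a := (DerivedCategory.isGE_iff K a).2 fun j hj => by
      refine IsZero.of_iso ?_ ((hH A j).mapIso e.symm ≪≫
        (DerivedCategory.homologyFunctorFactors (ModuleCat.{u} A) j).app E)
      exact (exactAt_iff_isZero_homology E j).1 (ShortComplex.exact_of_isZero_X₂ _ (hE j (Or.inl hj)))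
    exact DerivedCategory.TStructure.t.zero f i a (by omega)
  · exact DTenLib.hom_eq_zero_of_injAmplitude h (g := i) inferInstance hi f

theorem hasFiniteInjDim_of_ext {K : Dual.D A}
    (h : ∃ a b : ℤ, ∀ (M : Type u) [AddCommGroup M] [Module A M] (i : ℤ),
      (i < a ∨ b < i) → Subsingleton (Dual.inD A M ⟶ K⟦i⟧)) : DRing.HasFiniteInjDim A K := by
  obtain ⟨a, b, hab⟩ := h
  exact ⟨a, b, hasInjAmplitudeIn_of_ext fun I i hi => hab (A ⧸ I) i hi⟩

end Groth.Agent.DualCxLib
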