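import Groth.Agent.DualCxLib.LocDuality
import Groth.Agent.InjHullLib.DoubleDual
import Groth.Prelude.Def_DualLC

/-!
# Consequences of local duality
-/

set_option autoImplicit false
set_option linter.style.haveILetI false
set_option linter.unusedSectionVars false

universe u

open CategoryTheory CategoryTheory.Limits
open Groth.Agent
open DTenLib.Point (hH sg)

attribute [local instance] HasDerivedCategory.standard

noncomputable section

namespace Groth.Agent.DualCxLib

variable {A : Type u} [CommRing A]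

theorem exists_small_model (V : Type (u + 1)) [AddCommGroup V] [Module A V] [Module.Finite A V] :
    ∃ (W : Type u) (_ : AddCommGroup W) (_ : Module A W) (_ : Module.Finite A W), Nonempty (W ≃ₗ[A] V) := by
  obtain ⟨n, π, hπ⟩ := Module.Finite.exists_fin' A V
  exact ⟨(Fin n → A) ⧸ LinearMap.ker π, inferInstance, inferInstance, inferInstance,
    ⟨LinearMap.quotKerEquivOfSurjective π hπ⟩⟩

section Colim

theorem preservesNat : PreservesColimitsOfShape ℕᵒᵖᵒᵖ (forget (ModuleCat.{u + 1} A)) := by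
  haveI := preservesFilteredColimitsOfSize_shrink.{0, u + 1, 0, u + 1} (forget AddCommGrpCat.{u + 1})
  haveI : PreservesColimitsOfShape ℕᵒᵖᵒᵖ
      (forget₂ (ModuleCat.{u + 1} A) AddCommGrpCat.{u + 1} ⋙ forget AddCommGrpCat.{u + 1}) := inferInstance
  exact preservesColimitsOfShape_of_natIso
    (Iso.refl (forget₂ (ModuleCat.{u + 1} A) AddCommGrpCat.{u + 1} ⋙ forget AddCommGrpCat.{u + 1}) :
      _ ≅ forget (ModuleCat.{u + 1} A))

/-- A cocone with injective legs which is jointly surjective is a colimit. -/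
theorem nonempty_colimit_equiv (F : ℕᵒᵖᵒᵖ ⥤ ModuleCat.{u + 1} A) (c : Cocone F)
    (hinj : ∀ n, Function.Injective (c.ι.app n).hom) (hsurj : ∀ x : c.pt, ∃ n g, (c.ι.app n).hom g = x) :
    Nonempty ((colimit F : ModuleCat.{u + 1} A) ≃ₗ[A] c.pt) := by
  haveI := preservesNat (A := A)
  haveI : IsIso (colimit.desc F c) := by
    rw [ConcreteCategory.isIso_iff_bijective]
    refine ⟨(injective_iff_map_eq_zero (colimit.desc F c).hom).2 fun z hz => ?_, fun x => ?_⟩
    · obtain ⟨n, g, rfl⟩ := Concrete.colimit_exists_rep F z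
      have h1 : (c.ι.app n).hom g = 0 := (ConcreteCategory.congr_hom (colimit.ι_desc c n) g).symm.trans hz
      rw [hinj n (h1.trans (map_zero _).symm)]
      exact map_zero _
    · obtain ⟨n, g, rfl⟩ := hsurj x
      exact ⟨colimit.ι F n g, ConcreteCategory.congr_hom (colimit.ι_desc c n) g⟩
  exact ⟨(asIso (colimit.desc F c)).toLinearEquiv⟩

theorem subsingleton_colimit (F : ℕᵒᵖᵒᵖ ⥤ ModuleCat.{u + 1} A) (h : ∀ n, Subsingleton (F.obj n)) :
    Subsingleton (colimit F : ModuleCat.{u + 1} A) := by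
  haveI := preservesNat (A := A)
  refine subsingleton_of_forall_eq 0 fun z => ?_
  obtain ⟨n, g, rfl⟩ := Concrete.colimit_exists_rep F z
  haveI := h n
  rw [Subsingleton.elim g 0]
  exact map_zero _

end Colim

variable [IsLocalRing A] [IsNoetherianRing A] {ω : Dual.D A} (hω : Dual.IsDualizing A ω)
  (hn : Dual.IsNormalized A ω) {E : Type u} [AddCommGroup E] [Module A E]
  {f : IsLocalRing.ResidueField A →ₗ[A] E} (hf : InjHull.IsInjectiveHull f)
include hω hn hf

theorem exists_model_duality (M : Type u) [AddCommGroup M] [Module A M] [Module.Finite A M] (i : ℕ) :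
    ∃ (W : Type u) (_ : AddCommGroup W) (_ : Module A W) (_ : Module.Finite A W),
      Nonempty (W ≃ₗ[A] Ext ω (ModuleCat.of A M) (-(i : ℤ))) ∧
      Nonempty (LocCoh.H (IsLocalRing.maximalIdeal A) i M ≃ₗ[A] (W →ₗ[A] E)) := by
  haveI : IsNoetherian A (Ext ω (ModuleCat.of A M) (-(i : ℤ))) := Ext_finite hω M _
  obtain ⟨W, _, _, _, ⟨e⟩⟩ := exists_small_model (A := A) (Ext ω (ModuleCat.of A M) (-(i : ℤ)))
  obtain ⟨d⟩ := nonempty_localDuality hω hn hf M i
  exact ⟨W, inferInstance, inferInstance, inferInstance, ⟨e⟩, ⟨d.trans (e.symm.arrowCongr (LinearEquiv.refl A E))⟩⟩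

theorem nonempty_duality_complete [IsAdicComplete (IsLocalRing.maximalIdeal A) A] (M : Type u) [AddCommGroup M]
    [Module A M] [Module.Finite A M] (i : ℕ) :
    Nonempty ((Dual.inD A M ⟶ ω⟦(-(i : ℤ))⟧) ≃ₗ[A] (LocCoh.H (IsLocalRing.maximalIdeal A) i M →ₗ[A] E)) := by
  obtain ⟨W, _, _, _, ⟨e⟩, ⟨d⟩⟩ := exists_model_duality hω hn hf M i
  exact ⟨e.symm.trans ((LinearEquiv.ofBijective _ (InjHullLib.applyₗ_bijective_of_finite hf W)).trans
    (d.symm.arrowCongr (LinearEquiv.refl A E)))⟩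

theorem nonempty_completion_duality (M : Type u) [AddCommGroup M] [Module A M] [Module.Finite A M] (i : ℕ) :
    Nonempty (AdicCompletion (IsLocalRing.maximalIdeal A) (Dual.inD A M ⟶ ω⟦(-(i : ℤ))⟧) ≃ₗ[A]
      (LocCoh.H (IsLocalRing.maximalIdeal A) i M →ₗ[A] E)) := by
  obtain ⟨W, _, _, _, ⟨e⟩, ⟨d⟩⟩ := exists_model_duality hω hn hf M i
  obtain ⟨c⟩ := InjHullLib.nonempty_completion_doubleDual hf W
  exact ⟨(((AdicCompletion.congr (IsLocalRing.maximalIdeal A) e).symm).restrictScalars A).trans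
    (c.trans (d.symm.arrowCongr (LinearEquiv.refl A E)))⟩

theorem annihilator_eq (M : Type u) [AddCommGroup M] [Module A M] [Module.Finite A M] (i : ℕ) :
    Module.annihilator A (Dual.inD A M ⟶ ω⟦(-(i : ℤ))⟧) =
      Module.annihilator A (LocCoh.H (IsLocalRing.maximalIdeal A) i M) := by
  obtain ⟨W, _, _, _, ⟨e⟩, ⟨d⟩⟩ := exists_model_duality hω hn hf M i
  exact e.annihilator_eq.symm.trans ((InjHullLib.annihilator_dual hf).trans d.annihilator_eq.symm)

omit hω hn hf

/-- Local cohomology of the dualizing complex. -/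
theorem localCohomology_normalized (hω : Dual.IsDualizing A ω) (hn : Dual.IsNormalized A ω)
    (hf : InjHull.IsInjectiveHull f) :
    Nonempty (Dual2.HDI A (IsLocalRing.maximalIdeal A) ω 0 ≃ₗ[A] E) ∧
      ∀ i : ℤ, i ≠ 0 → Subsingleton (Dual2.HDI A (IsLocalRing.maximalIdeal A) ω i) := by
  refine ⟨?_, fun i hi => subsingleton_colimit _ fun n =>
    subsingleton_ext_finLen hn _ (InjHullLib.isFiniteLength_quotient_pow n.unop.unop) i hi⟩
  obtain ⟨T⟩ := nonempty_traces hω hn hf
  let F : ℕᵒᵖᵒᵖ ⥤ ModuleCat.{u + 1} A :=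
    (localCohomology.ringModIdeals (localCohomology.idealPowersDiagram (IsLocalRing.maximalIdeal A)) ⋙
      DerivedCategory.singleFunctor (ModuleCat.{u} A) 0).op ⋙ (linearYoneda A (Dual.D A)).obj (ω⟦(0 : ℤ)⟧)
  let leg : ∀ n : ℕᵒᵖᵒᵖ, Ext ω (qPow A n.unop.unop) 0 →ₗ[A] ULift.{u + 1} E := fun n =>
    (ULift.moduleEquiv.symm.toLinearMap).comp (T.ι n.unop.unop)
  obtain ⟨e⟩ := nonempty_colimit_equiv F
    { pt := ModuleCat.of A (ULift.{u + 1} E)
      ι :=
        { app := fun n => ModuleCat.ofHom (leg n)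
          naturality := fun n k a => ModuleCat.hom_ext (LinearMap.ext fun g =>
            ULift.ext _ _ (T.compat (leOfHom a.unop.unop) g)) } }
    (fun n g g' h => T.injective _ (congrArg ULift.down h))
    (fun x => (T.surj x.down).elim fun n ⟨g, hg⟩ => ⟨Opposite.op (Opposite.op n), g, ULift.ext _ _ hg⟩)
  exact ⟨e.trans ULift.moduleEquiv⟩

end Groth.Agent.DualCxLib
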