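import Groth.Agent.DualCxLib.DimFn
import Mathlib.RingTheory.KrullDimension.Module
import Mathlib.RingTheory.LocalRing.ResidueField.Basic

/-!
# The dimension function over a local ring; consequences
-/

set_option autoImplicit false
set_option linter.style.haveILetI false
set_option linter.unusedSectionVars false

universe u

open CategoryTheory CategoryTheory.Limits
open Groth.Agent
open DTenLib.Point (hH sg kM)

attribute [local instance] HasDerivedCategory.standard

noncomputable section

namespace Groth.Agent.DualCxLib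

variable {A : Type u} [CommRing A]

theorem evGen_surjective (X : Dual.D A) (i : ℤ) : Function.Surjective (evGen X i) :=
  fun x => DTenLib.Point.exists_evA_eq i x

/-- `Ext^i(A, ω) = H^i(ω)`. -/
def extHL (ω : Dual.D A) (i : ℤ) : Ext ω (ModuleCat.of A A) i ≃ₗ[A] (hH A i).obj ω :=
  (extRingL ω i).trans (LinearEquiv.ofBijective (evGen ω i) ⟨evGen_injective ω i, evGen_surjective ω i⟩)

theorem nontrivial_localized_iff {p : Ideal A} [p.IsPrime] {N : Type u} [AddCommGroup N] [Module A N]
    {V : Type (u + 1)} [AddCommGroup V] [Module A V] (e : V ≃ₗ[A] N) :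
    Nontrivial (LocalizedModule p.primeCompl N) ↔ ¬ Van p V := by
  rw [← not_subsingleton_iff_nontrivial, not_iff_not, LocalizedModule.subsingleton_iff]
  refine ⟨fun h v => ?_, fun h x => ?_⟩
  · obtain ⟨s, hs, hx⟩ := h (e v)
    exact ⟨s, hs, e.injective (by rw [map_smul, hx, map_zero])⟩
  · obtain ⟨s, hs, hx⟩ := h (e.symm x)
    exact ⟨s, hs, e.symm.injective (by rw [map_smul, hx, map_zero])⟩

theorem mem_support_iff_not_van {p : PrimeSpectrum A} {V : Type (u + 1)} [AddCommGroup V] [Module A V] :
    p ∈ Module.support A V ↔ ¬ Van p.asIdeal V :=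
  Iff.trans (not_iff_not.1 (Module.notMem_support_iff'.trans
    (show (∀ m : V, ∃ r ∉ p.asIdeal, r • m = 0) ↔ ¬ ¬ Van p.asIdeal V from not_not.symm))) Iff.rfl

theorem subsingleton_of_van_closedPt [IsLocalRing A] {V : Type (u + 1)} [AddCommGroup V] [Module A V]
    (h : Van (IsLocalRing.closedPoint A).asIdeal V) : Subsingleton V :=
  subsingleton_of_forall_eq 0 fun x => by
    obtain ⟨s, hs, hx⟩ := h x
    exact (IsUnit.smul_eq_zero (IsLocalRing.notMem_maximalIdeal.1 hs)).1 hx

variable [IsNoetherianRing A] {ω : Dual.D A}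

/-- At a minimal prime the complex has one nonzero degree. -/
theorem nontrivial_HD_minimal_iff (hω : Dual.IsDualizing A ω) (p : PrimeSpectrum A)
    (hp : p.asIdeal ∈ minimalPrimes A) (i : ℤ) :
    Nontrivial (LocalizedModule p.asIdeal.primeCompl (Dual.HD A ω i)) ↔ i = deg hω p := by
  rw [nontrivial_localized_iff (extHL ω i)]
  refine not_van_iff_of_minimal hω p (Module.mem_support_iff_of_finite.2 ?_) (fun q _ hqp => ?_) i
  · intro a ha
    have h1 : a • (1 : A) = 0 := Module.mem_annihilator.1 ha 1
    rw [smul_eq_mul, mul_one] at h1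
    rw [h1]
    exact p.asIdeal.zero_mem
  · exact PrimeSpectrum.ext (le_antisymm hqp (hp.2 ⟨q.isPrime, bot_le⟩ hqp))

/-- The dimension function. -/
theorem exists_dimensionFunction (hω : Dual.IsDualizing A ω) :
    ∃ δ : PrimeSpectrum A → ℤ, (∀ (p : PrimeSpectrum A) (i : ℤ),
      Nontrivial (LocalizedModule p.asIdeal.primeCompl (Dual.inD A (A ⧸ p.asIdeal) ⟶ ω⟦i⟧)) ↔ i = -δ p) ∧
        ∀ p q : PrimeSpectrum A, p ⋖ q → δ p = δ q + 1 := by
  refine ⟨fun p => -deg hω p, fun p i => ?_, fun p q h => by show -deg hω p = -deg hω q + 1; rw [deg_covBy hω h]; ring⟩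
  rw [← not_subsingleton_iff_nontrivial, van_iff_subsingleton, neg_neg]
  refine ⟨fun h => by_contra fun hne => h ((isDeg_deg hω p).1 i hne), ?_⟩
  rintro rfl
  exact (isDeg_deg hω p).2

theorem exists_series (hω : Dual.IsDualizing A ω) (p : PrimeSpectrum A) :
    ∃ (l : LTSeries (PrimeSpectrum A)) (m : PrimeSpectrum A), l.head = p ∧ m.asIdeal.IsMaximal ∧
      deg hω p + l.length = deg hω m := by
  haveI := wellFoundedGT_primeSpectrum (A := A)
  refine WellFoundedGT.induction (motive := fun p => ∃ (l : LTSeries (PrimeSpectrum A)) (m : PrimeSpectrum A),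
    l.head = p ∧ m.asIdeal.IsMaximal ∧ deg hω p + l.length = deg hω m) p fun p ih => ?_
  by_cases hmax : p.asIdeal.IsMaximal
  · exact ⟨RelSeries.singleton _ p, p, rfl, hmax, by simp⟩
  · obtain ⟨m, hm, hpm⟩ := Ideal.exists_le_maximal p.asIdeal p.isPrime.ne_top
    obtain ⟨x, r, hxp, hr, hpr, -⟩ := exists_cover_below p ⟨m, hm.isPrime⟩
      (lt_of_le_of_ne hpm fun h => hmax (by rw [h]; exact hm))
    obtain ⟨l, m', hl, hm', hlen⟩ := ih r hpr
    refine ⟨l.cons p (by rw [hl]; exact hpr), m', RelSeries.head_cons _ _ _, hm', ?_⟩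
    have h1 := IsDeg.eq_deg hω (isDeg_of_minimal_over hω hxp hr (isDeg_deg hω r))
    simp only [RelSeries.cons_length, Nat.cast_add, Nat.cast_one]
    omega

theorem length_le_deg_sub (hω : Dual.IsDualizing A ω) (l : LTSeries (PrimeSpectrum A)) :
    deg hω l.head + l.length ≤ deg hω l.last := by
  have hinc : ∀ i : Fin (l.length + 1), deg hω l.head + i.1 ≤ deg hω (l.toFun i) := fun i => by
    induction i using Fin.induction with
    | zero => simp [RelSeries.head]
    | succ i ih =>
      have h := deg_strictMono hω (l.strictMono (Fin.castSucc_lt_succ (i := i)))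
      simp only [Fin.val_succ, Fin.val_castSucc] at ih ⊢
      omega
  simpa [RelSeries.last] using hinc (Fin.last _)

variable [IsLocalRing A]

/-- The closed point. -/
abbrev closedPt (A : Type u) [CommRing A] [IsLocalRing A] : PrimeSpectrum A := IsLocalRing.closedPoint A

theorem le_closedPt (p : PrimeSpectrum A) : p ≤ closedPt A :=
  IsLocalRing.le_maximalIdeal p.isPrime.ne_top

theorem deg_closedPt_of_normalized (hω : Dual.IsDualizing A ω) (hn : Dual.IsNormalized A ω) :
    deg hω (closedPt A) = 0 := by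
  by_contra hne
  exact (isDeg_deg hω (closedPt A)).2
    (@van_of_subsingleton A _ (closedPt A).asIdeal _ _ _ _ (hn _ hne))

/-- `dim A/p` measures the degree. -/
theorem ringKrullDim_quotient_eq (hω : Dual.IsDualizing A ω) (p : PrimeSpectrum A) :
    ringKrullDim (A ⧸ p.asIdeal) = (((deg hω (closedPt A) - deg hω p).toNat : ℕ∞) : WithBot ℕ∞) := by
  rw [ringKrullDim_quotient]
  let S := PrimeSpectrum.zeroLocus (p.asIdeal : Set A)
  refine le_antisymm (iSup_le fun l => WithBot.coe_le_coe.2 (ENat.natCast_le_natCast.2 ?_)) ?_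
  · let l' := l.map Subtype.val (fun _ _ h => h)
    have h1 := length_le_deg_sub hω l'
    have h2 : deg hω p ≤ deg hω l'.head := (deg_strictMono hω).monotone (show p ≤ l'.head from l.head.2)
    have h3 : deg hω l'.last ≤ deg hω (closedPt A) := (deg_strictMono hω).monotone (le_closedPt _)
    change l'.length ≤ _
    omega
  · obtain ⟨l, m, hl, hm, hlen⟩ := exists_series hω p
    have hmc : m = closedPt A := PrimeSpectrum.ext (IsLocalRing.eq_maximalIdeal hm)
    let l' : LTSeries S := ⟨l.length, fun i => ⟨l.toFun i, by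
      have := LTSeries.head_le l i
      rw [hl] at this
      exact this⟩, fun i => l.step i⟩
    refine le_trans ?_ (Order.LTSeries.length_le_krullDim l')
    refine WithBot.coe_le_coe.2 (ENat.natCast_le_natCast.2 ?_)
    change _ ≤ l.length
    rw [← hmc]
    omega

theorem deg_eq_neg_dim (hω : Dual.IsDualizing A ω) (hn : Dual.IsNormalized A ω) (p : PrimeSpectrum A)
    (e : ℕ) (he : ringKrullDim (A ⧸ p.asIdeal) = e) : deg hω p = -(e : ℤ) := by
  have h := ringKrullDim_quotient_eq hω p
  rw [he, deg_closedPt_of_normalized hω hn] at h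
  have h' : e = (0 - deg hω p).toNat := ENat.natCast_inj.1 (WithBot.coe_inj.1 h)
  have := (deg_strictMono hω).monotone (le_closedPt p)
  rw [deg_closedPt_of_normalized hω hn] at this
  omega

theorem subsingleton_ext_of_pos (hω : Dual.IsDualizing A ω) (hn : Dual.IsNormalized A ω)
    (M : Type u) [AddCommGroup M] [Module A M] [Module.Finite A M] (i : ℤ) (hi : 0 < i) :
    Subsingleton (Ext ω (ModuleCat.of A M) i) :=
  subsingleton_of_van_closedPt (van_of_gt hω (closedPt A) i (by rw [deg_closedPt_of_normalized hω hn]; exact hi))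

theorem subsingleton_ext_of_lt (hω : Dual.IsDualizing A ω) (hn : Dual.IsNormalized A ω)
    (M : Type u) [AddCommGroup M] [Module A M] [Module.Finite A M] (d : ℕ)
    (hd : Module.supportDim A M ≤ d) (i : ℤ) (hi : i < -(d : ℤ)) :
    Subsingleton (Ext ω (ModuleCat.of A M) i) := by
  refine subsingleton_of_van_closedPt (van_of_lt hω (closedPt A) i fun q hq _ => ?_)
  obtain ⟨l, m, hl, hm, hlen⟩ := exists_series hω q
  rw [show m = closedPt A from PrimeSpectrum.ext (IsLocalRing.eq_maximalIdeal hm),
    deg_closedPt_of_normalized hω hn] at hlen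
  let l' : LTSeries (Module.support A M) := ⟨l.length, fun i => ⟨l.toFun i, by
    have := LTSeries.head_le l i
    rw [hl] at this
    exact Module.mem_support_mono this hq⟩, fun i => l.step i⟩
  have h1 := le_trans (Order.LTSeries.length_le_krullDim l') hd
  have h2 : l.length ≤ d := ENat.natCast_le_natCast.1 (WithBot.coe_le_coe.1 h1)
  omega

/-- The support of `Ext^i` has dimension at most `-i`. -/
theorem supportDim_ext_le (hω : Dual.IsDualizing A ω) (hn : Dual.IsNormalized A ω)
    (M : Type u) [AddCommGroup M] [Module A M] [Module.Finite A M] (i : ℤ) :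
    Module.supportDim A (Ext ω (ModuleCat.of A M) i) ≤ ((-i).toNat : WithBot ℕ∞) := by
  refine iSup_le fun l => WithBot.coe_le_coe.2 (ENat.natCast_le_natCast.2 ?_)
  have h1 := length_le_deg_sub hω (l.map Subtype.val (fun _ _ h => h))
  have h2 : i ≤ deg hω (l.map Subtype.val (fun _ _ h => h)).head := by
    by_contra hlt
    exact (mem_support_iff_not_van.1 l.head.2) (van_of_gt hω _ i (not_le.1 hlt))
  have h3 := (deg_strictMono hω).monotone (le_closedPt (l.map Subtype.val (fun _ _ h => h)).last)
  rw [deg_closedPt_of_normalized hω hn] at h3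
  change (l.map Subtype.val (fun _ _ h => h)).length ≤ _
  omega

/-- Objects in nonnegative degrees have no positive `Ext` into a normalized complex. -/
theorem subsingleton_hom_of_nonneg (hω : Dual.IsDualizing A ω) (hn : Dual.IsNormalized A ω)
    (N : Dual.D A) (hfin : ∀ i : ℤ, Module.Finite A (Dual.HD A N i))
    (b : ℤ) (hb : ∀ i : ℤ, b < i → Subsingleton (Dual.HD A N i))
    (hge : ∀ i : ℤ, i < 0 → Subsingleton (Dual.HD A N i))
    (i : ℤ) (hi : 0 < i) : Subsingleton (N ⟶ ω⟦i⟧) := by
  let P : Dual.D A → Prop := fun X => ∀ j : ℤ, 0 < j → Subsingleton (X ⟶ ω⟦j⟧)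
  have hd : DRingLib.Devissable P :=
    { iso := fun {X Y : Dual.D A} (e : X ≅ Y) (h : P X) (j : ℤ) (hj : 0 < j) =>
        (precompL e (ω⟦j⟧)).toEquiv.subsingleton_congr.1 (h j hj)
      zero := fun {X : Dual.D A} (h : IsZero X) (j : ℤ) _ => ⟨fun f g => h.eq_of_src f g⟩
      ext := fun T hT (h1 : P T.obj₁) (h3 : P T.obj₃) (j : ℤ) hj => by
        haveI := h1 j hj
        haveI := h3 j hj
        refine subsingleton_of_forall_eq 0 fun f => ?_
        obtain ⟨g, rfl⟩ := Pretriangulated.Triangle.yoneda_exact₂ _ hT f (Subsingleton.elim _ _)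
        rw [Subsingleton.elim g 0, comp_zero] }
  refine DRingLib.Devissable.of_homology hd 0 (b + 1).toNat N (fun j hj => ?_) (fun j l hl => ?_) i hi
  · haveI : Subsingleton (Dual.HD A N j) := hj.elim (hge j) fun h => hb j (by omega)
    exact ModuleCat.isZero_of_subsingleton _
  · haveI := hfin j
    let s : (sg ((hH A j).obj N) 0)⟦-j⟧ ≅ sg ((hH A j).obj N) j :=
      DTenLib.Point.shiftSg _ 0 (-j) ≪≫ eqToIso (by simp)
    refine (((precompL s.symm (ω⟦l⟧)).trans (shiftL _ (ω⟦l⟧) j)).trans
      (postcompL _ (shift₂ ω l j (l + j) rfl))).toEquiv.subsingleton_congr.2 ?_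
    rcases lt_or_ge j 0 with hj | hj
    · haveI := hge j hj
      exact ⟨fun f g => ((DerivedCategory.singleFunctor (ModuleCat.{u} A) 0).map_isZero
        (ModuleCat.isZero_of_subsingleton ((hH A j).obj N))).eq_of_src f g⟩
    · exact subsingleton_ext_of_pos hω hn _ (l + j) (by omega)

end Groth.Agent.DualCxLib
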