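import Groth.Agent.DualCxLib.TopExt
import Groth.Agent.CatLib.Completion

/-!
# Duality over complete local rings
-/

set_option autoImplicit false
set_option linter.style.haveILetI false

universe u

open CategoryTheory IsLocalRing
open Groth.Agent

attribute [local instance] HasDerivedCategory.standard

noncomputable section

namespace Groth.Agent.DualCxLib

theorem exists_regular_surjective (R : Type u) [CommRing R] [IsLocalRing R] [IsNoetherianRing R]
    [IsAdicComplete (maximalIdeal R) R] :
    ∃ (C : Type u) (_ : CommRing C) (_ : IsRegularLocalRing C) (f : C →+* R), Function.Surjective f := by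
  obtain ⟨Λ, _, _, n, f, hΛ, _, hf⟩ := CohenLib.exists_surjective_psHom R (IsNoetherian.noetherian _)
  haveI : IsRegularLocalRing Λ := by
    rcases hΛ with ⟨hF, -⟩ | ⟨⟨_, _, -⟩, -⟩
    · letI := hF.toField
      infer_instance
    · infer_instance
  haveI : IsRegularRing Λ := CommAlgDim.isRegularRing_of_isRegularLocalRing Λ
  haveI := CommAlgDim.isRegularRing_mvPowerSeries Λ n
  haveI : IsNoetherianRing (MvPowerSeries (Fin n) Λ) := CohenLib.isNoetherianRing_mvPowerSeries (Λ := Λ) (n := n)
  haveI : IsRegularLocalRing (MvPowerSeries (Fin n) Λ) := IsRegularLocalRing.of_isRegularRing_of_isLocalRing _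
  exact ⟨_, inferInstance, inferInstance, f, hf⟩

/-- The Matlis dual of local cohomology over a complete local ring. -/
theorem matlisDual_facts (A : Type u) [CommRing A] [IsLocalRing A] [IsNoetherianRing A]
    [IsAdicComplete (maximalIdeal A) A] (E : Type u) [AddCommGroup E] [Module A E]
    (f : ResidueField A →ₗ[A] E) (hf : InjHull.IsInjectiveHull f) (M : Type u) [AddCommGroup M] [Module A M]
    [Module.Finite A M] (n : ℕ) (hn : Module.supportDim A M = n) :
    (∀ i : ℕ, Module.Finite A (LocCoh.H (maximalIdeal A) i M →ₗ[A] E) ∧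
        Module.supportDim A (LocCoh.H (maximalIdeal A) i M →ₗ[A] E) ≤ (i : WithBot ℕ∞)) ∧
      Module.supportDim A (LocCoh.H (maximalIdeal A) n M →ₗ[A] E) = n ∧
      associatedPrimes A (LocCoh.H (maximalIdeal A) n M →ₗ[A] E) =
        {p | p ∈ associatedPrimes A M ∧ ringKrullDim (A ⧸ p) = n} := by
  obtain ⟨C, _, _, g, hg⟩ := exists_regular_surjective A
  haveI := gorenstein_of_regular C
  letI : Algebra C A := g.toAlgebra
  letI : Module C M := Module.compHom M g
  haveI : IsScalarTower C A M := IsScalarTower.of_algebraMap_smul fun _ _ => rfl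
  haveI : Module.Finite C A := Module.Finite.of_surjective (Algebra.linearMap C A) hg
  haveI : Module.Finite C M := Module.Finite.trans A M
  obtain ⟨ω, hω, hnorm⟩ := exists_normalized_of_gorenstein (S := C)
  have key : ∀ i : ℕ, ∃ (W : Type u) (_ : AddCommGroup W) (_ : Module A W) (_ : Module C W) (_ : IsScalarTower C A W)
      (_ : Module.Finite A W) (_ : Module.Finite C W), Nonempty (W ≃ₗ[C] Ext ω (ModuleCat.of C M) (-(i : ℤ))) ∧
      Nonempty (W ≃ₗ[A] (LocCoh.H (maximalIdeal A) i M →ₗ[A] E)) := fun i => by
    obtain ⟨W, _, _, _, _, _, hW, ⟨d⟩⟩ := exists_dual_model (S := C) (R := A) hg hω hnorm hf M i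
    exact ⟨W, inferInstance, inferInstance, inferInstance, inferInstance, inferInstance, Module.Finite.trans A W, hW,
      ⟨(LinearEquiv.ofBijective _ (InjHullLib.applyₗ_bijective_of_finite hf W)).trans
        (d.arrowCongr (LinearEquiv.refl A E))⟩⟩
  refine ⟨fun i => ?_, ?_⟩
  · obtain ⟨W, _, _, _, _, _, _, ⟨e⟩, ⟨d⟩⟩ := key i
    refine ⟨Module.Finite.equiv d, ?_⟩
    rw [← Module.supportDim_eq_of_equiv d, ← supportDim_restrict (S := C) (R := A) hg]
    refine le_trans (le_of_eq ?_) ((supportDim_ext_le hω hnorm M (-(i : ℤ))).trans (le_of_eq (by norm_num)))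
    show Order.krullDim (Module.support C W) = Order.krullDim (Module.support C (Ext ω (ModuleCat.of C M) (-(i : ℤ))))
    rw [LinearEquiv.support_eq e]
  · obtain ⟨W, _, _, _, _, _, _, ⟨e⟩, ⟨d⟩⟩ := key n
    have hnC : Module.supportDim C M = n := (supportDim_restrict (S := C) (R := A) hg).trans hn
    refine ⟨?_, ?_⟩
    · rw [← Module.supportDim_eq_of_equiv d, ← supportDim_restrict (S := C) (R := A) hg]
      exact supportDim_top hω hnorm M hnC e
    · rw [← LinearEquiv.AssociatedPrimes.eq d]
      ext p
      have h := Set.ext_iff.1 (associatedPrimes_top hω hnorm M hnC.le e) (p.comap (algebraMap C A))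
      rw [mem_associatedPrimes_restrict (S := C) (R := A) hg, h]
      show _ ∧ _ ↔ _ ∧ _
      rw [mem_associatedPrimes_restrict (S := C) (R := A) hg (N := M), ringKrullDim_quotient_comap hg]

end Groth.Agent.DualCxLib
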