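import Groth.Agent.DualCxLib.Pure
import Groth.Agent.DualCxLib.QuotDual

/-!
# The top `Ext` into a normalized dualizing complex; change of rings along surjections
-/

set_option autoImplicit false
set_option linter.style.haveILetI false
set_option linter.unusedSectionVars false

universe u

open CategoryTheory CategoryTheory.Limits
open Groth.Agent
open DTenLib.Point (hH sg)
open IsLocalRing (closedPoint)

attribute [local instance] HasDerivedCategory.standard

noncomputable section

namespace Groth.Agent.DualCxLib

section Surj

variable {S R : Type u} [CommRing S] [CommRing R] [Algebra S R] (hs : Function.Surjective (algebraMap S R))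
  {N : Type u} [AddCommGroup N] [Module R N] [Module S N] [IsScalarTower S R N]

theorem annihilator_restrict : Module.annihilator S N = (Module.annihilator R N).comap (algebraMap S R) := by
  ext s
  simp only [Ideal.mem_comap, Module.mem_annihilator, algebraMap_smul]

include hs

theorem supportDim_restrict [Module.Finite R N] : Module.supportDim S N = Module.supportDim R N := by
  haveI : Module.Finite S R := Module.Finite.of_surjective (Algebra.linearMap S R) hs
  haveI : Module.Finite S N := Module.Finite.trans R N
  rw [Module.supportDim_eq_ringKrullDim_quotient_annihilator, Module.supportDim_eq_ringKrullDim_quotient_annihilator]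
  refine ringKrullDim_eq_of_ringEquiv ((Ideal.quotEquivOfEq ?_).trans (RingHom.quotientKerEquivOfSurjective
    (f := (Ideal.Quotient.mk (Module.annihilator R N)).comp (algebraMap S R))
    (Ideal.Quotient.mk_surjective.comp hs)))
  rw [← RingHom.comap_ker, Ideal.mk_ker, annihilator_restrict (R := R)]

theorem ringKrullDim_quotient_comap (p : Ideal R) :
    ringKrullDim (S ⧸ p.comap (algebraMap S R)) = ringKrullDim (R ⧸ p) :=
  ringKrullDim_eq_of_ringEquiv ((Ideal.quotEquivOfEq (by rw [← RingHom.comap_ker, Ideal.mk_ker])).trans
    (RingHom.quotientKerEquivOfSurjective (f := (Ideal.Quotient.mk p).comp (algebraMap S R))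
      (Ideal.Quotient.mk_surjective.comp hs)))

theorem mem_associatedPrimes_restrict [IsNoetherianRing S] [IsNoetherianRing R] (p : Ideal R) :
    p ∈ associatedPrimes R N ↔ p.comap (algebraMap S R) ∈ associatedPrimes S N := by
  constructor
  · intro h
    obtain ⟨hp, v, hv⟩ := isAssociatedPrime_iff.1 h
    refine isAssociatedPrime_iff.2 ⟨Ideal.IsPrime.comap _, v, ?_⟩
    ext s
    rw [Ideal.mem_comap, hv, Submodule.mem_colon_singleton, Submodule.mem_colon_singleton, Submodule.mem_bot,
      Submodule.mem_bot, algebraMap_smul]
  · intro h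
    obtain ⟨hp, v, hv⟩ := isAssociatedPrime_iff.1 h
    have hpp : p.IsPrime := by
      rw [← Ideal.map_comap_of_surjective _ hs p]
      exact Ideal.map_isPrime_of_surjective hs (fun s hs' => by
        rw [Ideal.mem_comap, RingHom.mem_ker.1 hs']; exact p.zero_mem)
    refine isAssociatedPrime_iff.2 ⟨hpp, v, ?_⟩
    ext r
    obtain ⟨s, rfl⟩ := hs r
    rw [← Ideal.mem_comap, hv, Submodule.mem_colon_singleton, Submodule.mem_colon_singleton, Submodule.mem_bot,
      Submodule.mem_bot, algebraMap_smul]

end Surj

variable {A : Type u} [CommRing A] [IsLocalRing A] [IsNoetherianRing A] {ω : Dual.D A}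
  (hω : Dual.IsDualizing A ω) (hn : Dual.IsNormalized A ω) (M : Type u) [AddCommGroup M] [Module A M]
  [Module.Finite A M]
include hω hn

theorem deg_ge_of_supportDim_le (n : ℕ) (hdim : Module.supportDim A M ≤ n) (q : PrimeSpectrum A)
    (hq : q ∈ Module.support A M) : -(n : ℤ) ≤ deg hω q := by
  obtain ⟨e, he⟩ : ∃ e : ℕ, ringKrullDim (A ⧸ q.asIdeal) = e := ⟨_, ringKrullDim_quotient_eq hω q⟩
  rw [deg_eq_neg_dim hω hn q e he]
  have h : ringKrullDim (A ⧸ q.asIdeal) ≤ Module.supportDim A M := by
    rw [Module.supportDim_eq_ringKrullDim_quotient_annihilator]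
    exact ringKrullDim_le_of_surjective (Ideal.Quotient.factor (Module.mem_support_iff_of_finite.1 hq))
      (Ideal.Quotient.factor_surjective _)
  have h2 := h.trans hdim
  rw [he] at h2
  have : e ≤ n := by exact_mod_cast h2
  omega

omit hn in
theorem support_ext_subset (i : ℤ) (p : PrimeSpectrum A) (hp : p ∈ Module.support A (Ext ω (ModuleCat.of A M) i)) :
    p ∈ Module.support A M := by
  haveI := Ext_finite hω M i
  refine Module.mem_support_iff_of_finite.2 fun a ha => Module.mem_support_iff_of_finite.1 hp
    (Module.mem_annihilator.2 fun g => ?_)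
  rw [← extMap_smul_id a (ModuleCat.of A M) i, show a • 𝟙 (ModuleCat.of A M) = 0 from
    ModuleCat.hom_ext (LinearMap.ext fun x => Module.mem_annihilator.1 ha x)]
  show (DerivedCategory.singleFunctor (ModuleCat.{u} A) 0).map 0 ≫ g = 0
  rw [Functor.map_zero, zero_comp]

/-- The associated primes of the top `Ext`. -/
theorem associatedPrimes_top {n : ℕ} (hdim : Module.supportDim A M ≤ n) {W : Type u} [AddCommGroup W] [Module A W]
    [Module.Finite A W] (e : W ≃ₗ[A] Ext ω (ModuleCat.of A M) (-(n : ℤ))) :
    associatedPrimes A W = {p | p ∈ associatedPrimes A M ∧ ringKrullDim (A ⧸ p) = n} := by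
  have hm := fun q hq => deg_ge_of_supportDim_le hω hn M n hdim q hq
  have hsupp : ∀ p : PrimeSpectrum A, p ∈ Module.support A W → p ∈ Module.support A M := fun p hp =>
    support_ext_subset hω M _ p (by rwa [← LinearEquiv.support_eq e])
  have hdeg : ∀ p : PrimeSpectrum A, ringKrullDim (A ⧸ p.asIdeal) = n ↔ deg hω p = -(n : ℤ) := fun p => by
    obtain ⟨c, hc⟩ : ∃ c : ℕ, ringKrullDim (A ⧸ p.asIdeal) = c := ⟨_, ringKrullDim_quotient_eq hω p⟩
    rw [deg_eq_neg_dim hω hn p c hc, hc]
    constructor
    · intro h; have : c = n := by exact_mod_cast h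
      omega
    · intro h; rw [show c = n by omega]
  ext p
  constructor
  · intro hp
    haveI := hp.isPrime
    let P : PrimeSpectrum A := ⟨p, inferInstance⟩
    have hPW : P ∈ Module.support A W := Module.mem_support_iff_of_finite.2 fun s hs =>
      IsAssociatedPrime.annihilator_le hp (by rwa [Submodule.annihilator_top])
    have hPd : deg hω P = -(n : ℤ) := by
      refine le_antisymm (le_of_not_gt fun hlt => ?_) (hm P (hsupp P hPW))
      obtain ⟨x, hxp, hx, -⟩ := exists_cut hω M _ hm P hlt
      have h1 : x ∈ ⋃ s ∈ associatedPrimes A W, (s : Set A) := Set.mem_biUnion hp hxp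
      rw [biUnion_associatedPrimes_eq_compl_regular] at h1
      exact h1 ((e.isSMulRegular_congr x).2 hx)
    refine ⟨Module.associatedPrimes.minimalPrimes_annihilator_subset_associatedPrimes A M
      ⟨⟨P.isPrime, Module.mem_support_iff_of_finite.1 (hsupp P hPW)⟩, fun q hq hqp => ?_⟩, (hdeg P).2 hPd⟩
    haveI := hq.1
    rcases lt_or_eq_of_le (show (⟨q, inferInstance⟩ : PrimeSpectrum A) ≤ P from hqp) with h | h
    · have h1 := deg_strictMono hω h
      have h2 := hm ⟨q, inferInstance⟩ (Module.mem_support_iff_of_finite.2 hq.2)
      omega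
    · exact le_of_eq (congrArg PrimeSpectrum.asIdeal h).symm
  · rintro ⟨hp, hpd⟩
    haveI := hp.isPrime
    let P : PrimeSpectrum A := ⟨p, inferInstance⟩
    have hPM : P ∈ Module.support A M := Module.mem_support_iff_of_finite.2 fun s hs =>
      IsAssociatedPrime.annihilator_le hp (by rwa [Submodule.annihilator_top])
    have hPd := (hdeg P).1 hpd
    have hmin : ∀ q, q ∈ Module.support A M → q ≤ P → q = P := fun q hq hqp => by
      refine hqp.eq_or_lt.elim id fun h => ?_
      have h1 := deg_strictMono hω h
      have h2 := hm q hq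
      omega
    have hPW : P ∈ Module.support A W := by
      rw [LinearEquiv.support_eq e, mem_support_iff_not_van, not_van_iff_of_minimal hω P hPM hmin]
      exact hPd.symm
    refine Module.associatedPrimes.minimalPrimes_annihilator_subset_associatedPrimes A W
      ⟨⟨P.isPrime, Module.mem_support_iff_of_finite.1 hPW⟩, fun q hq hqp => ?_⟩
    exact le_of_eq (congrArg PrimeSpectrum.asIdeal
      (hmin ⟨q, hq.1⟩ (hsupp _ (Module.mem_support_iff_of_finite.2 hq.2)) hqp)).symm

/-- The dimension of the top `Ext`. -/
theorem supportDim_top {n : ℕ} (hdim : Module.supportDim A M = n) {W : Type u} [AddCommGroup W] [Module A W]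
    [Module.Finite A W] (e : W ≃ₗ[A] Ext ω (ModuleCat.of A M) (-(n : ℤ))) : Module.supportDim A W = n := by
  refine le_antisymm ?_ ?_
  · have h1 := supportDim_ext_le hω hn M (-(n : ℤ))
    rw [show ((-(-(n : ℤ))).toNat : WithBot ℕ∞) = n by norm_num] at h1
    refine le_trans (le_of_eq ?_) h1
    show Order.krullDim (Module.support A W) = Order.krullDim (Module.support A (Ext ω (ModuleCat.of A M) (-(n : ℤ))))
    rw [LinearEquiv.support_eq e]
  · haveI : Nontrivial M := (Module.supportDim_ne_bot_iff_nontrivial A M).1 (by rw [hdim]; simp)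
    obtain ⟨q, hq, hqd⟩ : ∃ q : PrimeSpectrum A, q ∈ Module.support A M ∧ ringKrullDim (A ⧸ q.asIdeal) = n := by
      by_contra! hall
      have : Module.supportDim A M < n := by
        rcases Nat.eq_zero_or_pos n with rfl | hpos
        · exfalso
          obtain ⟨p, hp⟩ := Module.nonempty_support_iff (R := A) (M := M) |>.2 inferInstance
          refine hall p hp (le_antisymm ?_ (ringKrullDim_nonneg_of_nontrivial))
          rw [← hdim, Module.supportDim_eq_ringKrullDim_quotient_annihilator]
          exact ringKrullDim_le_of_surjective (Ideal.Quotient.factor (Module.mem_support_iff_of_finite.1 hp))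
            (Ideal.Quotient.factor_surjective _)
        · refine lt_of_le_of_lt (iSup_le fun l => ?_) (show ((n - 1 : ℕ) : WithBot ℕ∞) < n by exact_mod_cast Nat.sub_lt hpos one_pos)
          refine WithBot.coe_le_coe.2 (ENat.natCast_le_natCast.2 ?_)
          obtain ⟨c, hc⟩ : ∃ c : ℕ, ringKrullDim (A ⧸ l.head.1.asIdeal) = c := ⟨_, ringKrullDim_quotient_eq hω _⟩
          have h1 := length_le_deg_sub hω (l.map Subtype.val (fun _ _ h => h))
          have h2 := deg_eq_neg_dim hω hn l.head.1 c hc
          have h3 := deg_ge_of_supportDim_le hω hn M n hdim.le l.head.1 l.head.2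
          have h4 : c ≠ n := fun h => hall l.head.1 l.head.2 (by rw [hc, h])
          have h5 := (deg_strictMono hω).monotone (le_closedPt l.last.1)
          rw [deg_closedPt_of_normalized hω hn] at h5
          change (l.map Subtype.val (fun _ _ h => h)).length ≤ n - 1
          change deg hω l.head.1 + ((l.map Subtype.val (fun _ _ h => h)).length : ℤ) ≤ deg hω l.last.1 at h1
          omega
      exact this.ne hdim
    have hqass : q.asIdeal ∈ associatedPrimes A M := by
      refine Module.associatedPrimes.minimalPrimes_annihilator_subset_associatedPrimes A M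
        ⟨⟨q.isPrime, Module.mem_support_iff_of_finite.1 hq⟩, fun r hr hrq => ?_⟩
      haveI := hr.1
      rcases lt_or_eq_of_le (show (⟨r, inferInstance⟩ : PrimeSpectrum A) ≤ q from hrq) with h | h
      · have h1 := deg_strictMono hω h
        have h2 := deg_ge_of_supportDim_le hω hn M n hdim.le ⟨r, inferInstance⟩ (Module.mem_support_iff_of_finite.2 hr.2)
        rw [deg_eq_neg_dim hω hn q n hqd] at h1
        omega
      · exact le_of_eq (congrArg PrimeSpectrum.asIdeal h).symm
    have hqW : q.asIdeal ∈ associatedPrimes A W := by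
      rw [associatedPrimes_top hω hn M hdim.le e]
      exact ⟨hqass, hqd⟩
    rw [← hqd, Module.supportDim_eq_ringKrullDim_quotient_annihilator]
    exact ringKrullDim_le_of_surjective (Ideal.Quotient.factor (by
      refine le_of_eq_of_le Submodule.annihilator_top.symm (IsAssociatedPrime.annihilator_le hqW)))
      (Ideal.Quotient.factor_surjective _)

end Groth.Agent.DualCxLib
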