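import Groth.Agent.DualCxLib.Sch2
import Groth.Agent.DualCxLib.GorLoc
import Groth.Agent.GorLib.Socle
import Groth.Agent.S0371
import Groth.Prelude.Def_Dual3

/-!
# Gorenstein schemes and invertible dualizing complexes
-/

set_option autoImplicit false
set_option linter.style.haveILetI false
set_option linter.unusedSectionVars false

universe u

open CategoryTheory CategoryTheory.Limits AlgebraicGeometry
open Groth.Agent DTen
open DTenLib.Point (hH sg)

attribute [local instance] HasDerivedCategory.standard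

noncomputable section

namespace Groth.Agent.DualCxLib

variable {A : Type u} [CommRing A]

/-- An object with one free cohomology module of rank one is a shift of the ring. -/
theorem nonempty_iso_inD_shift {ω : Dual.D A} (e : ℤ) (hz : ∀ i, i ≠ e → Subsingleton (Dual.HD A ω i))
    (q : Dual.HD A ω e ≃ₗ[A] A) : Nonempty (ω ≅ (Dual.inD A A)⟦-e⟧) := by
  haveI : ω.IsGE e := isGE_of_subsingleton fun i hi => hz i (by omega)
  haveI : ω.IsLE e := (DerivedCategory.isLE_iff ω e).2 fun i hi => by
    haveI := hz i (by omega)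
    exact ModuleCat.isZero_of_subsingleton _
  obtain ⟨c⟩ := Groth.Agent.DerLib.Devissage.nonempty_iso_single ω e
  let s : sg (ModuleCat.of A A) e ≅ (sg (ModuleCat.of A A) 0)⟦-e⟧ :=
    eqToIso (by simp) ≪≫ (DTenLib.Point.shiftSg (ModuleCat.of A A) 0 (-e)).symm
  exact ⟨c ≪≫ (DerivedCategory.singleFunctor (ModuleCat.{u} A) e).mapIso q.toModuleIso ≪≫ s⟩

/-- Near a Gorenstein point the complex is a shift of the ring. -/
theorem exists_free_nhd [IsNoetherianRing A] {ω : Dual.D A} (hω : Dual.IsDualizing A ω) (p : PrimeSpectrum A)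
    (hp : LocCoh.IsGorensteinLocalRing (Localization.AtPrime p.asIdeal)) :
    ∃ (t : A) (e : ℤ), t ∉ p.asIdeal ∧ ∀ (Z : Dual.D (Localization.Away t))
      (η : ω ⟶ (DRing.restrictD (awayMap t)).obj Z), IsLocH (awayMap t) (Submonoid.powers t) η →
        Nonempty (Z ≅ (Dual.inD (Localization.Away t) (Localization.Away t))⟦-e⟧) := by
  classical
  haveI := hω.finite_cohomology
  obtain ⟨a, b, hab⟩ := hω.finite_injective_dimension
  obtain ⟨e, hz, ⟨q⟩⟩ := (gorenstein_atPrime_iff p hω).1 hp
  haveI : Module.FinitePresentation A (Dual.HD A ω e) := Module.finitePresentation_of_finite A _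
  let f := LocalizedModule.mkLinearMap p.asIdeal.primeCompl (Dual.HD A ω e)
  let g := Algebra.linearMap A (Localization.AtPrime p.asIdeal)
  let q' := q.restrictScalars A
  obtain ⟨l, s, hl⟩ :=
    Module.FinitePresentation.exists_lift_of_isLocalizedModule p.asIdeal.primeCompl g (q'.toLinearMap ∘ₗ f)
  have hmap : IsLocalizedModule.map p.asIdeal.primeCompl f g l = (s • LinearMap.id) ∘ₗ q'.toLinearMap :=
    IsLocalizedModule.ext p.asIdeal.primeCompl f (IsLocalizedModule.map_units g) (by
      rw [IsLocalizedModule.map_comp, hl]; rfl)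
  have hbij : Function.Bijective (IsLocalizedModule.map p.asIdeal.primeCompl f g l) := by
    rw [hmap, LinearMap.coe_comp]
    exact ((Module.End.isUnit_iff _).1 (IsLocalizedModule.map_units g s)).comp q'.bijective
  obtain ⟨r, hr, hrt⟩ := exists_bijective_map_powers p.asIdeal.primeCompl f g l hbij
  have hann : ∀ i, i ≠ e → ∃ u ∈ Module.annihilator A (Dual.HD A ω i), u ∉ p.asIdeal := fun i hi =>
    SetLike.not_le_iff_exists.1 fun h => hz i hi (Module.mem_support_iff_of_finite.2 h)
  choose! u hu hup using hann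
  let I := (Finset.Icc a b).erase e
  let t := r * ∏ i ∈ I, u i
  have ht : t ∉ p.asIdeal := fun h => by
    rcases p.isPrime.mem_or_mem h with h | h
    · exact hr h
    · obtain ⟨i, hi, h'⟩ := p.isPrime.prod_mem_iff.1 h
      exact hup i (Finset.mem_erase.1 hi).1 h'
  refine ⟨t, e, ht, fun Z η hL => nonempty_iso_inD_shift e (fun i hi => ?_) ?_⟩
  · refine ModuleCat.subsingleton_of_isZero (not_tor_HD (Submonoid.powers t) hL i fun x => ?_)
    by_cases hib : i ∈ Finset.Icc a b
    · refine ⟨t, Submonoid.mem_powers t, ?_⟩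
      obtain ⟨c, hc⟩ : u i ∣ t :=
        (Finset.dvd_prod_of_mem u (Finset.mem_erase.2 ⟨hi, hib⟩)).trans (dvd_mul_left _ _)
      rw [hc, mul_comm, mul_smul, Module.mem_annihilator.1 (hu i hi) x, smul_zero]
    · haveI : Subsingleton (Dual.HD A ω i) := ModuleCat.subsingleton_of_isZero
        (isZero_of_ext_ring i (hab _ i (by rw [Finset.mem_Icc] at hib; omega)))
      exact ⟨1, Submonoid.one_mem _, Subsingleton.elim _ _⟩
  · let ee := (DRingLib.exists_homology_iso_mapDerived (ModuleCat.restrictScalars.{u} (awayMap t)) Z e).some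
    letI : Module A (Dual.HD (Localization.Away t) Z e) := Module.compHom _ (awayMap t)
    haveI : IsScalarTower A (Localization.Away t) (Dual.HD (Localization.Away t) Z e) :=
      IsScalarTower.of_algebraMap_smul fun _ _ => rfl
    let e' : (hH A e).obj ((DRing.restrictD (awayMap t)).obj Z) ≃ₗ[A] Dual.HD (Localization.Away t) Z e :=
      ee.toLinearEquiv
    haveI := hL e
    haveI : IsLocalizedModule (Submonoid.powers t) (e'.toLinearMap.comp ((hH A e).map η).hom) :=
      IsLocalizedModule.of_linearEquiv _ _ e'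
    let i₁ := (IsLocalizedModule.iso (Submonoid.powers t)
      (e'.toLinearMap.comp ((hH A e).map η).hom)).extendScalarsOfIsLocalization (Submonoid.powers t)
        (Localization.Away t)
    let i₂ : LocalizedModule (Submonoid.powers t) (Dual.HD A ω e) ≃ₗ[Localization.Away t]
        LocalizedModule (Submonoid.powers t) A :=
      LinearEquiv.ofBijective (LocalizedModule.map (Submonoid.powers t) l) (hrt t (dvd_mul_right _ _))
    let i₃ : LocalizedModule (Submonoid.powers t) A ≃ₗ[Localization.Away t] Localization.Away t :=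
      (IsLocalizedModule.iso (Submonoid.powers t)
        (Algebra.linearMap A (Localization.Away t))).extendScalarsOfIsLocalization (Submonoid.powers t) _
    exact i₁.symm.trans (i₂.trans i₃)

theorem gorenstein_atPrime_of_iso [IsNoetherianRing A] {ω : Dual.D A} (hω : Dual.IsDualizing A ω) (n : ℤ)
    (e : ω ≅ (Dual.inD A A)⟦n⟧) (p : PrimeSpectrum A) :
    LocCoh.IsGorensteinLocalRing (Localization.AtPrime p.asIdeal) := by
  let f : ∀ i, Dual.HD A ω i ≃ₗ[A] (hH A (n + i)).obj (Dual.inD A A) := fun i =>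
    ((hH A i).mapIso e ≪≫ hHShift (Dual.inD A A) n i (n + i) rfl).toLinearEquiv
  refine (gorenstein_atPrime_iff p hω).2 ⟨-n, fun i hi => ?_, ?_⟩
  · haveI := ModuleCat.subsingleton_of_isZero
      (DTenLib.Point.isZero_sg (N := ModuleCat.of A A) (show n + i ≠ 0 by omega))
    haveI : Subsingleton (Dual.HD A ω i) := (f i).toEquiv.subsingleton
    rw [Module.support_eq_empty]
    exact Set.notMem_empty _
  · have h0 : Nonempty (Dual.HD A ω (-n) ≃ₗ[A] A) := by
      have := f (-n)
      rw [add_neg_cancel] at this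
      exact ⟨this.trans (DTenLib.Point.sgH (ModuleCat.of A A) 0).toLinearEquiv⟩
    obtain ⟨φ⟩ := h0
    let g := (Algebra.linearMap A (Localization.AtPrime p.asIdeal)).comp φ.toLinearMap
    haveI : IsLocalizedModule p.asIdeal.primeCompl g := IsLocalizedModule.of_linearEquiv_right _ _ _
    exact ⟨(IsLocalizedModule.iso p.asIdeal.primeCompl g).extendScalarsOfIsLocalization p.asIdeal.primeCompl _⟩

variable {X : Scheme.{u}}
  [∀ (U V : Scheme.{u}) (j : U ⟶ V) [IsOpenImmersion j], PreservesFiniteLimits (Scheme.Modules.restrictFunctor j)]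
  [∀ (R : CommRingCat.{u}), PreservesFiniteLimits (tilde.functor R)]

theorem isDualizingSch_structureSheaf (hX : Dual3.IsGorenstein X) {K : DCoh.D X} (hK : Dual2.IsDualizingSch X K) :
    Dual2.IsDualizingSch X (DCoh.inD X (Coh.structureModule X)) := by
  haveI := hX.1
  intro A _ j _
  obtain ⟨ω, hω, -⟩ := hK A j
  haveI := hω.isNoetherianRing
  refine ⟨Dual.inD A A, isDualizing_self_of_gorenstein (Groth.Agent.S0371.result A ω hω) (fun p => ?_), ⟨?_⟩⟩
  · exact GorLib.gorenstein_of_ringEquiv (stalkRing j p).symm (hX.2 (j p))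
  · exact restrictInDUnit j ≪≫ (tildeInDSelf (CommRingCat.of A)).symm

theorem isInvertibleD_of_gorenstein [IsLocallyNoetherian X] (hX : Dual3.IsGorenstein X) {K : DCoh.D X}
    (hK : Dual2.IsDualizingSch X K) : Dual3.IsInvertibleD K := by
  intro x
  obtain ⟨A, _, _, j, _, p, rfl⟩ := chart_of_point x
  obtain ⟨ω, hω, ⟨c⟩⟩ := hK A j
  obtain ⟨t, e, ht, H⟩ := exists_free_nhd hω p (GorLib.gorenstein_of_ringEquiv (stalkRing j p).symm (hX.2 (j p)))
  obtain ⟨Z, η, -, hl, ⟨d⟩⟩ := exists_chart_loc (S := Localization.Away t) (Submonoid.powers t) j c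
  obtain ⟨z⟩ := H Z η hl
  let j' := basicι t ≫ j
  refine ⟨j'.opensRange, -e, ?_, ⟨?_⟩⟩
  · obtain ⟨y, hy⟩ := (mem_range_basicι t p).2 ht
    refine ⟨y, ?_⟩
    show (basicι t ≫ j) y = j p
    rw [Scheme.Hom.comp_apply, hy]
  · have h2 : j'.isoOpensRange.inv ≫ j' = j'.opensRange.ι := by
      rw [Iso.inv_comp_eq]; exact (Scheme.Hom.isoOpensRange_hom_ι j').symm
    exact restrictCongrIso h2.symm K ≪≫ restrictCompIso j'.isoOpensRange.inv j' K ≪≫
      (DCoh.restrictD j'.isoOpensRange.inv).mapIso (d ≪≫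
        (DCoh.tildeD (CommRingCat.of (Localization.Away t))).mapIso z ≪≫
        ((DCoh.tildeD (CommRingCat.of (Localization.Away t))).commShiftIso (-e)).app _ ≪≫
        (shiftFunctor _ (-e)).mapIso (tildeInDSelf (CommRingCat.of (Localization.Away t)))) ≪≫
      ((DCoh.restrictD j'.isoOpensRange.inv).commShiftIso (-e)).app _ ≪≫
      (shiftFunctor _ (-e)).mapIso (restrictInDUnit j'.isoOpensRange.inv)

theorem gorenstein_of_isInvertibleD [IsLocallyNoetherian X] {K : DCoh.D X} (hK : Dual2.IsDualizingSch X K)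
    (hinv : Dual3.IsInvertibleD K) : Dual3.IsGorenstein X := by
  refine ⟨inferInstance, fun x => ?_⟩
  obtain ⟨U, n, hxU, ⟨c⟩⟩ := hinv x
  haveI : IsLocallyNoetherian (U : Scheme.{u}) := isLocallyNoetherian_of_isOpenImmersion U.ι
  obtain ⟨A, _, _, k, _, p, hp⟩ := chart_of_point (X := (U : Scheme.{u})) ⟨x, hxU⟩
  obtain ⟨ω, hω, ⟨d⟩⟩ := hK A (k ≫ U.ι)
  obtain ⟨z⟩ := nonempty_iso_of_tildeD (d.symm ≪≫ restrictCompIso k U.ι K ≪≫ (DCoh.restrictD k).mapIso c ≪≫
    ((DCoh.restrictD k).commShiftIso n).app _ ≪≫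
    (shiftFunctor _ n).mapIso (restrictInDUnit k ≪≫ (tildeInDSelf (CommRingCat.of A)).symm) ≪≫
    (((DCoh.tildeD (CommRingCat.of A)).commShiftIso n).app _).symm)
  have hx : (k ≫ U.ι) p = x := (Scheme.Hom.comp_apply k U.ι p).trans ((congrArg U.ι hp).trans rfl)
  subst hx
  exact GorLib.gorenstein_of_ringEquiv (stalkRing (k ≫ U.ι) p) (gorenstein_atPrime_of_iso hω n z p)

end Groth.Agent.DualCxLib
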