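import Groth.Agent.DualCxLib.DepthApps
import Groth.Agent.InjHullLib.Quotient

/-!
# Finite length modules against a normalized dualizing complex
-/

set_option autoImplicit false
set_option linter.style.haveILetI false
set_option linter.unusedSectionVars false

universe u

open CategoryTheory CategoryTheory.Limits
open Groth.Agent
open DTenLib.Point (hH sg)

attribute [local instance] HasDerivedCategory.standard

noncomputable section

namespace Groth.Agent.DualCxLib

variable {A : Type u} [CommRing A]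

section Functorial

variable (ω : Dual.D A) {M N P : ModuleCat.{u} A} (i : ℤ)

theorem extMap_add (φ ψ : M ⟶ N) (g : Ext ω N i) : extMap ω (φ + ψ) i g = extMap ω φ i g + extMap ω ψ i g := by
  show (DerivedCategory.singleFunctor (ModuleCat.{u} A) 0).map (φ + ψ) ≫ g = _
  rw [Functor.map_add, Preadditive.add_comp]
  rfl

theorem extMap_smul (r : A) (φ : M ⟶ N) (g : Ext ω N i) : extMap ω (r • φ) i g = r • extMap ω φ i g := by
  show (DerivedCategory.singleFunctor (ModuleCat.{u} A) 0).map (r • φ) ≫ g = _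
  rw [Functor.map_smul, Linear.smul_comp]
  rfl

theorem extMap_comp (φ : M ⟶ N) (ψ : N ⟶ P) (g : Ext ω P i) :
    extMap ω (φ ≫ ψ) i g = extMap ω φ i (extMap ω ψ i g) := by
  show (DerivedCategory.singleFunctor (ModuleCat.{u} A) 0).map (φ ≫ ψ) ≫ g = _
  rw [Functor.map_comp, Category.assoc]
  rfl

theorem extMap_id (g : Ext ω M i) : extMap ω (𝟙 M) i g = g := by
  show (DerivedCategory.singleFunctor (ModuleCat.{u} A) 0).map (𝟙 M) ≫ g = _
  rw [CategoryTheory.Functor.map_id, Category.id_comp]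

theorem extMap_sum {J : Type*} [Fintype J] (φ : J → (M ⟶ N)) (g : Ext ω N i) :
    extMap ω (∑ j, φ j) i g = ∑ j, extMap ω (φ j) i g := by
  show (DerivedCategory.singleFunctor (ModuleCat.{u} A) 0).map (∑ j, φ j) ≫ g = _
  rw [Functor.map_sum, Preadditive.sum_comp]
  rfl

end Functorial

section Rep

variable {a : Ideal A} {ω : Dual.D A} {i : ℤ}

/-- The map `A/a → N` of an element. -/
def ofElt {N : ModuleCat.{u} A} (hN : ∀ r ∈ a, ∀ x : N, r • x = 0) (x : N) : ModuleCat.of A (A ⧸ a) ⟶ N :=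
  ModuleCat.ofHom (Submodule.liftQ a (LinearMap.toSpanSingleton A N x) fun r hr => hN r hr x)

theorem ofElt_add {N : ModuleCat.{u} A} (hN : ∀ r ∈ a, ∀ x : N, r • x = 0) (x y : N) :
    ofElt hN (x + y) = ofElt hN x + ofElt hN y :=
  ModuleCat.hom_ext (Submodule.linearMap_qext _ (LinearMap.ext_ring (by
    show (1 : A) • (x + y) = (1 : A) • x + (1 : A) • y
    rw [smul_add])))

theorem ofElt_smul {N : ModuleCat.{u} A} (hN : ∀ r ∈ a, ∀ x : N, r • x = 0) (r : A) (x : N) :
    ofElt hN (r • x) = r • ofElt hN x :=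
  ModuleCat.hom_ext (Submodule.linearMap_qext _ (LinearMap.ext_ring (by
    show (1 : A) • (r • x) = r • ((1 : A) • x)
    rw [one_smul, one_smul])))

theorem ofElt_comp {N N' : ModuleCat.{u} A} (hN : ∀ r ∈ a, ∀ x : N, r • x = 0) (hN' : ∀ r ∈ a, ∀ x : N', r • x = 0)
    (φ : N ⟶ N') (x : N) : ofElt hN x ≫ φ = ofElt hN' (φ.hom x) :=
  ModuleCat.hom_ext (Submodule.linearMap_qext _ (LinearMap.ext_ring (φ.hom.map_smul 1 x)))

/-- An element of `Ext^i(N, ω)` as a map `N → Ext^i(A/a, ω)`. -/
def rep {N : ModuleCat.{u} A} (hN : ∀ r ∈ a, ∀ x : N, r • x = 0) :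
    Ext ω N i →ₗ[A] ((N : Type u) →ₗ[A] Ext ω (ModuleCat.of A (A ⧸ a)) i) where
  toFun g :=
    { toFun := fun x => extMap ω (ofElt hN x) i g
      map_add' := fun x y => by rw [ofElt_add, extMap_add]
      map_smul' := fun r x => by rw [ofElt_smul, extMap_smul]; rfl }
  map_add' g g' := LinearMap.ext fun x => map_add (extMap ω (ofElt hN x) i) g g'
  map_smul' r g := LinearMap.ext fun x => map_smul (extMap ω (ofElt hN x) i) r g

theorem rep_nat {N N' : ModuleCat.{u} A} (hN : ∀ r ∈ a, ∀ x : N, r • x = 0) (hN' : ∀ r ∈ a, ∀ x : N', r • x = 0)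
    (φ : N ⟶ N') (g : Ext ω N' i) (x : N) : rep hN (extMap ω φ i g) x = rep hN' g (φ.hom x) := by
  show extMap ω (ofElt hN x) i (extMap ω φ i g) = extMap ω (ofElt hN' (φ.hom x)) i g
  rw [← extMap_comp, ofElt_comp hN hN']

variable (hvan : ∀ (N : ModuleCat.{u} A) [Module.Finite A N], (∀ r ∈ a, ∀ x : N, r • x = 0) →
  Subsingleton (Ext ω N (i - 1)))
include hvan

variable [IsNoetherianRing A] {N : ModuleCat.{u} A} [Module.Finite A N] (hN : ∀ r ∈ a, ∀ x : N, r • x = 0)

theorem rep_injective_aux : ∀ g : Ext ω N i, rep hN g = 0 → g = 0 := by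
  classical
  intro g hg
  obtain ⟨n, π, hπ⟩ := Module.Finite.exists_fin' A N
  let F : ModuleCat.{u} A := ModuleCat.of A (Fin n → A ⧸ a)
  let πq : (Fin n → A ⧸ a) →ₗ[A] (N : Type u) :=
    ∑ j, (Submodule.liftQ a (LinearMap.toSpanSingleton A N (π (Pi.single j 1))) fun r hr => hN r hr _) ∘ₗ LinearMap.proj j
  have hπq : Function.Surjective πq := fun x => by
    obtain ⟨c, rfl⟩ := hπ x
    refine ⟨fun j => Submodule.Quotient.mk (c j), ?_⟩
    rw [pi_eq_sum_univ' c, map_sum]
    simp [πq, LinearMap.sum_apply, Pi.single_apply, Submodule.Quotient.mk]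
    rfl
  let φ : F ⟶ N := ModuleCat.ofHom πq
  have hF : ∀ r ∈ a, ∀ x : F, r • x = 0 := fun r hr x => funext fun j => by
    obtain ⟨z, hz⟩ := Submodule.Quotient.mk_surjective _ (x j)
    rw [Pi.smul_apply, ← hz, ← Submodule.Quotient.mk_smul, Pi.zero_apply, Submodule.Quotient.mk_eq_zero]
    exact Ideal.mul_mem_right _ _ hr
  let S : ShortComplex (ModuleCat.{u} A) := ShortComplex.mk (ModuleCat.ofHom (LinearMap.ker πq).subtype) φ
    (ModuleCat.hom_ext (LinearMap.ext fun x => x.2))
  have hS : S.ShortExact :=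
    { exact := (ShortComplex.moduleCat_exact_iff_range_eq_ker S).2 (Submodule.range_subtype _)
      mono_f := (ModuleCat.mono_iff_injective _).2 Subtype.val_injective
      epi_g := (ModuleCat.epi_iff_surjective _).2 hπq }
  haveI : Module.Finite A S.X₁ := inferInstanceAs (Module.Finite A (LinearMap.ker πq))
  haveI hsub : Subsingleton (Ext ω S.X₁ (i - 1)) := hvan S.X₁ fun r hr x => Subtype.ext (hF r hr x.1)
  have h1 : extMap ω φ i g = 0 := by
    have hid : 𝟙 F = ∑ j, ModuleCat.ofHom (LinearMap.proj j : (Fin n → A ⧸ a) →ₗ[A] A ⧸ a) ≫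
        ModuleCat.ofHom (LinearMap.single A (fun _ => A ⧸ a) j) :=
      ModuleCat.hom_ext (LinearMap.ext fun x => by
        funext k
        simp [F, ModuleCat.hom_sum, Finset.sum_apply, Pi.single_apply])
    rw [← extMap_id ω i (extMap ω φ i g), hid, extMap_sum]
    refine Finset.sum_eq_zero fun j _ => ?_
    rw [extMap_comp]
    have h2 : ModuleCat.ofHom (LinearMap.single A (fun _ => A ⧸ a) j) ≫ φ =
        ofElt hN (φ.hom (Pi.single j (Submodule.Quotient.mk 1))) :=
      ModuleCat.hom_ext (Submodule.linearMap_qext _ (LinearMap.ext_ring (by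
        show πq (Pi.single j (Submodule.Quotient.mk 1)) = (1 : A) • πq (Pi.single j (Submodule.Quotient.mk 1))
        rw [one_smul])))
    have h3 : extMap ω (ModuleCat.ofHom (LinearMap.single A (fun _ => A ⧸ a) j)) i (extMap ω φ i g) = 0 := by
      rw [← extMap_comp, h2]
      exact LinearMap.congr_fun hg _
    rw [h3, map_zero]
  obtain ⟨w, hw⟩ := Pretriangulated.Triangle.yoneda_exact₃ _ hS.singleTriangle_distinguished g h1
  haveI : Subsingleton (hS.singleTriangle.obj₁⟦(1 : ℤ)⟧ ⟶ ω⟦i⟧) :=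
    (shiftOneL _ ω i (i - 1) (by omega)).toEquiv.subsingleton_congr.2 hsub
  rw [hw, Subsingleton.elim w 0, comp_zero]
  rfl

theorem rep_injective : Function.Injective (rep (ω := ω) (i := i) hN) :=
  (injective_iff_map_eq_zero _).2 (rep_injective_aux hvan hN)

theorem rep_surjective : Function.Surjective (rep (ω := ω) (i := i) hN) := by
  classical
  intro χ
  obtain ⟨n, π, hπ⟩ := Module.Finite.exists_fin' A N
  let F : ModuleCat.{u} A := ModuleCat.of A (Fin n → A ⧸ a)
  let πq : (Fin n → A ⧸ a) →ₗ[A] (N : Type u) :=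
    ∑ j, (Submodule.liftQ a (LinearMap.toSpanSingleton A N (π (Pi.single j 1))) fun r hr => hN r hr _) ∘ₗ LinearMap.proj j
  have hπq : Function.Surjective πq := fun x => by
    obtain ⟨c, rfl⟩ := hπ x
    refine ⟨fun j => Submodule.Quotient.mk (c j), ?_⟩
    rw [pi_eq_sum_univ' c, map_sum]
    simp [πq, LinearMap.sum_apply, Pi.single_apply, Submodule.Quotient.mk]
    rfl
  let φ : F ⟶ N := ModuleCat.ofHom πq
  have hF : ∀ r ∈ a, ∀ x : F, r • x = 0 := fun r hr x => funext fun j => by
    obtain ⟨z, hz⟩ := Submodule.Quotient.mk_surjective _ (x j)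
    rw [Pi.smul_apply, ← hz, ← Submodule.Quotient.mk_smul, Pi.zero_apply, Submodule.Quotient.mk_eq_zero]
    exact Ideal.mul_mem_right _ _ hr
  let S : ShortComplex (ModuleCat.{u} A) := ShortComplex.mk (ModuleCat.ofHom (LinearMap.ker πq).subtype) φ
    (ModuleCat.hom_ext (LinearMap.ext fun x => x.2))
  have hS : S.ShortExact :=
    { exact := (ShortComplex.moduleCat_exact_iff_range_eq_ker S).2 (Submodule.range_subtype _)
      mono_f := (ModuleCat.mono_iff_injective _).2 Subtype.val_injective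
      epi_g := (ModuleCat.epi_iff_surjective _).2 hπq }
  haveI : Module.Finite A S.X₁ := inferInstanceAs (Module.Finite A (LinearMap.ker πq))
  have hA : ∀ r ∈ a, ∀ x : ModuleCat.of A (A ⧸ a), r • x = 0 := fun r hr x => by
    obtain ⟨z, rfl⟩ := Submodule.Quotient.mk_surjective _ x
    exact (Submodule.Quotient.mk_eq_zero _).2 (Ideal.mul_mem_right _ _ hr)
  let e : Fin n → (Fin n → A ⧸ a) := fun j => Pi.single j (Submodule.Quotient.mk 1)
  let g' : Ext ω F i := ∑ j, extMap ω (ModuleCat.ofHom (LinearMap.proj j : (Fin n → A ⧸ a) →ₗ[A] A ⧸ a)) i (χ (φ.hom (e j)))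
  have hone : ofElt hA (Submodule.Quotient.mk 1) = 𝟙 _ :=
    ModuleCat.hom_ext (Submodule.linearMap_qext _ (LinearMap.ext_ring (one_smul A (Submodule.Quotient.mk 1 : A ⧸ a))))
  have hrep : ∀ x : F, rep hF g' x = χ (φ.hom x) := fun x => by
    have hx : (show Fin n → A ⧸ a from x) = ∑ j, (Function.surjInv (Submodule.Quotient.mk_surjective a) (x j)) • e j := funext fun k => by
      simp only [e, Finset.sum_apply, Pi.smul_apply, Pi.single_apply, smul_ite, smul_zero,
        Finset.sum_ite_eq, Finset.mem_univ, if_true]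
      rw [← Submodule.Quotient.mk_smul, smul_eq_mul, mul_one, Function.surjInv_eq (Submodule.Quotient.mk_surjective a)]
    suffices h : ∀ j, rep hF g' (e j) = χ (φ.hom (e j)) by
      change rep hF g' (show Fin n → A ⧸ a from x) = χ (πq (show Fin n → A ⧸ a from x))
      rw [hx]
      exact (map_sum _ _ _).trans ((Finset.sum_congr rfl fun j _ => (map_smul _ _ _).trans
        (congrArg _ (h j))).trans (((map_sum (χ.comp πq) _ _).trans (Finset.sum_congr rfl fun j _ =>
          map_smul (χ.comp πq) _ _)).symm))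
    intro j
    simp only [g', map_sum, LinearMap.sum_apply]
    rw [Finset.sum_eq_single j (fun k _ hk => by
      rw [rep_nat hF hA]
      show extMap ω (ofElt hA _) i _ = 0
      rw [show (ModuleCat.ofHom (LinearMap.proj k : (Fin n → A ⧸ a) →ₗ[A] A ⧸ a)).hom (e j) = (0 : A) • Submodule.Quotient.mk 1 by
        simp [e, hk], ofElt_smul, extMap_smul, zero_smul]) (fun h => absurd (Finset.mem_univ j) h)]
    rw [rep_nat hF hA]
    show extMap ω (ofElt hA _) i _ = _
    rw [show (ModuleCat.ofHom (LinearMap.proj j : (Fin n → A ⧸ a) →ₗ[A] A ⧸ a)).hom (e j) = Submodule.Quotient.mk 1 by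
      simp [e], hone, extMap_id]
  have hK : ∀ r ∈ a, ∀ x : S.X₁, r • x = 0 := fun r hr x => Subtype.ext (hF r hr x.1)
  have h0 : extMap ω S.f i g' = 0 := by
    refine rep_injective_aux hvan hK _ (LinearMap.ext fun x => ?_)
    rw [rep_nat hK hF, hrep]
    show χ (πq x.1) = 0
    rw [show πq x.1 = 0 from x.2, map_zero]
  obtain ⟨g, hg⟩ := exists_of_extMap_f_eq_zero hS i g' h0
  refine ⟨g, LinearMap.ext fun x => ?_⟩
  obtain ⟨y, rfl⟩ := hπq x
  exact ((rep_nat hF hN φ g y).symm.trans (LinearMap.congr_fun (congrArg (rep hF) hg.symm) y)).trans (hrep y)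

end Rep

section Local

variable [IsLocalRing A] [IsNoetherianRing A] {ω : Dual.D A}

theorem subsingleton_ext_finLen (hn : Dual.IsNormalized A ω) (N : Type u) [AddCommGroup N] [Module A N]
    (hN : IsFiniteLength A N) (i : ℤ) (hi : i ≠ 0) : Subsingleton (Ext ω (ModuleCat.of A N) i) := by
  induction hN with
  | of_subsingleton =>
    rename_i M _ _ _
    refine subsingleton_of_forall_eq 0 fun g => ?_
    rw [← extMap_id ω i g, show 𝟙 (ModuleCat.of A M) = 0 from ModuleCat.hom_ext (LinearMap.ext fun x =>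
      Subsingleton.elim (α := M) _ _)]
    show (DerivedCategory.singleFunctor (ModuleCat.{u} A) 0).map 0 ≫ g = 0
    rw [Functor.map_zero, zero_comp]
  | of_simple_quotient hK ih =>
    rename_i M _ _ K hs
    let S : ShortComplex (ModuleCat.{u} A) := ShortComplex.mk (ModuleCat.ofHom K.subtype) (ModuleCat.ofHom K.mkQ)
      (ModuleCat.hom_ext (LinearMap.ext fun x => (Submodule.Quotient.mk_eq_zero _).2 x.2))
    have hS : S.ShortExact :=
      { exact := (ShortComplex.moduleCat_exact_iff_range_eq_ker S).2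
          ((Submodule.range_subtype _).trans (Submodule.ker_mkQ _).symm)
        mono_f := (ModuleCat.mono_iff_injective _).2 Subtype.val_injective
        epi_g := (ModuleCat.epi_iff_surjective _).2 (Submodule.mkQ_surjective _) }
    haveI := hs
    obtain ⟨J, hJ, ⟨e⟩⟩ := isSimpleModule_iff_quot_maximal.1 hs
    obtain rfl : J = IsLocalRing.maximalIdeal A := IsLocalRing.eq_maximalIdeal hJ
    have h3 : Subsingleton (Ext ω S.X₃ i) := by
      haveI := hn i hi
      exact (precompL ((DerivedCategory.singleFunctor _ 0).mapIso e.toModuleIso) (ω⟦i⟧)).toEquiv.subsingleton_congr.2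
        (inferInstanceAs (Subsingleton (Dual.inD A (IsLocalRing.ResidueField A) ⟶ ω⟦i⟧)))
    exact subsingleton_ext₂ hS i ih h3

variable {E : Type u} [AddCommGroup E] [Module A E] {f : IsLocalRing.ResidueField A →ₗ[A] E}

theorem length_ext_finLen (hω : Dual.IsDualizing A ω) (hn : Dual.IsNormalized A ω) (N : Type u) [AddCommGroup N]
    [Module A N] (hN : IsFiniteLength A N) :
    Module.length A (Ext ω (ModuleCat.of A N) 0) = Module.length A N := by
  induction hN with
  | of_subsingleton =>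
    rename_i M _ _ _
    haveI : Subsingleton (Ext ω (ModuleCat.of A M) 0) := subsingleton_of_forall_eq 0 fun g => by
      rw [← extMap_id ω 0 g, show 𝟙 (ModuleCat.of A M) = 0 from ModuleCat.hom_ext (LinearMap.ext fun x =>
        Subsingleton.elim (α := M) _ _)]
      show (DerivedCategory.singleFunctor (ModuleCat.{u} A) 0).map 0 ≫ g = 0
      rw [Functor.map_zero, zero_comp]
    rw [Module.length_eq_zero, Module.length_eq_zero]
  | of_simple_quotient hK ih =>
    rename_i M _ _ K hs
    let S : ShortComplex (ModuleCat.{u} A) := ShortComplex.mk (ModuleCat.ofHom K.subtype) (ModuleCat.ofHom K.mkQ)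
      (ModuleCat.hom_ext (LinearMap.ext fun x => (Submodule.Quotient.mk_eq_zero _).2 x.2))
    have hS : S.ShortExact :=
      { exact := (ShortComplex.moduleCat_exact_iff_range_eq_ker S).2
          ((Submodule.range_subtype _).trans (Submodule.ker_mkQ _).symm)
        mono_f := (ModuleCat.mono_iff_injective _).2 Subtype.val_injective
        epi_g := (ModuleCat.epi_iff_surjective _).2 (Submodule.mkQ_surjective _) }
    haveI := hs
    obtain ⟨J, hJ, ⟨e⟩⟩ := isSimpleModule_iff_quot_maximal.1 hs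
    obtain rfl : J = IsLocalRing.maximalIdeal A := IsLocalRing.eq_maximalIdeal hJ
    have h3 : Subsingleton (Ext ω S.X₃ 1) := by
      haveI := hn 1 one_ne_zero
      exact (precompL ((DerivedCategory.singleFunctor _ 0).mapIso e.toModuleIso) (ω⟦(1 : ℤ)⟧)).toEquiv.subsingleton_congr.2
        (inferInstanceAs (Subsingleton (Dual.inD A (IsLocalRing.ResidueField A) ⟶ ω⟦(1 : ℤ)⟧)))
    have hinj : Function.Injective (extMap ω S.g 0) := (injective_iff_map_eq_zero _).2 fun g hg => by
      obtain ⟨w, hw⟩ := Pretriangulated.Triangle.yoneda_exact₃ _ hS.singleTriangle_distinguished g hg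
      haveI : Subsingleton (hS.singleTriangle.obj₁⟦(1 : ℤ)⟧ ⟶ ω⟦(0 : ℤ)⟧) :=
        (shiftOneL _ ω 0 (-1) rfl).toEquiv.subsingleton_congr.2 (subsingleton_ext_finLen hn K hK (-1) (by omega))
      rw [hw, Subsingleton.elim w 0, comp_zero]
      rfl
    have hex : Function.Exact (extMap ω S.g 0) (extMap ω S.f 0) := fun g => ⟨fun hg => by
      obtain ⟨w, hw⟩ := exists_of_extMap_f_eq_zero hS 0 g hg
      exact ⟨w, hw.symm⟩, by
      rintro ⟨w, rfl⟩
      rw [← extMap_comp, S.zero]
      show (DerivedCategory.singleFunctor (ModuleCat.{u} A) 0).map 0 ≫ w = 0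
      rw [Functor.map_zero, zero_comp]⟩
    haveI : IsSimpleModule A (A ⧸ IsLocalRing.maximalIdeal A) :=
      isSimpleModule_iff_quot_maximal.2 ⟨IsLocalRing.maximalIdeal A, inferInstance, ⟨LinearEquiv.refl A _⟩⟩
    obtain ⟨n, hn1, ⟨e1⟩⟩ := ext_residueField_single_degree ω hω (IsLocalRing.maximalIdeal A)
    obtain rfl : n = 0 := by
      by_contra hne
      haveI : Subsingleton (Dual.inD A (A ⧸ IsLocalRing.maximalIdeal A) ⟶ ω⟦n⟧) := hn n hne
      exact not_subsingleton (A ⧸ IsLocalRing.maximalIdeal A) e1.symm.injective.subsingleton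
    rw [Module.length_eq_add_of_exact (extMap ω S.g 0) (extMap ω S.f 0) hinj
        (fun g => (exists_extend hS 0 h3 g).imp fun _ h => h.symm) hex,
      show Module.length A (Ext ω S.X₁ 0) = Module.length A K from ih,
      show Module.length A (Ext ω S.X₃ 0) = 1 from
        ((precompL ((DerivedCategory.singleFunctor _ 0).mapIso e.toModuleIso) (ω⟦(0 : ℤ)⟧)).length_eq).trans
          ((e1.length_eq).trans (Module.length_eq_one A _)),
      Module.length_eq_add_of_exact K.subtype K.mkQ (Submodule.injective_subtype K) (Submodule.mkQ_surjective K)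
        (LinearMap.exact_subtype_mkQ K), Module.length_eq_one A (M ⧸ K), add_comm]

/-- `Ext^0(A/a, ω)` is the part of the hull killed by `a`. -/
theorem nonempty_ext_quot_equiv (hω : Dual.IsDualizing A ω) (hn : Dual.IsNormalized A ω)
    (hf : InjHull.IsInjectiveHull f) (a : Ideal A) (hle : a ≤ IsLocalRing.maximalIdeal A)
    (hfl : IsFiniteLength A (A ⧸ a)) :
    Nonempty (Ext ω (ModuleCat.of A (A ⧸ a)) 0 ≃ₗ[A] LocCoh.torsionBy a E) := by
  have hvan : ∀ (N : ModuleCat.{u} A) [Module.Finite A N], (∀ r ∈ a, ∀ x : N, r • x = 0) →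
      Subsingleton (Ext ω N (0 - 1)) := fun N _ hN => by
    refine subsingleton_ext_finLen hn N ?_ _ (by omega)
    obtain ⟨_, _⟩ := isFiniteLength_iff_isNoetherian_isArtinian.1 hfl
    obtain ⟨r, π, hπ⟩ := Module.Finite.exists_fin' A N
    let q : (Fin r → A ⧸ a) →ₗ[A] (N : Type u) :=
      ∑ j, (Submodule.liftQ a (LinearMap.toSpanSingleton A N (π (Pi.single j 1))) fun c hc => hN c hc _) ∘ₗ LinearMap.proj j
    refine isFiniteLength_iff_isNoetherian_isArtinian.2 ⟨inferInstance, isArtinian_of_surjective _ q fun x => ?_⟩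
    obtain ⟨c, rfl⟩ := hπ x
    refine ⟨fun j => Submodule.Quotient.mk (c j), ?_⟩
    rw [pi_eq_sum_univ' c, map_sum]
    simp [q, LinearMap.sum_apply, Pi.single_apply]
    rfl
  haveI : IsNoetherian A (Ext ω (ModuleCat.of A (A ⧸ a)) 0) := Ext_finite hω (A ⧸ a) 0
  obtain ⟨r, π, hπ⟩ := Module.Finite.exists_fin' A (Ext ω (ModuleCat.of A (A ⧸ a)) 0)
  let W := (Fin r → A) ⧸ LinearMap.ker π
  let eW : W ≃ₗ[A] Ext ω (ModuleCat.of A (A ⧸ a)) 0 := LinearMap.quotKerEquivOfSurjective π hπ
  have hkill : ∀ c ∈ a, ∀ w : W, c • w = 0 := fun c hc w => eW.injective (by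
    rw [map_smul, map_zero, ← extMap_smul_id c (ModuleCat.of A (A ⧸ a)) 0]
    rw [show c • 𝟙 (ModuleCat.of A (A ⧸ a)) = 0 from ModuleCat.hom_ext (LinearMap.ext fun z => by
      obtain ⟨z, rfl⟩ := Submodule.Quotient.mk_surjective _ z
      exact (Submodule.Quotient.mk_eq_zero _).2 (Ideal.mul_mem_right _ _ hc))]
    show (DerivedCategory.singleFunctor (ModuleCat.{u} A) 0).map 0 ≫ _ = 0
    rw [Functor.map_zero, zero_comp])
  haveI hWfl : IsFiniteLength A W := Module.length_ne_top_iff.1 (by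
    rw [eW.length_eq, length_ext_finLen hω hn _ hfl]; exact Module.length_ne_top_iff.2 hfl)
  obtain ⟨N₀, hN₀⟩ : ∃ n : ℕ, IsLocalRing.maximalIdeal A ^ n ≤ a := by
    haveI := (isFiniteLength_iff_isNoetherian_isArtinian.1 hfl).2
    haveI : IsArtinianRing (A ⧸ a) := (isArtinianRing_iff).2 (isArtinian_of_tower A inferInstance)
    haveI : Nontrivial (A ⧸ a) := Ideal.Quotient.nontrivial_iff.2 (ne_top_of_le_ne_top (IsLocalRing.maximalIdeal.isMaximal A).ne_top hle)
    haveI : IsLocalRing (A ⧸ a) := IsLocalRing.of_surjective' (Ideal.Quotient.mk a) Ideal.Quotient.mk_surjective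
    obtain ⟨n, hn'⟩ := IsArtinianRing.isNilpotent_jacobson_bot (R := A ⧸ a)
    refine ⟨n, fun x hx => Ideal.Quotient.eq_zero_iff_mem.1 ?_⟩
    rw [IsLocalRing.jacobson_eq_maximalIdeal _ bot_ne_top] at hn'
    have hmap : (IsLocalRing.maximalIdeal A).map (Ideal.Quotient.mk a) ≤ IsLocalRing.maximalIdeal (A ⧸ a) := by
      haveI : IsLocalHom (Ideal.Quotient.mk a) := IsLocalHom.of_surjective _ Ideal.Quotient.mk_surjective
      exact Ideal.map_le_iff_le_comap.2 fun y hy h => hy (isUnit_of_map_unit _ _ h)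
    have h1 : Ideal.Quotient.mk a x ∈ IsLocalRing.maximalIdeal (A ⧸ a) ^ n :=
      Ideal.pow_right_mono hmap n (Ideal.map_pow (Ideal.Quotient.mk a) (IsLocalRing.maximalIdeal A) n ▸ Ideal.mem_map_of_mem _ hx)
    rw [hn'] at h1
    exact h1
  have htors : LocCoh.IsPowerTorsion (IsLocalRing.maximalIdeal A) W := fun w => ⟨N₀, fun c hc => hkill c (hN₀ hc) w⟩
  letI := Ideal.Quotient.field (IsLocalRing.maximalIdeal A)
  let m := IsLocalRing.maximalIdeal A
  have hA : ∀ c ∈ a, ∀ x : ModuleCat.of A (A ⧸ m), c • x = 0 := fun c hc x => by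
    obtain ⟨z, rfl⟩ := Submodule.Quotient.mk_surjective _ x
    exact (Submodule.Quotient.mk_eq_zero _).2 (Ideal.mul_mem_right _ _ (hle hc))
  have hsoc : Module.length A (LocCoh.torsionBy m W) = 1 := by
    let eS : LocCoh.torsionBy m W ≃ₗ[A] Ext ω (ModuleCat.of A (A ⧸ m)) 0 :=
      ((InjHullLib.homResidueEquiv W m).symm.trans (eW.congrRight)).trans
        (LinearEquiv.ofBijective (rep hA) ⟨rep_injective hvan hA, rep_surjective hvan hA⟩).symm
    haveI : IsSimpleModule A (A ⧸ m) :=
      isSimpleModule_iff_quot_maximal.2 ⟨m, inferInstance, ⟨LinearEquiv.refl A _⟩⟩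
    rw [eS.length_eq, length_ext_finLen hω hn _ (isFiniteLength_of_isNoetherian_isArtinian_quot hle hfl)]
    exact Module.length_eq_one A _
  have hrk : Module.length (A ⧸ m) (LocCoh.torsionBy m W) = 1 := by
    rw [← hsoc]
    exact (Module.length_eq_of_surjective (R := A ⧸ m) (S := A) (M := LocCoh.torsionBy m W) Ideal.Quotient.mk_surjective).symm
  haveI : IsSimpleModule (A ⧸ m) (LocCoh.torsionBy m W) := Module.length_eq_one_iff.1 hrk
  obtain ⟨g, hg⟩ := InjHullLib.exists_embedding_pi hf htors 1 (isSimpleModule_iff_finrank_eq_one.1 ‹_›)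
  have hmem : ∀ w, g w 0 ∈ LocCoh.torsionBy a E := fun w => InjHullLib.mem_torsionBy_iff.2 fun c hc => by
    rw [← Pi.smul_apply, ← map_smul, hkill c hc w, map_zero, Pi.zero_apply]
  let g' : W →ₗ[A] LocCoh.torsionBy a E := (LinearMap.proj 0 ∘ₗ g).codRestrict _ hmem
  have hg' : Function.Injective g' := fun x y h => hg (funext fun j => by
    rw [Subsingleton.elim j 0]; exact congrArg Subtype.val h)
  have hlen : Module.length A (LocCoh.torsionBy a E) = Module.length A W := by
    rw [← (InjHullLib.homResidueEquiv E a).length_eq, InjHullLib.length_hom (m := m) hf hfl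
      (fun c hc x => by
        obtain ⟨z, rfl⟩ := Submodule.Quotient.mk_surjective _ x
        exact (Submodule.Quotient.mk_eq_zero _).2 (Ideal.mul_mem_right _ _ (hN₀ hc))),
      eW.length_eq, length_ext_finLen hω hn _ hfl]
  obtain ⟨_, _⟩ := isFiniteLength_iff_isNoetherian_isArtinian.1
    ((Module.length_ne_top_iff (M := LocCoh.torsionBy a E)).1 (by rw [hlen]; exact Module.length_ne_top_iff.2 hWfl))
  have htop : LinearMap.range g' = ⊤ := by_contra fun h => by
    have h1 := Submodule.length_lt h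
    rw [← (LinearEquiv.ofInjective g' hg').length_eq, hlen] at h1
    exact lt_irrefl _ h1
  exact ⟨eW.symm.trans (LinearEquiv.ofBijective g' ⟨hg', LinearMap.range_eq_top.1 htop⟩)⟩
where
  isFiniteLength_of_isNoetherian_isArtinian_quot {a m : Ideal A} (hle : a ≤ m) (hfl : IsFiniteLength A (A ⧸ a)) :
      IsFiniteLength A (A ⧸ m) := by
    obtain ⟨_, _⟩ := isFiniteLength_iff_isNoetherian_isArtinian.1 hfl
    exact isFiniteLength_iff_isNoetherian_isArtinian.2 ⟨inferInstance,
      isArtinian_of_surjective _ (Submodule.factor hle) (Submodule.factor_surjective hle)⟩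

theorem exists_pow_kill (N : Type u) [AddCommGroup N] [Module A N] (hN : IsFiniteLength A N) :
    ∃ k : ℕ, ∀ c ∈ IsLocalRing.maximalIdeal A ^ k, ∀ x : N, c • x = 0 := by
  induction hN with
  | of_subsingleton => exact ⟨0, fun c _ x => Subsingleton.elim _ _⟩
  | of_simple_quotient hK ih =>
    rename_i M _ _ K hs
    obtain ⟨k, hk⟩ := ih
    haveI := hs
    obtain ⟨J, hJ, ⟨e⟩⟩ := isSimpleModule_iff_quot_maximal.1 hs
    obtain rfl : J = IsLocalRing.maximalIdeal A := IsLocalRing.eq_maximalIdeal hJ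
    refine ⟨k + 1, fun c hc x => ?_⟩
    rw [pow_succ] at hc
    induction hc using Submodule.mul_induction_on' with
    | mem_mul_mem c hc d hd =>
      have h1 : e (Submodule.Quotient.mk (d • x)) = 0 := by
        rw [Submodule.Quotient.mk_smul, map_smul]
        obtain ⟨z, hz⟩ := Submodule.Quotient.mk_surjective _ (e (Submodule.Quotient.mk x))
        rw [← hz, ← Submodule.Quotient.mk_smul, Submodule.Quotient.mk_eq_zero]
        exact Ideal.mul_mem_right _ _ hd
      have h2 : d • x ∈ K := (Submodule.Quotient.mk_eq_zero K).1 (e.map_eq_zero_iff.1 h1)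
      rw [mul_smul]
      exact congrArg Subtype.val (hk c hc ⟨d • x, h2⟩)
    | add c _ d _ hc hd => rw [add_smul, hc, hd, add_zero]

/-- Finite length duality for a normalized dualizing complex. -/
theorem nonempty_ext_finLen (hω : Dual.IsDualizing A ω) (hn : Dual.IsNormalized A ω)
    (hf : InjHull.IsInjectiveHull f) (N : Type u) [AddCommGroup N] [Module A N] (hN : IsFiniteLength A N) :
    Nonempty ((Dual.inD A N ⟶ ω) ≃ₗ[A] (N →ₗ[A] E)) := by
  obtain ⟨k, hk⟩ := exists_pow_kill N hN
  let a := IsLocalRing.maximalIdeal A ^ (k + 1)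
  have hkill : ∀ c ∈ a, ∀ x : ModuleCat.of A N, c • x = 0 := fun c hc x =>
    hk c (Ideal.pow_le_pow_right (Nat.le_succ k) hc) x
  have hfl : IsFiniteLength A (A ⧸ a) := InjHullLib.isFiniteLength_quotient_pow (m := IsLocalRing.maximalIdeal A) (k + 1)
  obtain ⟨_, _⟩ := isFiniteLength_iff_isNoetherian_isArtinian.1 hN
  obtain ⟨e⟩ := nonempty_ext_quot_equiv hω hn hf a (Ideal.pow_le_self (Nat.succ_ne_zero k)) hfl
  have hvan : ∀ (N : ModuleCat.{u} A) [Module.Finite A N], (∀ r ∈ a, ∀ x : N, r • x = 0) →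
      Subsingleton (Ext ω N (0 - 1)) := fun N _ hN => by
    refine subsingleton_ext_finLen hn N ?_ _ (by omega)
    obtain ⟨_, _⟩ := isFiniteLength_iff_isNoetherian_isArtinian.1 hfl
    obtain ⟨r, π, hπ⟩ := Module.Finite.exists_fin' A N
    let q : (Fin r → A ⧸ a) →ₗ[A] (N : Type u) :=
      ∑ j, (Submodule.liftQ a (LinearMap.toSpanSingleton A N (π (Pi.single j 1))) fun c hc => hN c hc _) ∘ₗ LinearMap.proj j
    refine isFiniteLength_iff_isNoetherian_isArtinian.2 ⟨inferInstance, isArtinian_of_surjective _ q fun x => ?_⟩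
    obtain ⟨c, rfl⟩ := hπ x
    refine ⟨fun j => Submodule.Quotient.mk (c j), ?_⟩
    rw [pi_eq_sum_univ' c, map_sum]
    simp [q, LinearMap.sum_apply, Pi.single_apply]
    rfl
  let e1 : Ext ω (ModuleCat.of A N) 0 ≃ₗ[A] (N →ₗ[A] Ext ω (ModuleCat.of A (A ⧸ a)) 0) :=
    LinearEquiv.ofBijective (rep hkill) ⟨rep_injective hvan hkill, rep_surjective hvan hkill⟩
  let e2 : (N →ₗ[A] LocCoh.torsionBy a E) ≃ₗ[A] (N →ₗ[A] E) :=
    LinearEquiv.ofBijective ((LocCoh.torsionBy a E).subtype.compRight A)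
      ⟨fun u v h => LinearMap.ext fun x => Subtype.ext (LinearMap.congr_fun h x), fun φ =>
        ⟨φ.codRestrict _ fun x => InjHullLib.mem_torsionBy_iff.2 fun c hc => by
          rw [← map_smul, show c • x = 0 from hkill c hc x, map_zero], rfl⟩⟩
  exact ⟨(postcompL _ ((shiftFunctorZero (Dual.D A) ℤ).app ω)).symm.trans (e1.trans (e.congrRight.trans e2))⟩

/-- In dimension zero a normalized dualizing complex is the hull of the residue field. -/
theorem nonempty_iso_hull_of_artinian [IsArtinianRing A] (hω : Dual.IsDualizing A ω) (hn : Dual.IsNormalized A ω)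
    (hf : InjHull.IsInjectiveHull f) : Nonempty (ω ≅ Dual.inD A E) := by
  have hA : IsFiniteLength A A := isFiniteLength_iff_isNoetherian_isArtinian.2 ⟨inferInstance, inferInstance⟩
  have hz : ∀ i, i ≠ 0 → IsZero ((hH A i).obj ω) := fun i hi =>
    @ModuleCat.isZero_of_subsingleton _ _ _ ((extHL ω i).toEquiv.subsingleton_congr.1 (subsingleton_ext_finLen hn A hA i hi))
  haveI : ω.IsGE 0 := (DerivedCategory.isGE_iff ω 0).2 fun j hj => hz j hj.ne
  haveI : ω.IsLE 0 := (DerivedCategory.isLE_iff ω 0).2 fun j hj => hz j hj.ne'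
  obtain ⟨X, ⟨eX⟩⟩ := DerivedCategory.exists_iso_singleFunctor_obj_of_isGE_of_isLE ω 0
  obtain ⟨e⟩ := nonempty_ext_finLen hω hn hf A hA
  let e0 : (X : Type u) ≃ₗ[A] E :=
    ((((DTenLib.Point.sgH X 0).symm ≪≫ (hH A 0).mapIso eX.symm).toLinearEquiv.trans (extHL ω 0).symm).trans
      (postcompL _ ((shiftFunctorZero (Dual.D A) ℤ).app ω))).trans (e.trans (LinearMap.ringLmapEquivSelf A A E))
  exact ⟨eX ≪≫ (DerivedCategory.singleFunctor (ModuleCat.{u} A) 0).mapIso
    ((e0.toModuleIso : ModuleCat.of A X ≅ ModuleCat.of A E))⟩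

end Local

end Groth.Agent.DualCxLib
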