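import Groth.Agent.DualCxLib.DimFnLocal
import Groth.Agent.DualCxLib.FinLen
import Groth.Agent.LocCohLib.LocalCohomology
import Groth.Agent.LocCohLib.BaseChange
import Mathlib.Algebra.Category.ModuleCat.Ulift

/-!
# The delta functor `M ↦ Hom(Ext^{-i}(M, ω), E)`
-/

set_option autoImplicit false
set_option linter.style.haveILetI false
set_option linter.unusedSectionVars false

universe u

open CategoryTheory CategoryTheory.Limits
open CategoryTheory.Pretriangulated (Triangle)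
open Groth.Agent
open DTenLib.Point (hH sg)

attribute [local instance] HasDerivedCategory.standard

noncomputable section

namespace Groth.Agent.DualCxLib

variable {A : Type u} [CommRing A]

theorem exists_comp_of_exact {P Q S : Type (u + 1)} [AddCommGroup P] [Module A P] [AddCommGroup Q] [Module A Q]
    [AddCommGroup S] [Module A S] {E : Type u} [AddCommGroup E] [Module A E] (hE : Module.Baer A E)
    (a : P →ₗ[A] Q) (b : Q →ₗ[A] S) (hab : ∀ q, b q = 0 → ∃ p, a p = q) (φ : Q →ₗ[A] E) (hφ : φ ∘ₗ a = 0) :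
    ∃ ψ : S →ₗ[A] E, ψ ∘ₗ b = φ := by
  have hker : LinearMap.ker b ≤ LinearMap.ker φ := fun q hq => by
    obtain ⟨p, rfl⟩ := hab q hq
    exact LinearMap.congr_fun hφ p
  obtain ⟨ψ, hψ⟩ := hE.extension_property ((LinearMap.ker b).liftQ b le_rfl)
    (LinearMap.ker_eq_bot.1 (Submodule.ker_liftQ_eq_bot _ _ _ le_rfl)) ((LinearMap.ker b).liftQ φ hker)
  exact ⟨ψ, LinearMap.ext fun q => LinearMap.congr_fun hψ (Submodule.Quotient.mk q)⟩

/-- A normalized dualizing complex has injective amplitude at most zero. -/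
theorem subsingleton_ext_pos [IsLocalRing A] [IsNoetherianRing A] {ω : Dual.D A} (hω : Dual.IsDualizing A ω)
    (hn : Dual.IsNormalized A ω) (M : Type u) [AddCommGroup M] [Module A M] (i : ℤ) (hi : 0 < i) :
    Subsingleton (Ext ω (ModuleCat.of A M) i) := by
  obtain ⟨a, b, hab⟩ := hω.finite_injective_dimension
  exact ext_of_hasInjAmplitudeIn (hasInjAmplitudeIn_of_ext (a := a) (b := 0) fun I j hj =>
    hj.elim (fun h => hab (A ⧸ I) j (Or.inl h)) fun h => subsingleton_ext_of_pos hω hn (A ⧸ I) j h) M i (Or.inr hi)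

variable (ω : Dual.D A) {S : ShortComplex (ModuleCat.{u} A)} (hS : S.ShortExact)

/-- The connecting map `Ext^j(X₁, ω) → Ext^{j+1}(X₃, ω)`. -/
def conn (j i : ℤ) (h : j + 1 = i) : Ext ω S.X₁ j →ₗ[A] Ext ω S.X₃ i where
  toFun g := hS.singleδ ≫ g⟦(1 : ℤ)⟧' ≫ (shift₂ ω j 1 i h).hom
  map_add' g g' := by rw [Functor.map_add, Preadditive.add_comp, Preadditive.comp_add]
  map_smul' r g := by rw [Functor.map_smul, Linear.smul_comp, Linear.comp_smul, RingHom.id_apply]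

theorem extMap_conn {S' : ShortComplex (ModuleCat.{u} A)} (hS' : S'.ShortExact) (φ : S ⟶ S') (j i : ℤ)
    (h : j + 1 = i) (g : Ext ω S'.X₁ j) :
    conn ω hS j i h (extMap ω φ.τ₁ j g) = extMap ω φ.τ₃ i (conn ω hS' j i h g) := by
  have hc := (ShortComplex.ShortExact.singleTriangle.map hS hS' φ).comm₃
  show hS.singleδ ≫ ((DerivedCategory.singleFunctor (ModuleCat.{u} A) 0).map φ.τ₁ ≫ g)⟦(1 : ℤ)⟧' ≫ _ =
    (DerivedCategory.singleFunctor (ModuleCat.{u} A) 0).map φ.τ₃ ≫ hS'.singleδ ≫ _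
  rw [Functor.map_comp, Category.assoc]
  exact (reassoc_of% hc) _

theorem conn_extMap_f (j i : ℤ) (h : j + 1 = i) (g : Ext ω S.X₂ j) : conn ω hS j i h (extMap ω S.f j g) = 0 := by
  show hS.singleδ ≫ ((DerivedCategory.singleFunctor (ModuleCat.{u} A) 0).map S.f ≫ g)⟦(1 : ℤ)⟧' ≫ _ = 0
  rw [Functor.map_comp, Category.assoc]
  exact (reassoc_of% Pretriangulated.comp_distTriang_mor_zero₃₁ _ hS.singleTriangle_distinguished) _ |>.trans zero_comp

theorem extMap_g_conn (j i : ℤ) (h : j + 1 = i) (g : Ext ω S.X₁ j) : extMap ω S.g i (conn ω hS j i h g) = 0 :=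
  ((reassoc_of% Pretriangulated.comp_distTriang_mor_zero₂₃ _ hS.singleTriangle_distinguished) _).trans zero_comp

include hS in
theorem extMap_f_extMap_g (i : ℤ) (g : Ext ω S.X₃ i) : extMap ω S.f i (extMap ω S.g i g) = 0 :=
  ((reassoc_of% Pretriangulated.comp_distTriang_mor_zero₁₂ _ hS.singleTriangle_distinguished) _).trans zero_comp

/-- Maps out of a shift by one come from maps. -/
theorem exists_shift_eq (X : Dual.D A) (j i : ℤ) (h : j + 1 = i) (w : X⟦(1 : ℤ)⟧ ⟶ ω⟦i⟧) :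
    ∃ g : X ⟶ ω⟦j⟧, g⟦(1 : ℤ)⟧' ≫ (shift₂ ω j 1 i h).hom = w := by
  obtain ⟨g, hg⟩ := (shiftFunctor (Dual.D A) (1 : ℤ)).map_surjective (w ≫ (shift₂ ω j 1 i h).inv)
  exact ⟨g, by rw [hg, Category.assoc, Iso.inv_hom_id, Category.comp_id]⟩

theorem exists_conn_eq (j i : ℤ) (h : j + 1 = i) (g : Ext ω S.X₃ i) (hg : extMap ω S.g i g = 0) :
    ∃ w, conn ω hS j i h w = g := by
  obtain ⟨w, hw⟩ := Triangle.yoneda_exact₃ _ hS.singleTriangle_distinguished g hg
  obtain ⟨w', hw'⟩ := exists_shift_eq ω (hS.singleTriangle.obj₁) j i h w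
  refine ⟨w', ?_⟩
  show hS.singleδ ≫ w'⟦(1 : ℤ)⟧' ≫ (shift₂ ω j 1 i h).hom = g
  exact (congrArg (hS.singleδ ≫ ·) hw').trans hw.symm

theorem exists_extMap_f_eq (j i : ℤ) (h : j + 1 = i) (g : Ext ω S.X₁ j) (hg : conn ω hS j i h g = 0) :
    ∃ w, extMap ω S.f j w = g := by
  obtain ⟨w, hw⟩ := Triangle.yoneda_exact₃ _ (Pretriangulated.rot_of_distTriang _ hS.singleTriangle_distinguished)
    (g⟦(1 : ℤ)⟧' ≫ (shift₂ ω j 1 i h).hom) hg
  obtain ⟨w', hw'⟩ := exists_shift_eq ω (hS.singleTriangle.obj₂) j i h w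
  refine ⟨-w', (shiftFunctor (Dual.D A) (1 : ℤ)).map_injective ((cancel_mono (shift₂ ω j 1 i h).hom).1 ?_)⟩
  let s : sg S.X₁ 0 ⟶ sg S.X₂ 0 := (DerivedCategory.singleFunctor (ModuleCat.{u} A) 0).map S.f
  let v : sg S.X₂ 0 ⟶ ω⟦j⟧ := w'
  show (s ≫ (-v))⟦(1 : ℤ)⟧' ≫ (shift₂ ω j 1 i h).hom = _
  rw [Preadditive.comp_neg, Functor.map_neg, Functor.map_comp, Preadditive.neg_comp, Category.assoc,
    ← Preadditive.neg_comp]
  exact (congrArg (fun z => (-s⟦(1 : ℤ)⟧') ≫ z) hw').trans hw.symm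

variable (E : Type u) [AddCommGroup E] [Module A E]

/-- `M ↦ Hom(Ext^{-i}(M, ω), E)`. -/
def dualExt (i : ℕ) : ModuleCat.{u} A ⥤ ModuleCat.{u + 1} A where
  obj M := ModuleCat.of A (Ext ω M (-(i : ℤ)) →ₗ[A] E)
  map {M N} φ := ModuleCat.ofHom (LinearMap.lcomp A E (extMap ω φ (-(i : ℤ))))
  map_id M := ModuleCat.hom_ext (LinearMap.ext fun χ => LinearMap.ext fun g => congrArg χ (extMap_id ω _ g))
  map_comp φ ψ := ModuleCat.hom_ext (LinearMap.ext fun χ => LinearMap.ext fun g => congrArg χ (extMap_comp ω _ φ ψ g))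

/-- The connecting map. -/
def dualδ (i : ℕ) : (dualExt ω E i).obj S.X₃ ⟶ (dualExt ω E (i + 1)).obj S.X₁ :=
  ModuleCat.ofHom (LinearMap.lcomp A E (conn ω hS (-((i + 1 : ℕ) : ℤ)) (-(i : ℤ)) (by omega)))

/-- The delta functor `i ↦ Hom(Ext^{-i}(M, ω), E)`. -/
def dualDelta (hE : Module.Baer A E)
    (hpos : ∀ M : ModuleCat.{u} A, Subsingleton (Ext ω M 1)) :
    LocCohLib.DeltaFun (ModuleCat.{u} A) (ModuleCat.{u + 1} A) where
  F := dualExt ω E
  preservesZero i := ⟨fun M N => ModuleCat.hom_ext (LinearMap.ext fun (χ : Ext ω M (-(i : ℤ)) →ₗ[A] E) => LinearMap.ext fun g => by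
    show χ ((DerivedCategory.singleFunctor (ModuleCat.{u} A) 0).map 0 ≫ g) = 0
    rw [Functor.map_zero, zero_comp, map_zero])⟩
  δ hS i := dualδ ω hS E i
  δ_natural {S S'} hS hS' φ i := ModuleCat.hom_ext (LinearMap.ext fun (χ : Ext ω S.X₃ (-(i : ℤ)) →ₗ[A] E) =>
    LinearMap.ext fun g => congrArg χ (extMap_conn ω hS hS' φ (-((i + 1 : ℕ) : ℤ)) (-(i : ℤ)) (by omega) g))
  map_comp_δ {S} hS i := ModuleCat.hom_ext (LinearMap.ext fun (χ : Ext ω S.X₂ (-(i : ℤ)) →ₗ[A] E) =>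
    LinearMap.ext fun g => (congrArg χ (extMap_g_conn ω hS (-((i + 1 : ℕ) : ℤ)) (-(i : ℤ)) (by omega) g)).trans (map_zero χ))
  δ_comp_map {S} hS i := ModuleCat.hom_ext (LinearMap.ext fun (χ : Ext ω S.X₃ (-(i : ℤ)) →ₗ[A] E) =>
    LinearMap.ext fun g => (congrArg χ (conn_extMap_f ω hS (-((i + 1 : ℕ) : ℤ)) (-(i : ℤ)) (by omega) g)).trans (map_zero χ))
  exact₁ {S} hS i := (ShortComplex.moduleCat_exact_iff _).2 fun φ hφ =>
    exists_comp_of_exact hE _ _ (fun q hq => exists_extMap_f_eq ω hS (-((i + 1 : ℕ) : ℤ)) (-(i : ℤ)) (by omega) q hq) φ hφ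
  exact₂ {S} hS i := (ShortComplex.moduleCat_exact_iff _).2 fun φ hφ =>
    exists_comp_of_exact hE _ _ (fun q hq => (exists_of_extMap_f_eq_zero hS _ q hq).imp fun _ h => h.symm) φ hφ
  exact₃ {S} hS i := (ShortComplex.moduleCat_exact_iff _).2 fun φ hφ =>
    exists_comp_of_exact hE _ _ (fun q hq => exists_conn_eq ω hS (-((i + 1 : ℕ) : ℤ)) (-(i : ℤ)) (by omega) q hq) φ hφ
  mono₀ {S} hS := (ModuleCat.mono_iff_injective _).2 fun χ χ' h => LinearMap.ext fun g => by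
    obtain ⟨g', rfl⟩ := exists_extend hS (-((0 : ℕ) : ℤ)) (by simpa using hpos S.X₃) g
    exact LinearMap.congr_fun h g'

end Groth.Agent.DualCxLib
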