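import Groth.Agent.DualCxLib.Van
import Mathlib.RingTheory.Ideal.KrullsHeightTheorem
import Mathlib.RingTheory.KrullDimension.Basic

/-!
# The dimension function of a dualizing complex
-/

set_option autoImplicit false
set_option linter.style.haveILetI false
set_option linter.unusedSectionVars false

universe u

open CategoryTheory CategoryTheory.Limits
open Groth.Agent DTen DTenLib
open DTenLib.Point (hH sg kM)

attribute [local instance] HasDerivedCategory.standard

noncomputable section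

namespace Groth.Agent.DualCxLib

variable {A : Type u} [CommRing A] [IsNoetherianRing A] {ω : Dual.D A}

theorem Ext_finite (hω : Dual.IsDualizing A ω) (M : Type u) [AddCommGroup M] [Module A M]
    [Module.Finite A M] (i : ℤ) : IsNoetherian A (Ext ω (ModuleCat.of A M) i) := by
  obtain ⟨a, ha⟩ := isGE_dualizing hω
  exact isNoetherian_ext ha hω.finite_cohomology (ModuleCat.of A M) i

/-- A finite module whose `Ext` dies at `p` in all degrees dies at `p`. -/
theorem exists_killed_of_van (hω : Dual.IsDualizing A ω) (p : Ideal A) [p.IsPrime]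
    (M : Type u) [AddCommGroup M] [Module A M] [Module.Finite A M]
    (h : ∀ i, Van p (Ext ω (ModuleCat.of A M) i)) : ∃ s ∉ p, ∀ x : M, s • x = 0 := by
  classical
  obtain ⟨_, _, _, _⟩ := exists_binders A
  let k : Dual.D A := Dual.inD A M
  let X : Dual.D A := (RHomR A k).obj ω
  obtain ⟨B⟩ := nonempty_biduality hω (isPseudoCoherent'_inD (A := A) M)
  obtain ⟨a, ha⟩ := isGE_dualizing hω
  obtain ⟨a', b', hinj⟩ := hasFiniteInjDim_of_ext hω.finite_injective_dimension
  haveI h1 : X.IsGE (a - 0) :=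
    isGE_RHom (inferInstanceAs ((sg (ModuleCat.of A M) 0).IsLE 0)) ha
  haveI h2 : X.IsLE (b' - 0) :=
    isLE_RHom hinj (inferInstanceAs ((sg (ModuleCat.of A M) 0).IsGE 0))
  have key : ∀ i, ∃ s ∉ p, ∀ x : (hH A i).obj X, s • x = 0 := fun i => by
    obtain ⟨e⟩ := nonempty_tensor_shiftUnit k (-i)
    obtain ⟨v⟩ := nonempty_unit_shift_iso (A := A) i
    let E : (Dual.inD A M ⟶ ω⟦i⟧) ≃ₗ[A] (sg (ModuleCat.of A A) i ⟶ X) :=
      (shiftL k ω i).symm.trans ((precompL e.symm ω).trans ((homLEquiv _ k ω).trans (precompL v _)))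
    haveI := Ext_finite hω M i
    obtain ⟨s, hs, hsx⟩ := exists_killed_of_fg (h i)
    refine ⟨s, hs, fun x => ?_⟩
    obtain ⟨f, hf⟩ := DTenLib.Point.exists_evA_eq i x
    obtain ⟨g, rfl⟩ := E.surjective f
    have h0 : evGen X i (s • E g) = 0 := by rw [← map_smul, hsx g, map_zero, map_zero]
    rw [map_smul] at h0
    have hf' : evGen X i (E g) = x := hf
    rwa [hf'] at h0
  choose s hs hsx using key
  let T : A := ∏ i ∈ Finset.Icc (a - 0) (b' - 0), s i
  have hT : T ∉ p := fun hm => by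
    obtain ⟨i, -, hi⟩ := Ideal.IsPrime.prod_mem_iff.1 hm
    exact hs i hi
  have hn : DerLib.NilpTest.Nilp T X := by
    refine DTenLib.Point.nilp_of_killed ⟨a - 0, b' - 0, fun i hi => hi.elim
      (fun h => DerivedCategory.isZero_of_isGE X _ i h)
      (fun h => DerivedCategory.isZero_of_isLE X _ i h)⟩ T fun i x => ?_
    by_cases hi : i ∈ Finset.Icc (a - 0) (b' - 0)
    · obtain ⟨c, hc⟩ := Finset.dvd_prod_of_mem s hi
      show T • x = 0
      rw [show T = c * s i by rw [mul_comm]; exact hc, mul_smul, hsx, smul_zero]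
    · have hz : IsZero ((hH A i).obj X) := by
        simp only [Finset.mem_Icc, not_and_or, not_le] at hi
        exact hi.elim (fun h => DerivedCategory.isZero_of_isGE X _ i h)
          (fun h => DerivedCategory.isZero_of_isLE X _ i h)
      exact @Subsingleton.elim _ (ModuleCat.subsingleton_of_isZero hz) _ _
  obtain ⟨N, hN⟩ := hn
  let E₀ : (X ⟶ X) ≃ₗ[A] (k ⟶ k) :=
    (homLEquiv X k ω).symm.trans ((precompL (DTen.braiding k X) ω).trans
      ((homLEquiv k X ω).trans (postcompL k B)))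
  obtain ⟨g, hg⟩ := E₀.surjective (𝟙 k)
  have h0 : T ^ N • 𝟙 k = 0 := by
    rw [← hg, ← map_smul, ← Category.id_comp g, ← Linear.smul_comp, hN, zero_comp, map_zero]
  refine ⟨T ^ N, fun hm => hT (Ideal.IsPrime.mem_of_pow_mem inferInstance _ hm), fun x => ?_⟩
  have hM : T ^ N • 𝟙 (ModuleCat.of A M) = 0 :=
    (DerivedCategory.singleFunctor (ModuleCat.{u} A) 0).map_injective (by
      rw [Functor.map_smul, CategoryTheory.Functor.map_id, Functor.map_zero]
      exact h0)
  exact congrArg (fun f : ModuleCat.of A M ⟶ ModuleCat.of A M => f.hom x) hM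

theorem not_forall_van_prime (hω : Dual.IsDualizing A ω) (p : PrimeSpectrum A) :
    ∃ i, ¬ Van p.asIdeal (Ext ω (ModuleCat.of A (A ⧸ p.asIdeal)) i) := by
  by_contra! h
  obtain ⟨s, hs, hx⟩ := exists_killed_of_van hω p.asIdeal (A ⧸ p.asIdeal) h
  exact hs (by
    have h1 := hx (Submodule.Quotient.mk (1 : A))
    rwa [← Submodule.Quotient.mk_smul, Submodule.Quotient.mk_eq_zero, smul_eq_mul, mul_one] at h1)

theorem isSMulRegular_quot (p : PrimeSpectrum A) {x : A} (hx : x ∉ p.asIdeal) :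
    IsSMulRegular (A ⧸ p.asIdeal) x := by
  intro u v huv
  obtain ⟨u, rfl⟩ := Submodule.Quotient.mk_surjective _ u
  obtain ⟨v, rfl⟩ := Submodule.Quotient.mk_surjective _ v
  have h : (Submodule.Quotient.mk (x • u) : A ⧸ p.asIdeal) = Submodule.Quotient.mk (x • v) := huv
  rw [Submodule.Quotient.eq, ← smul_sub, smul_eq_mul] at h
  exact (Submodule.Quotient.eq _).2 ((p.isPrime.mem_or_mem h).resolve_left hx)

/-- `A/(q + x)` is supported above `q` and `x`. -/
theorem le_of_mem_support_mulSeq {q : PrimeSpectrum A} {x : A} {r : PrimeSpectrum A}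
    (hr : r ∈ Module.support A (mulSeq (ModuleCat.of A (A ⧸ q.asIdeal)) x).X₃) :
    q.asIdeal ⊔ Ideal.span {x} ≤ r.asIdeal := by
  haveI : Module.Finite A (mulSeq (ModuleCat.of A (A ⧸ q.asIdeal)) x).X₃ :=
    inferInstanceAs (Module.Finite A (_ ⧸ _))
  refine le_trans (sup_le (fun a ha => ?_) ((Ideal.span_singleton_le_iff_mem _).2 ?_))
    (Module.mem_support_iff_of_finite.1 hr)
  · refine Module.mem_annihilator.2 fun z => ?_
    obtain ⟨z, rfl⟩ := Submodule.Quotient.mk_surjective _ z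
    obtain ⟨y, rfl⟩ := Submodule.Quotient.mk_surjective _ z
    rw [← Submodule.Quotient.mk_smul, ← Submodule.Quotient.mk_smul,
      (Submodule.Quotient.mk_eq_zero q.asIdeal).2 (show a • y ∈ q.asIdeal from q.asIdeal.mul_mem_right y ha)]
    rfl
  · refine Module.mem_annihilator.2 fun z => ?_
    obtain ⟨z, rfl⟩ := Submodule.Quotient.mk_surjective _ z
    rw [← Submodule.Quotient.mk_smul, Submodule.Quotient.mk_eq_zero]
    exact ⟨z, rfl⟩

/-- Cutting `A/q` by an element of `p`. -/
theorem van_quot_of_cut (hω : Dual.IsDualizing A ω) {p q : PrimeSpectrum A} {x : A} (hxp : x ∈ p.asIdeal)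
    (hxq : x ∉ q.asIdeal) (i : ℤ)
    (h : ∀ r : PrimeSpectrum A, q.asIdeal ⊔ Ideal.span {x} ≤ r.asIdeal → r.asIdeal ≤ p.asIdeal →
      Van p.asIdeal (Ext ω (ModuleCat.of A (A ⧸ r.asIdeal)) (i + 1))) :
    Van p.asIdeal (Ext ω (ModuleCat.of A (A ⧸ q.asIdeal)) i) := by
  obtain ⟨a, ha⟩ := isGE_dualizing hω
  haveI : Module.Finite A (mulSeq (ModuleCat.of A (A ⧸ q.asIdeal)) x).X₃ :=
    inferInstanceAs (Module.Finite A (_ ⧸ _))
  exact van_ext_of_regular ha hω.finite_cohomology (M := ModuleCat.of A (A ⧸ q.asIdeal)) hxp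
    (isSMulRegular_quot q hxq) i
    (van_ext_of_primes (M := (mulSeq (ModuleCat.of A (A ⧸ q.asIdeal)) x).X₃) (i + 1)
      fun r hr hrp => h r (le_of_mem_support_mulSeq hr) hrp)

/-- `n` is the degree of `ω` at `p`. -/
def IsDeg (ω : Dual.D A) (p : PrimeSpectrum A) (n : ℤ) : Prop :=
  (∀ i, i ≠ n → Van p.asIdeal (Ext ω (ModuleCat.of A (A ⧸ p.asIdeal)) i)) ∧
    ¬ Van p.asIdeal (Ext ω (ModuleCat.of A (A ⧸ p.asIdeal)) n)

theorem isDeg_of_minimal_over (hω : Dual.IsDualizing A ω) {p q : PrimeSpectrum A} {x : A}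
    (hxp : x ∉ p.asIdeal) (hq : q.asIdeal ∈ (p.asIdeal ⊔ Ideal.span {x}).minimalPrimes) {n : ℤ}
    (hn : IsDeg ω q n) : IsDeg ω p (n - 1) := by
  have hpq : p.asIdeal ≤ q.asIdeal := le_sup_left.trans hq.1.2
  have hvan : ∀ i, i ≠ n - 1 → Van p.asIdeal (Ext ω (ModuleCat.of A (A ⧸ p.asIdeal)) i) := fun i hi => by
    refine Van.mono hpq (van_quot_of_cut hω (p := q) (hq.1.2 (Ideal.mem_sup_right
      (Ideal.mem_span_singleton_self x))) hxp i fun r hr hrq => ?_)
    obtain rfl : r = q := PrimeSpectrum.ext (le_antisymm hrq (hq.2 ⟨r.isPrime, hr⟩ hrq))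
    exact hn.1 (i + 1) (by omega)
  refine ⟨hvan, fun h => ?_⟩
  obtain ⟨i, hi⟩ := not_forall_van_prime hω p
  by_cases hi' : i = n - 1
  · exact hi (hi' ▸ h)
  · exact hi (hvan i hi')

/-- Primes of a Noetherian ring satisfy the ascending chain condition. -/
theorem wellFoundedGT_primeSpectrum : WellFoundedGT (PrimeSpectrum A) :=
  ⟨Subrelation.wf (fun {_ _} h => h) (InvImage.wf PrimeSpectrum.asIdeal
    (wellFounded_gt : WellFounded (α := Ideal A) (· > ·)))⟩

theorem exists_isDeg (hω : Dual.IsDualizing A ω) (p : PrimeSpectrum A) : ∃ n, IsDeg ω p n := by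
  haveI := wellFoundedGT_primeSpectrum (A := A)
  refine WellFoundedGT.induction (motive := fun p => ∃ n, IsDeg ω p n) p fun p ih => ?_
  by_cases hmax : p.asIdeal.IsMaximal
  · obtain ⟨n, hvan, ⟨e⟩⟩ := ext_residueField_single_degree ω hω p.asIdeal
    refine ⟨n, fun i hi => @van_of_subsingleton A _ p.asIdeal _ _ _ _ (hvan i hi), fun h => ?_⟩
    obtain ⟨s, hs, hx⟩ := h (e.symm (Submodule.Quotient.mk (1 : A)))
    have := congrArg e hx
    rw [map_smul, map_zero, e.apply_symm_apply, ← Submodule.Quotient.mk_smul,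
      Submodule.Quotient.mk_eq_zero, smul_eq_mul, mul_one] at this
    exact hs this
  · obtain ⟨m, hm, hpm⟩ := Ideal.exists_le_maximal p.asIdeal p.isPrime.ne_top
    have hlt : p.asIdeal < m := lt_of_le_of_ne hpm fun h => hmax (h ▸ hm)
    obtain ⟨x, hxm, hxp⟩ := Set.exists_of_ssubset hlt
    haveI := hm.isPrime
    obtain ⟨q, hq, -⟩ := Ideal.exists_minimalPrimes_le
      (show p.asIdeal ⊔ Ideal.span {x} ≤ m from sup_le hpm ((Ideal.span_singleton_le_iff_mem _).2 hxm))
    let Q : PrimeSpectrum A := ⟨q, hq.1.1⟩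
    have hQ : p < Q := lt_of_le_of_ne (le_sup_left.trans hq.1.2) fun h => hxp (by
      rw [h]
      exact hq.1.2 (Ideal.mem_sup_right (Ideal.mem_span_singleton_self x)))
    obtain ⟨n, hn⟩ := ih Q hQ
    exact ⟨n - 1, isDeg_of_minimal_over hω hxp (q := Q) hq hn⟩

/-- The degree of `ω` at a prime (the negative of the dimension function). -/
def deg (hω : Dual.IsDualizing A ω) (p : PrimeSpectrum A) : ℤ := (exists_isDeg hω p).choose

theorem isDeg_deg (hω : Dual.IsDualizing A ω) (p : PrimeSpectrum A) : IsDeg ω p (deg hω p) :=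
  (exists_isDeg hω p).choose_spec

theorem IsDeg.eq_deg (hω : Dual.IsDualizing A ω) {p : PrimeSpectrum A} {n : ℤ} (h : IsDeg ω p n) :
    n = deg hω p := by
  by_contra hne
  exact h.2 ((isDeg_deg hω p).1 n hne)

theorem deg_covBy (hω : Dual.IsDualizing A ω) {p q : PrimeSpectrum A} (h : p ⋖ q) :
    deg hω p = deg hω q - 1 := by
  obtain ⟨x, hxq, hxp⟩ := Set.exists_of_ssubset (show p.asIdeal < q.asIdeal from h.1)
  refine (IsDeg.eq_deg hω (isDeg_of_minimal_over hω hxp ⟨⟨q.isPrime, sup_le h.1.le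
    ((Ideal.span_singleton_le_iff_mem _).2 hxq)⟩, fun r hr hrq => ?_⟩ (isDeg_deg hω q))).symm
  by_contra hne
  refine h.2 (c := ⟨r, hr.1⟩) (lt_of_le_of_ne (le_sup_left.trans hr.2) fun he => hxp ?_)
    (lt_of_le_of_ne hrq fun he => hne (le_of_eq (congrArg PrimeSpectrum.asIdeal he).symm))
  rw [he]
  exact hr.2 (Ideal.mem_sup_right (Ideal.mem_span_singleton_self x))

theorem exists_cover_below (p q : PrimeSpectrum A) (h : p < q) :
    ∃ (x : A) (r : PrimeSpectrum A), x ∉ p.asIdeal ∧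
      r.asIdeal ∈ (p.asIdeal ⊔ Ideal.span {x}).minimalPrimes ∧ p < r ∧ r ≤ q := by
  obtain ⟨x, hxq, hxp⟩ := Set.exists_of_ssubset (show p.asIdeal < q.asIdeal from h)
  obtain ⟨r, hr, hrq⟩ := Ideal.exists_minimalPrimes_le
    (show p.asIdeal ⊔ Ideal.span {x} ≤ q.asIdeal from sup_le h.le ((Ideal.span_singleton_le_iff_mem _).2 hxq))
  refine ⟨x, ⟨r, hr.1.1⟩, hxp, hr, lt_of_le_of_ne (le_sup_left.trans hr.1.2) fun he => hxp ?_, hrq⟩
  rw [he]
  exact hr.1.2 (Ideal.mem_sup_right (Ideal.mem_span_singleton_self x))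

theorem deg_strictMono (hω : Dual.IsDualizing A ω) : StrictMono (deg hω) := by
  intro p q h
  haveI := wellFoundedGT_primeSpectrum (A := A)
  refine WellFoundedGT.induction (motive := fun p => ∀ q, p < q → deg hω p < deg hω q) p
    (fun p ih q h => ?_) q h
  obtain ⟨x, r, hxp, hr, hpr, hrq⟩ := exists_cover_below p q h
  have h1 := IsDeg.eq_deg hω (isDeg_of_minimal_over hω hxp hr (isDeg_deg hω r))
  rcases eq_or_lt_of_le hrq with rfl | hlt
  · omega
  · have := ih r hpr q hlt
    omega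

theorem exists_deg_bounds (hω : Dual.IsDualizing A ω) :
    ∃ a b : ℤ, ∀ p, a ≤ deg hω p ∧ deg hω p ≤ b := by
  obtain ⟨a, b, hab⟩ := hω.finite_injective_dimension
  refine ⟨a, b, fun p => ⟨?_, ?_⟩⟩ <;>
  · by_contra hlt
    exact (isDeg_deg hω p).2
      (@van_of_subsingleton A _ p.asIdeal _ _ _ _ (hab (A ⧸ p.asIdeal) _ (by omega)))

theorem ringKrullDim_lt_top (hω : Dual.IsDualizing A ω) : ringKrullDim A < ⊤ := by
  obtain ⟨a, b, hab⟩ := exists_deg_bounds hω
  refine lt_of_le_of_lt (b := (((b - a).toNat : ℕ∞) : WithBot ℕ∞)) (iSup_le fun l => ?_)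
    (WithBot.coe_lt_coe.2 (ENat.natCast_lt_top _))
  have hinc : ∀ i : Fin (l.length + 1), a + i.1 ≤ deg hω (l.toFun i) := fun i => by
    induction i using Fin.induction with
    | zero => simpa using (hab _).1
    | succ i ih =>
      have h := deg_strictMono hω (l.strictMono (Fin.castSucc_lt_succ (i := i)))
      simp only [Fin.val_succ, Fin.val_castSucc] at ih ⊢
      omega
  have h1 := hinc (Fin.last _)
  have h2 := (hab (l.toFun (Fin.last _))).2
  exact WithBot.coe_le_coe.2 (ENat.natCast_le_natCast.2 (by simp at h1; omega))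

/-- Vanishing above the degree. -/
theorem van_quot_of_gt (hω : Dual.IsDualizing A ω) (p q : PrimeSpectrum A) (hqp : q.asIdeal ≤ p.asIdeal)
    (i : ℤ) (hi : deg hω p < i) : Van p.asIdeal (Ext ω (ModuleCat.of A (A ⧸ q.asIdeal)) i) := by
  revert hqp i
  haveI := wellFoundedGT_primeSpectrum (A := A)
  refine WellFoundedGT.induction (motive := fun q => q.asIdeal ≤ p.asIdeal → ∀ i, deg hω p < i →
    Van p.asIdeal (Ext ω (ModuleCat.of A (A ⧸ q.asIdeal)) i)) q fun q ih hqp i hi => ?_
  rcases eq_or_lt_of_le (show q ≤ p from hqp) with rfl | hlt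
  · exact (isDeg_deg hω q).1 i (by omega)
  · obtain ⟨x, hxp, hxq⟩ := Set.exists_of_ssubset (show q.asIdeal < p.asIdeal from hlt)
    refine van_quot_of_cut hω hxp hxq i fun r hr hrp => ?_
    exact ih r (lt_of_le_of_ne (le_sup_left.trans hr) fun h => hxq (by
      rw [h]; exact hr (Ideal.mem_sup_right (Ideal.mem_span_singleton_self x)))) hrp (i + 1) (by omega)

/-- Vanishing below the degree. -/
theorem van_quot_of_lt (hω : Dual.IsDualizing A ω) (p q : PrimeSpectrum A) (hqp : q.asIdeal ≤ p.asIdeal)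
    (i : ℤ) (hi : i < deg hω q) : Van p.asIdeal (Ext ω (ModuleCat.of A (A ⧸ q.asIdeal)) i) := by
  revert hqp i
  haveI := wellFoundedGT_primeSpectrum (A := A)
  refine WellFoundedGT.induction (motive := fun q => q.asIdeal ≤ p.asIdeal → ∀ i, i < deg hω q →
    Van p.asIdeal (Ext ω (ModuleCat.of A (A ⧸ q.asIdeal)) i)) q fun q ih hqp i hi => ?_
  rcases eq_or_lt_of_le (show q ≤ p from hqp) with rfl | hlt
  · exact (isDeg_deg hω q).1 i (by omega)
  · obtain ⟨x, hxp, hxq⟩ := Set.exists_of_ssubset (show q.asIdeal < p.asIdeal from hlt)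
    refine van_quot_of_cut hω hxp hxq i fun r hr hrp => ?_
    have hqr : q < r := lt_of_le_of_ne (le_sup_left.trans hr) fun h => hxq (by
      rw [h]; exact hr (Ideal.mem_sup_right (Ideal.mem_span_singleton_self x)))
    exact ih r hqr hrp (i + 1) (by have := deg_strictMono hω hqr; omega)

variable {M : Type u} [AddCommGroup M] [Module A M] [Module.Finite A M]

theorem van_of_gt (hω : Dual.IsDualizing A ω) (p : PrimeSpectrum A) (i : ℤ) (hi : deg hω p < i) :
    Van p.asIdeal (Ext ω (ModuleCat.of A M) i) :=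
  van_ext_of_primes i fun q _ hqp => van_quot_of_gt hω p q hqp i hi

theorem van_of_lt (hω : Dual.IsDualizing A ω) (p : PrimeSpectrum A) (i : ℤ)
    (hi : ∀ q : PrimeSpectrum A, q ∈ Module.support A M → q ≤ p → i < deg hω q) :
    Van p.asIdeal (Ext ω (ModuleCat.of A M) i) :=
  van_ext_of_primes i fun q hq hqp => van_quot_of_lt hω p q hqp i (hi q hq hqp)

/-- At a minimal point of the support there is exactly one degree. -/
theorem not_van_iff_of_minimal (hω : Dual.IsDualizing A ω) (p : PrimeSpectrum A)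
    (hp : p ∈ Module.support A M) (hmin : ∀ q, q ∈ Module.support A M → q ≤ p → q = p) (i : ℤ) :
    ¬ Van p.asIdeal (Ext ω (ModuleCat.of A M) i) ↔ i = deg hω p := by
  refine ⟨fun h => by_contra fun hne => ?_, fun hi h => ?_⟩
  · rcases lt_or_gt_of_ne hne with hlt | hgt
    · exact h (van_of_lt hω p i fun q hq hqp => by rw [hmin q hq hqp]; exact hlt)
    · exact h (van_of_gt hω p i hgt)
  subst hi
  have hassoc : p.asIdeal ∈ associatedPrimes A M := by
    refine Module.associatedPrimes.minimalPrimes_annihilator_subset_associatedPrimes A M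
      ⟨⟨p.isPrime, Module.mem_support_iff_of_finite.1 hp⟩, fun q hq hqp => ?_⟩
    exact le_of_eq (congrArg PrimeSpectrum.asIdeal
      (hmin ⟨q, hq.1⟩ (Module.mem_support_iff_of_finite.2 hq.2) hqp)).symm
  obtain ⟨-, v, hv⟩ := isAssociatedPrime_iff.1 hassoc
  let f : (A ⧸ p.asIdeal) →ₗ[A] M := p.asIdeal.liftQ (LinearMap.toSpanSingleton A M v) fun a ha => by
    rw [hv, Submodule.mem_colon_singleton, Submodule.mem_bot] at ha
    exact ha
  have hf : Function.Injective f := by
    refine LinearMap.ker_eq_bot.1 (Submodule.ker_liftQ_eq_bot _ _ _ fun a ha => ?_)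
    rw [hv, Submodule.mem_colon_singleton, Submodule.mem_bot]
    exact ha
  refine (isDeg_deg hω p).2 (van_ext₁ (S := ShortComplex.mk
    (ModuleCat.ofHom f) (ModuleCat.ofHom (LinearMap.range f).mkQ)
    (ModuleCat.hom_ext (LinearMap.ext fun x => (Submodule.Quotient.mk_eq_zero _).2 ⟨x, rfl⟩)))
    { exact := (ShortComplex.moduleCat_exact_iff_range_eq_ker _).2 (Submodule.ker_mkQ _).symm
      mono_f := (ModuleCat.mono_iff_injective _).2 hf
      epi_g := (ModuleCat.epi_iff_surjective _).2 (Submodule.mkQ_surjective _) } _ h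
    (van_of_gt hω p _ (by omega)))

end Groth.Agent.DualCxLib
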