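import Groth.Agent.DualCxLib.LocUnit
import Groth.Agent.DRingLib.Rgamma

/-!
# Localization of dualizing complexes
-/

set_option autoImplicit false
set_option linter.style.haveILetI false
set_option linter.unusedSectionVars false

universe u

open CategoryTheory CategoryTheory.Limits HomologicalComplex
open Groth.Agent DTen
open DTenLib.Point (hH sg)

attribute [local instance] HasDerivedCategory.standard

noncomputable section

namespace Groth.Agent.DualCxLib

variable {A S : Type u} [CommRing A] [CommRing S]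

section Transport

variable {φ : A →+* S} {M : Submonoid A} {X X' : Dual.D A} {Z Z' : Dual.D S}
  {η : X ⟶ (DRing.restrictD φ).obj Z}

theorem IsUniv.comp_iso (h : IsUniv φ η) (e : X' ≅ X) (f : Z ≅ Z') :
    IsUniv φ (e.hom ≫ η ≫ (DRing.restrictD φ).map f.hom) := fun W => by
  let g₁ : (Z' ⟶ W) ≃ (Z ⟶ W) := (f.symm.homCongr (Iso.refl W))
  let g₂ : (X ⟶ (DRing.restrictD φ).obj W) ≃ (X' ⟶ (DRing.restrictD φ).obj W) :=
    (e.symm.homCongr (Iso.refl _))
  have : (fun k : Z' ⟶ W => (e.hom ≫ η ≫ (DRing.restrictD φ).map f.hom) ≫ (DRing.restrictD φ).map k) =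
      g₁.trans ((Equiv.ofBijective _ (h W)).trans g₂) := funext fun k => by
    simp [g₁, g₂]
  rw [this]
  exact Equiv.bijective _

theorem IsLocH.comp_iso (h : IsLocH φ M η) (e : X' ≅ X) (f : Z ≅ Z') :
    IsLocH φ M (e.hom ≫ η ≫ (DRing.restrictD φ).map f.hom) := fun i => by
  rw [Functor.map_comp, Functor.map_comp, ModuleCat.hom_comp, ModuleCat.hom_comp]
  haveI := h i
  haveI : IsLocalizedModule M
      (((hH A i).map ((DRing.restrictD φ).map f.hom)).hom.comp ((hH A i).map η).hom) :=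
    IsLocalizedModule.of_linearEquiv M _ ((hH A i).mapIso ((DRing.restrictD φ).mapIso f)).toLinearEquiv
  exact IsLocalizedModule.of_linearEquiv_right M _ ((hH A i).mapIso e).toLinearEquiv

end Transport

variable [Algebra A S] (M : Submonoid A) [IsLocalization M S]

local notation "φ" => algebraMap A S

include M in
theorem isUniv_γ (P : DRing.Cx A) : IsUniv φ (γ φ P) := fun W =>
  bijective_γ φ (fun _ s hs => by
    haveI : PreservesFiniteLimits (ModuleCat.extendScalars.{u, u, u} φ) :=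
      ModuleCat.preservesFiniteLimits_extendScalars_of_flat (flat_φ M)
    haveI := hs
    haveI : QuasiIso ((extCx φ).map s) := inferInstance
    infer_instance) W

theorem exists_loc_base [DRing.HasLBaseChange φ] (X : Dual.D A) :
    ∃ η : X ⟶ (DRing.restrictD φ).obj ((DRing.LBaseChange φ).obj X),
      IsUniv φ η ∧ IsLocH φ M η := by
  obtain ⟨P, hP, ⟨e⟩⟩ := DRingLib.exists_good_rep X
  let f : DerivedCategory.Q.obj ((extCx φ).obj P) ≅ (DRing.LBaseChange φ).obj X :=
    (DRingLib.lBaseChangeObjIso φ P hP.1).symm ≪≫ (DRing.LBaseChange φ).mapIso e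
  exact ⟨_, (isUniv_γ M P).comp_iso e.symm f, (isLocH_γ M P).comp_iso e.symm f⟩

theorem exists_loc_single (N : ModuleCat.{u} A) {N' : ModuleCat.{u} S}
    (h : (ModuleCat.extendScalars.{u, u, u} φ).obj N ≅ N') :
    ∃ η : (DerivedCategory.singleFunctor (ModuleCat.{u} A) 0).obj N ⟶
        (DRing.restrictD φ).obj ((DerivedCategory.singleFunctor (ModuleCat.{u} S) 0).obj N'),
      IsUniv φ η ∧ IsLocH φ M η := by
  let P : DRing.Cx A := (HomologicalComplex.single (ModuleCat.{u} A) (ComplexShape.up ℤ) 0).obj N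
  let e : (DerivedCategory.singleFunctor (ModuleCat.{u} A) 0).obj N ≅ DerivedCategory.Q.obj P :=
    (DerivedCategory.singleFunctorIsoCompQ (ModuleCat.{u} A) 0).app N
  let f : DerivedCategory.Q.obj ((extCx φ).obj P) ≅
      (DerivedCategory.singleFunctor (ModuleCat.{u} S) 0).obj N' :=
    DerivedCategory.Q.mapIso ((HomologicalComplex.singleMapHomologicalComplex
      (ModuleCat.extendScalars.{u, u, u} φ) (ComplexShape.up ℤ) 0).app N ≪≫
      (HomologicalComplex.single (ModuleCat.{u} S) (ComplexShape.up ℤ) 0).mapIso h) ≪≫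
      ((DerivedCategory.singleFunctorIsoCompQ (ModuleCat.{u} S) 0).app N').symm
  exact ⟨_, (isUniv_γ M P).comp_iso e f, (isLocH_γ M P).comp_iso e f⟩

include M in
/-- The base change of a cyclic module. -/
theorem nonempty_extend_quot (J : Ideal S) :
    Nonempty ((ModuleCat.extendScalars.{u, u, u} φ).obj (ModuleCat.of A (A ⧸ J.comap φ)) ≅
      ModuleCat.of S (S ⧸ J)) := by
  let I := J.comap φ
  let N := ModuleCat.of A (A ⧸ I)
  let q : A →+* S ⧸ J := (Ideal.Quotient.mk J).comp φ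
  let g : N ⟶ (ModuleCat.restrictScalars φ).obj (ModuleCat.of S (S ⧸ J)) := ModuleCat.ofHom
    (X := A ⧸ I) (Y := (ModuleCat.restrictScalars φ).obj (ModuleCat.of S (S ⧸ J)))
    { toFun := fun x => Ideal.quotientMap J φ le_rfl x
      map_add' := fun x y => map_add _ x y
      map_smul' := fun r x => by
        obtain ⟨y, rfl⟩ := Ideal.Quotient.mk_surjective x
        show Ideal.Quotient.mk J (φ (r * y)) = φ r • Ideal.Quotient.mk J (φ y)
        rw [map_mul, map_mul]
        rfl }
  let η := (ModuleCat.extendRestrictScalarsAdj.{u, u, u} φ).unit.app N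
  let h := ((ModuleCat.extendRestrictScalarsAdj.{u, u, u} φ).homEquiv N (ModuleCat.of S (S ⧸ J))).symm g
  have hg : ∀ n, h.hom (η.hom n) = g.hom n := fun n =>
    (((ModuleCat.extendRestrictScalarsAdj.{u, u, u} φ).homEquiv_unit _ _ h).symm.trans
      (Equiv.apply_symm_apply _ g)) ▸ rfl
  haveI hη : IsLocalizedModule M η.hom := isLocalizedModule_unit M N
  refine ⟨(LinearEquiv.ofBijective h.hom ⟨(injective_iff_map_eq_zero _).2 fun z hz => ?_,
    fun y => ?_⟩).toModuleIso⟩
  · obtain ⟨⟨n, m⟩, hm⟩ := IsLocalizedModule.surj M η.hom z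
    have h1 : g.hom n = 0 := by
      rw [← hg, ← hm]
      refine (map_smul h.hom (φ (m : A)) z).trans ?_
      rw [hz, smul_zero]
      rfl
    have h2 : n = 0 := by
      obtain ⟨a, rfl⟩ := Ideal.Quotient.mk_surjective n
      exact Ideal.Quotient.eq_zero_iff_mem.2 ((Ideal.Quotient.eq_zero_iff_mem (I := J) (a := φ a)).1 h1)
    exact IsLocalizedModule.smul_injective η.hom m
      (hm.trans ((congrArg η.hom h2).trans ((map_zero η.hom).trans (smul_zero m).symm)))
  · obtain ⟨s, rfl⟩ := Ideal.Quotient.mk_surjective y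
    obtain ⟨⟨a, m⟩, hm⟩ := IsLocalization.surj M s
    let z : (ModuleCat.extendScalars.{u, u, u} φ).obj N := η.hom (Ideal.Quotient.mk I a)
    refine ⟨(IsLocalization.mk' S 1 m : S) • z, ?_⟩
    refine (map_smul h.hom _ _).trans ?_
    rw [hg]
    show IsLocalization.mk' S 1 m • Ideal.Quotient.mk J (φ a) = _
    rw [← hm]
    show Ideal.Quotient.mk J (IsLocalization.mk' S 1 m * (s * φ m)) = _
    rw [mul_left_comm, IsLocalization.mk'_spec, map_one, mul_one]

variable [IsNoetherianRing A]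

section Hom

theorem subsingleton_hom_loc {X Y : Dual.D A} {Z W : Dual.D S} {η : X ⟶ (DRing.restrictD φ).obj Z}
    {ηW : Y ⟶ (DRing.restrictD φ).obj W} {c a : ℤ} {k : ℕ} (hη : IsUniv φ η) (hW : IsLocH φ M ηW) (hYge : Y.IsGE a)
    (hX : ∀ i, (i < c ∨ c + k ≤ i) → IsZero ((hH A i).obj X))
    (hXf : ∀ i, Module.Finite A ((hH A i).obj X)) (i : ℤ) (h : Subsingleton (X ⟶ Y⟦i⟧)) :
    Subsingleton (Z ⟶ W⟦i⟧) := by
  refine subsingleton_of_forall_eq 0 fun g => ?_
  haveI := DerivedCategory.TStructure.t.isGE_shift Y a i (a - i) (by omega)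
  obtain ⟨s, hs, f, hf⟩ := (hom_loc (isLocH_shift hW i) (a := a - i) inferInstance hX hXf).2
    (η ≫ (DRing.restrictD φ).map g)
  rw [Subsingleton.elim f 0, zero_comp] at hf
  have h1 : φ s • g = 0 := (hη _).1 (by
    show η ≫ _ = η ≫ _
    rw [restrictD_smul, Linear.comp_smul, hf, Functor.map_zero, comp_zero])
  exact (IsUnit.smul_eq_zero (IsLocalization.map_units S (⟨s, hs⟩ : M))).1 h1

theorem toEnd_bijective_loc {X : Dual.D A} {Z : Dual.D S} {c a : ℤ} {k : ℕ} {η : X ⟶ (DRing.restrictD φ).obj Z} (hη : IsUniv φ η) (hL : IsLocH φ M η)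
    (hXge : X.IsGE a) (hX : ∀ i, (i < c ∨ c + k ≤ i) → IsZero ((hH A i).obj X))
    (hXf : ∀ i, Module.Finite A ((hH A i).obj X))
    (hEnd : Function.Bijective fun r : A => r • 𝟙 X) :
    Function.Bijective fun r : S => r • 𝟙 Z := by
  have key : ∀ r : A, η ≫ (DRing.restrictD φ).map (φ r • 𝟙 Z) = (r • 𝟙 X) ≫ η := fun r => by
    rw [restrictD_smul_id, Linear.comp_smul, Category.comp_id, Linear.smul_comp, Category.id_comp]
  have inj : ∀ r : A, φ r • 𝟙 Z = 0 → φ r = 0 := fun r hr => by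
    have h1 : (r • 𝟙 X) ≫ η = 0 := by rw [← key, hr, Functor.map_zero, comp_zero]
    obtain ⟨s, hs, h2⟩ := (hom_loc hL hXge hX hXf).1 _ h1
    have h3 : s * r = 0 := hEnd.1 (by show (s * r) • 𝟙 X = (0 : A) • 𝟙 X; rw [mul_smul, h2, zero_smul])
    exact (IsUnit.mul_right_eq_zero (IsLocalization.map_units S (⟨s, hs⟩ : M))).1
      (by rw [← map_mul, h3, map_zero])
  refine ⟨fun x y hxy => ?_, fun g => ?_⟩
  · rw [← sub_eq_zero]
    obtain ⟨⟨r, s⟩, hr⟩ := IsLocalization.surj M (x - y)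
    have h1 : φ r • 𝟙 Z = 0 := by
      rw [← hr, mul_comm, mul_smul, sub_smul]
      exact (congrArg _ (sub_eq_zero.2 hxy)).trans (smul_zero _)
    rw [← hr] at h1
    have h2 := inj r (hr ▸ h1)
    exact (IsUnit.mul_left_eq_zero (IsLocalization.map_units S s)).1 (hr.trans h2)
  · obtain ⟨s, hs, f, hf⟩ := (hom_loc hL hXge hX hXf).2 (η ≫ (DRing.restrictD φ).map g)
    obtain ⟨r, rfl⟩ := hEnd.2 f
    have h1 : φ s • g = φ r • 𝟙 Z := (hη _).1 (by
      show η ≫ _ = η ≫ _
      rw [restrictD_smul, Linear.comp_smul, key, hf])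
    refine ⟨IsLocalization.mk' S r ⟨s, hs⟩, ?_⟩
    show IsLocalization.mk' S r ⟨s, hs⟩ • 𝟙 Z = g
    have h2 : IsLocalization.mk' S r (⟨s, hs⟩ : M) = IsLocalization.mk' S 1 (⟨s, hs⟩ : M) * φ r := by
      rw [IsLocalization.mk'_eq_mul_mk'_one, mul_comm]
    rw [h2, mul_smul, ← h1, ← mul_smul, IsLocalization.mk'_spec, map_one, one_smul]

theorem finite_HD_loc {X : Dual.D A} {Z : Dual.D S} {η : X ⟶ (DRing.restrictD φ).obj Z} (hL : IsLocH φ M η) (i : ℤ) (hXf : Module.Finite A ((hH A i).obj X)) :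
    Module.Finite S (Dual.HD S Z i) := by
  obtain ⟨e⟩ := DRingLib.exists_homology_iso_mapDerived (ModuleCat.restrictScalars.{u} φ) Z i
  letI : Module A (Dual.HD S Z i) := Module.compHom _ φ
  haveI : IsScalarTower A S (Dual.HD S Z i) := IsScalarTower.of_algebraMap_smul fun _ _ => rfl
  let e' : (hH A i).obj ((DRing.restrictD φ).obj Z) ≃ₗ[A] Dual.HD S Z i := e.toLinearEquiv
  haveI := hL i
  haveI : IsLocalizedModule M (e'.toLinearMap.comp ((hH A i).map η).hom) :=
    IsLocalizedModule.of_linearEquiv M _ e'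
  exact Module.Finite.of_isLocalizedModule M (e'.toLinearMap.comp ((hH A i).map η).hom)

end Hom

/-- Localization preserves dualizing complexes. -/
theorem isDualizing_loc {ω : Dual.D A} (hω : Dual.IsDualizing A ω) {Z : Dual.D S}
    {η : ω ⟶ (DRing.restrictD φ).obj Z} (hη : IsUniv φ η) (hL : IsLocH φ M η) :
    Dual.IsDualizing S Z := by
  haveI : IsNoetherianRing S := IsLocalization.isNoetherianRing M S inferInstance
  obtain ⟨a, b, hab⟩ := hω.finite_injective_dimension
  obtain ⟨a', ha'⟩ := isGE_dualizing hω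
  have hX : ∀ i, (i < a ∨ a + ((b + 1 - a).toNat : ℤ) ≤ i) → IsZero ((hH A i).obj ω) := fun i hi =>
    isZero_of_ext_ring i (hab _ i (by omega))
  refine ⟨inferInstance, ⟨a, b, fun N _ _ i hi => ext_of_hasInjAmplitudeIn
    (hasInjAmplitudeIn_of_ext fun J j hj => ?_) N i hi⟩,
    fun i => finite_HD_loc M hL i (hω.finite_cohomology i),
    toEnd_bijective_loc M hη hL ha' hX hω.finite_cohomology hω.toEnd_bijective,
    fun i hi => subsingleton_hom_loc M hη hL ha' hX hω.finite_cohomology i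
      (hω.ext_self_subsingleton i hi)⟩
  obtain ⟨h⟩ := nonempty_extend_quot M J
  obtain ⟨ηN, hN, -⟩ := exists_loc_single M (ModuleCat.of A (A ⧸ J.comap φ)) h
  refine subsingleton_hom_loc M hN hL ha' (c := 0) (k := 1) (fun l hl => ?_) (fun l => ?_) j (hab _ j hj)
  · exact DTenLib.Point.isZero_sg (show l ≠ 0 by omega)
  · rcases eq_or_ne l 0 with rfl | hl
    · exact Module.Finite.equiv (DTenLib.Point.sgH (ModuleCat.of A (A ⧸ J.comap φ)) 0).toLinearEquiv.symm
    · haveI := ModuleCat.subsingleton_of_isZero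
        (DTenLib.Point.isZero_sg (N := ModuleCat.of A (A ⧸ J.comap φ)) hl)
      infer_instance

end Groth.Agent.DualCxLib
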