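import Groth.Agent.DualCxLib.TopExt
import Groth.Agent.DepthLib.FibDepth

/-!
# Finite length of local cohomology
-/

set_option autoImplicit false
set_option linter.style.haveILetI false

universe u

open CategoryTheory IsLocalRing
open Groth.Agent
open scoped TensorProduct

attribute [local instance] HasDerivedCategory.standard

noncomputable section

namespace Groth.Agent.DualCxLib

section Depth

variable {S A : Type u} [CommRing S] [CommRing A] [Algebra S A] [IsNoetherianRing S]

theorem depth_localized_restrict (hs : Function.Surjective (algebraMap S A)) (p : PrimeSpectrum A)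
    (M : Type u) [AddCommGroup M] [Module A M] [Module S M] [IsScalarTower S A M] [Module.Finite A M] :
    LocCoh.depth (Localization.AtPrime (p.asIdeal.comap (algebraMap S A)))
        (LocalizedModule (p.asIdeal.comap (algebraMap S A)).primeCompl M) =
      LocCoh.depth (Localization.AtPrime p.asIdeal) (LocalizedModule p.asIdeal.primeCompl M) := by
  let p' := p.asIdeal.comap (algebraMap S A)
  let g : Localization.AtPrime p' →ₐ[S] Localization.AtPrime p.asIdeal :=
    { Localization.localRingHom p' p.asIdeal (algebraMap S A) rfl with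
      commutes' := fun s => by
        show Localization.localRingHom p' p.asIdeal (algebraMap S A) rfl (algebraMap S _ s) = _
        rw [Localization.localRingHom_to_map]
        rfl }
  have hg : Function.Surjective g := fun z => by
    obtain ⟨⟨a, t⟩, rfl⟩ := IsLocalization.mk'_surjective p.asIdeal.primeCompl z
    obtain ⟨s, rfl⟩ := hs a
    obtain ⟨u, hu⟩ := hs t.1
    refine ⟨IsLocalization.mk' _ s (⟨u, fun h => t.2 (hu ▸ h)⟩ : p'.primeCompl), ?_⟩
    show Localization.localRingHom p' p.asIdeal (algebraMap S A) rfl (IsLocalization.mk' _ s _) = _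
    rw [Localization.localRingHom_mk']
    exact congrArg (IsLocalization.mk' _ (algebraMap S A s)) (Subtype.ext hu)
  have hker : RingHom.ker g.toRingHom ≤ (RingHom.ker (algebraMap S A)).map (algebraMap S (Localization.AtPrime p')) := by
    intro z hz
    obtain ⟨⟨s, t⟩, rfl⟩ := IsLocalization.mk'_surjective p'.primeCompl z
    rw [RingHom.mem_ker] at hz
    change Localization.localRingHom p' p.asIdeal (algebraMap S A) rfl (IsLocalization.mk' _ s t) = 0 at hz
    rw [Localization.localRingHom_mk', IsLocalization.mk'_eq_zero_iff] at hz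
    obtain ⟨v, hv⟩ := hz
    obtain ⟨w, hw⟩ := hs v.1
    have hws : w * s ∈ RingHom.ker (algebraMap S A) := by
      rw [RingHom.mem_ker, map_mul, hw]
      exact hv
    have hwp : w ∈ p'.primeCompl := fun h => v.2 (hw ▸ h)
    show IsLocalization.mk' (Localization.AtPrime p') s t ∈ _
    rw [show IsLocalization.mk' (Localization.AtPrime p') s t =
        algebraMap S _ (w * s) * IsLocalization.mk' _ 1 ((⟨w, hwp⟩ : p'.primeCompl) * t) by
      rw [IsLocalization.mul_mk'_eq_mk'_of_mul, mul_one, IsLocalization.mk'_eq_iff_eq]
      simp only [Submonoid.coe_mul]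
      ring_nf]
    exact Ideal.mul_mem_right _ _ (Ideal.mem_map_of_mem _ hws)
  haveI : IsNoetherianRing (Localization.AtPrime p') := IsLocalization.isNoetherianRing p'.primeCompl _ ‹_›
  rw [← CommAlgDim.depth_congr (LocalizedModule.equivTensorProduct p.asIdeal.primeCompl M).symm,
    ← CommAlgDim.depth_congr (LocalizedModule.equivTensorProduct p'.primeCompl M).symm]
  exact (DepthLib.depth_baseChange_of_surjective hs (Localization.AtPrime p') (Localization.AtPrime p.asIdeal)
    g hg hker M).symm

end Depth

theorem isFiniteLength_dual_iff {A : Type u} [CommRing A] [IsLocalRing A] [IsNoetherianRing A] {E : Type u}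
    [AddCommGroup E] [Module A E] {f : ResidueField A →ₗ[A] E} (hf : InjHull.IsInjectiveHull f)
    (W : Type u) [AddCommGroup W] [Module A W] [Module.Finite A W] :
    IsFiniteLength A (W →ₗ[A] E) ↔ ∀ q ∈ Module.support A W, q.asIdeal = maximalIdeal A := by
  constructor
  · intro h q hq
    obtain ⟨k, hk⟩ := exists_pow_kill _ h
    have hann : maximalIdeal A ^ k ≤ Module.annihilator A W := by
      rw [InjHullLib.annihilator_dual hf]
      exact fun c hc => Module.mem_annihilator.2 (hk c hc)
    haveI := q.isPrime
    refine le_antisymm (le_maximalIdeal q.isPrime.ne_top) fun x hx => ?_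
    exact q.isPrime.mem_of_pow_mem k (Module.mem_support_iff_of_finite.1 hq (hann (Ideal.pow_mem_pow hx k)))
  · intro h
    obtain ⟨k, hk⟩ : ∃ k, maximalIdeal A ^ k ≤ Module.annihilator A W := by
      refine Ideal.exists_pow_le_of_le_radical_of_fg ?_ (IsNoetherian.noetherian _)
      rw [Ideal.radical_eq_sInf]
      refine le_sInf fun q ⟨hq, hqp⟩ => ?_
      exact le_of_eq (h ⟨q, hqp⟩ (Module.mem_support_iff_of_finite.2 hq)).symm
    have hk' : ∀ c ∈ maximalIdeal A ^ k, ∀ x : W, c • x = 0 := fun c hc x => Module.mem_annihilator.1 (hk hc) x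
    have hfl := isFiniteLength_of_pow_kill W hk'
    exact Module.length_ne_top_iff.1 (by
      rw [InjHullLib.length_hom (m := maximalIdeal A) hf hfl hk']
      exact Module.length_ne_top_iff.2 hfl)

theorem finiteLength_below_iff {S A : Type u} [CommRing S] [IsRegularLocalRing S] [CommRing A] [IsLocalRing A]
    [IsNoetherianRing A] [Algebra S A] (hs : Function.Surjective (algebraMap S A))
    (M : Type u) [AddCommGroup M] [Module A M] [Module.Finite A M] (n : ℕ) :
    (∀ i : ℕ, i ≤ n → IsFiniteLength A (LocCoh.H (maximalIdeal A) i M)) ↔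
      ∀ p : PrimeSpectrum A, p.asIdeal ≠ maximalIdeal A → ∀ e : ℕ, ringKrullDim (A ⧸ p.asIdeal) = e →
        (n : ℕ∞) < LocCoh.depth (Localization.AtPrime p.asIdeal) (LocalizedModule p.asIdeal.primeCompl M) + e := by
  haveI := gorenstein_of_regular S
  obtain ⟨ω, hω, hnorm⟩ := exists_normalized_of_gorenstein (S := S)
  letI : Module S M := Module.compHom M (algebraMap S A)
  haveI : IsScalarTower S A M := IsScalarTower.of_algebraMap_smul fun _ _ => rfl
  haveI : Module.Finite S A := Module.Finite.of_surjective (Algebra.linearMap S A) hs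
  haveI : Module.Finite S M := Module.Finite.trans A M
  obtain ⟨E, _, _, f, hf⟩ := InjHullLib.exists_injectiveHull (R := A) (ResidueField A)
  have key : ∀ i : ℕ, IsFiniteLength A (LocCoh.H (maximalIdeal A) i M) ↔ ∀ p : PrimeSpectrum A,
      (⟨p.asIdeal.comap (algebraMap S A), inferInstance⟩ : PrimeSpectrum S) ∈
        Module.support S (Dual.inD S M ⟶ ω⟦(-(i : ℤ))⟧) → p.asIdeal = maximalIdeal A := by
    intro i
    obtain ⟨W, _, _, _, _, _, ⟨e⟩, ⟨d⟩⟩ := exists_dual_model (S := S) (R := A) hs hω hnorm hf M i
    haveI : Module.Finite S W := Module.Finite.trans A W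
    rw [← Module.length_ne_top_iff, ← d.length_eq, Module.length_ne_top_iff, isFiniteLength_dual_iff hf W]
    refine forall_congr' fun p => imp_congr_left ?_
    rw [← LinearEquiv.support_eq e, Module.mem_support_iff_of_finite, Module.mem_support_iff_of_finite,
      annihilator_restrict (S := S) (R := A)]
    exact ⟨fun h => Ideal.comap_mono h, fun h x hx => by
      obtain ⟨s, rfl⟩ := hs x
      exact h hx⟩
  constructor
  · intro h p hp e he
    refine not_le.1 fun hle => ?_
    have hle' : ((LocCoh.depth (Localization.AtPrime p.asIdeal) (LocalizedModule p.asIdeal.primeCompl M) : ℕ∞) :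
        WithBot ℕ∞) + ringKrullDim (A ⧸ p.asIdeal) ≤ (n : WithBot ℕ∞) := by
      rw [he]
      exact WithBot.coe_le_coe.2 hle
    rw [← depth_localized_restrict (S := S) hs p M, ← ringKrullDim_quotient_comap (S := S) hs] at hle'
    obtain ⟨j, hj, hsupp⟩ := (support_ext_iff_depth_add_dim hω hnorm M n
      ⟨p.asIdeal.comap (algebraMap S A), inferInstance⟩).2 hle'
    exact hp ((key j).1 (h j hj) p hsupp)
  · intro h i hi
    rw [key i]
    intro p hsupp
    by_contra hp
    obtain ⟨e, he⟩ : ∃ e : ℕ, ringKrullDim (A ⧸ p.asIdeal) = e := by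
      rw [← ringKrullDim_quotient_comap (S := S) hs]
      exact ⟨_, ringKrullDim_quotient_eq hω ⟨p.asIdeal.comap (algebraMap S A), inferInstance⟩⟩
    have hle := (support_ext_iff_depth_add_dim hω hnorm M n
      ⟨p.asIdeal.comap (algebraMap S A), inferInstance⟩).1 ⟨i, hi, hsupp⟩
    rw [depth_localized_restrict (S := S) hs p M, ringKrullDim_quotient_comap (S := S) hs, he] at hle
    exact absurd (WithBot.coe_le_coe.1 hle) (not_le.2 (h p hp e he))

end Groth.Agent.DualCxLib
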