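import Groth.Agent.DualCxLib.LocDual
import Groth.Agent.DualCxLib.Uniq

/-!
# Being dualizing is local
-/

set_option autoImplicit false
set_option linter.style.haveILetI false
set_option linter.unusedSectionVars false

universe u

open CategoryTheory CategoryTheory.Limits
open Groth.Agent DTen
open DTenLib.Point (hH sg)

attribute [local instance] HasDerivedCategory.standard

noncomputable section

namespace Groth.Agent.DualCxLib

variable {A : Type u} [CommRing A]

/-- The multiplicative sets detect zero. -/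
def Covers {ι : Type*} (M : ι → Submonoid A) : Prop :=
  ∀ m : Ideal A, m.IsMaximal → ∃ k, ∀ s ∈ M k, s ∉ m

theorem Covers.subsingleton {ι : Type*} {M : ι → Submonoid A} (hM : Covers M) {V : Type*} [AddCommGroup V]
    [Module A V] (h : ∀ k, Tor (M k) V) : Subsingleton V :=
  subsingleton_of_forall_eq 0 fun x => by
    let I : Ideal A := LinearMap.ker (LinearMap.toSpanSingleton A V x)
    by_contra hx
    have hI : I ≠ ⊤ := fun hI => hx (by
      have h1 : (1 : A) ∈ I := hI ▸ Submodule.mem_top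
      simpa [I] using h1)
    obtain ⟨m, hm, hle⟩ := Ideal.exists_le_maximal I hI
    obtain ⟨k, hk⟩ := hM m hm
    obtain ⟨s, hs, hsx⟩ := h k x
    exact hk s hs (hle (by simpa [I] using hsx))

theorem covers_atPrime : Covers fun p : PrimeSpectrum A => p.asIdeal.primeCompl :=
  fun m hm => ⟨⟨m, hm.isPrime⟩, fun _ hs => hs⟩

theorem covers_atMaximal : Covers fun m : {m : Ideal A // m.IsMaximal} =>
    (haveI := m.2.isPrime; m.1.primeCompl) :=
  fun m hm => ⟨⟨m, hm⟩, fun _ hs => hs⟩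

theorem covers_away {ι : Type*} (f : ι → A) (hf : Ideal.span (Set.range f) = ⊤) :
    Covers fun k => Submonoid.powers (f k) := fun m hm => by
  obtain ⟨k, hk⟩ : ∃ k, f k ∉ m := by
    by_contra! h
    exact hm.ne_top (top_le_iff.1 (hf ▸ Ideal.span_le.2 (Set.range_subset_iff.2 h)))
  exact ⟨k, fun s ⟨n, hn⟩ hs => hk (hm.isPrime.mem_of_pow_mem n (by rw [← hn] at hs; exact hs))⟩

section One

variable {S : Type u} [CommRing S] [Algebra A S] (M : Submonoid A) [IsLocalization M S] [IsNoetherianRing A]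

local notation "φ" => algebraMap A S

theorem tor_HD_of_isZero {X : Dual.D A} {Z : Dual.D S} {η : X ⟶ (DRing.restrictD φ).obj Z}
    (hL : IsLocH φ M η) (i : ℤ) (h : IsZero ((hH S i).obj Z)) : Tor M (Dual.HD A X i) := fun x => by
  obtain ⟨e⟩ := DRingLib.exists_homology_iso_mapDerived (ModuleCat.restrictScalars.{u} φ) Z i
  haveI := ModuleCat.subsingleton_of_isZero (((ModuleCat.restrictScalars.{u} φ).map_isZero h).of_iso e)
  haveI := hL i
  obtain ⟨s, hs⟩ := (IsLocalizedModule.eq_zero_iff M ((hH A i).map η).hom (m := x)).1 (Subsingleton.elim _ _)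
  exact ⟨s, s.2, hs⟩

theorem not_tor_HD {X : Dual.D A} {Z : Dual.D S} {η : X ⟶ (DRing.restrictD φ).obj Z}
    (hL : IsLocH φ M η) (i : ℤ) (h : Tor M (Dual.HD A X i)) : IsZero ((hH S i).obj Z) := by
  obtain ⟨e⟩ := DRingLib.exists_homology_iso_mapDerived (ModuleCat.restrictScalars.{u} φ) Z i
  haveI := hL i
  haveI : Subsingleton ((hH A i).obj ((DRing.restrictD φ).obj Z)) := subsingleton_of_forall_eq 0 fun y => by
    obtain ⟨⟨m, s⟩, hs⟩ := IsLocalizedModule.surj M ((hH A i).map η).hom y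
    obtain ⟨t, ht, htm⟩ := h m
    refine IsLocalizedModule.smul_injective ((hH A i).map η).hom ((⟨t, ht⟩ : M) * s) ?_
    show ((⟨t, ht⟩ : M) * s) • y = ((⟨t, ht⟩ : M) * s) • (0 : (hH A i).obj ((DRing.restrictD φ).obj Z))
    rw [mul_smul, hs, smul_zero, Submonoid.mk_smul, ← map_smul, htm, map_zero]
  haveI : Subsingleton ((hH S i).obj Z) := (e.toLinearEquiv.toEquiv.symm).subsingleton
  exact ModuleCat.isZero_of_subsingleton _

theorem tor_hom_loc {X Y : Dual.D A} {Z W : Dual.D S} {η : X ⟶ (DRing.restrictD φ).obj Z}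
    {ηW : Y ⟶ (DRing.restrictD φ).obj W} {c a : ℤ} {k : ℕ} (hη : IsUniv φ η) (hW : IsLocH φ M ηW)
    (hYge : Y.IsGE a) (hX : ∀ i, (i < c ∨ c + k ≤ i) → IsZero ((hH A i).obj X))
    (hXf : ∀ i, Module.Finite A ((hH A i).obj X)) (i : ℤ) (h : Subsingleton (Z ⟶ W⟦i⟧)) :
    Tor M (X ⟶ Y⟦i⟧) := fun f => by
  haveI := DerivedCategory.TStructure.t.isGE_shift Y a i (a - i) (by omega)
  obtain ⟨g, hg⟩ := (hη _).2 (f ≫ ηW⟦i⟧' ≫ ((DRing.restrictD φ).commShiftIso i).inv.app W)
  refine (hom_loc (isLocH_shift hW i) (a := a - i) inferInstance hX hXf).1 f ?_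
  rw [← hg, Subsingleton.elim g 0]
  show η ≫ _ = 0
  rw [Functor.map_zero, comp_zero]

theorem exists_smul_eq_of_loc {X : Dual.D A} {Z : Dual.D S} {η : X ⟶ (DRing.restrictD φ).obj Z}
    {c a : ℤ} {k : ℕ} (hη : IsUniv φ η) (hL : IsLocH φ M η)
    (hXge : X.IsGE a) (hX : ∀ i, (i < c ∨ c + k ≤ i) → IsZero ((hH A i).obj X))
    (hXf : ∀ i, Module.Finite A ((hH A i).obj X)) (hEnd : Function.Bijective fun r : S => r • 𝟙 Z) :
    (∀ r : A, r • 𝟙 X = 0 → ∃ s ∈ M, s * r = 0) ∧ ∀ g : X ⟶ X, ∃ s ∈ M, ∃ r : A, s • g = r • 𝟙 X := by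
  have key : ∀ r : A, η ≫ (DRing.restrictD φ).map (φ r • 𝟙 Z) = (r • 𝟙 X) ≫ η := fun r => by
    rw [restrictD_smul_id, Linear.comp_smul, Category.comp_id, Linear.smul_comp, Category.id_comp]
  refine ⟨fun r hr => ?_, fun g => ?_⟩
  · have h1 : φ r • 𝟙 Z = 0 := (hη _).1 (by
      show η ≫ _ = η ≫ _
      rw [key, hr, zero_comp, Functor.map_zero, comp_zero])
    have h2 : φ r = 0 := hEnd.1 (h1.trans (zero_smul S _).symm)
    obtain ⟨s, hs⟩ := (IsLocalization.map_eq_zero_iff M S r).1 h2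
    exact ⟨s, s.2, hs⟩
  · obtain ⟨g', hg'⟩ := (hη _).2 (g ≫ η)
    obtain ⟨x, hx⟩ := hEnd.2 g'
    obtain ⟨⟨r, s⟩, hr⟩ := IsLocalization.surj M x
    have h1 : ((s : A) • g - r • 𝟙 X) ≫ η = 0 := by
      have h2 : (s : A) • (η ≫ (DRing.restrictD φ).map g') = η ≫ (DRing.restrictD φ).map (φ r • 𝟙 Z) := by
        rw [← Linear.comp_smul, ← restrictD_smul]
        refine congrArg (fun z => η ≫ (DRing.restrictD φ).map z) ?_
        rw [← hr, ← hx]
        show φ (s : A) • x • 𝟙 Z = _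
        rw [← mul_smul, mul_comm]
      rw [Preadditive.sub_comp, sub_eq_zero, Linear.smul_comp, ← key, ← h2]
      exact congrArg _ hg'.symm
    obtain ⟨t, ht, h3⟩ := (hom_loc hL hXge hX hXf).1 _ h1
    exact ⟨t * s, M.mul_mem ht s.2, t * r, by rwa [smul_sub, sub_eq_zero, ← mul_smul, ← mul_smul] at h3⟩

end One

section Global

variable [IsNoetherianRing A] {ι : Type*} {S : ι → Type u} [∀ k, CommRing (S k)] [∀ k, Algebra A (S k)]
  {M : ι → Submonoid A} [∀ k, IsLocalization (M k) (S k)] {R : Dual.D A} {Z : ∀ k, Dual.D (S k)}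
  {η : ∀ k, R ⟶ (DRing.restrictD (algebraMap A (S k))).obj (Z k)}

/-- Bounds on the `Ext` groups from local bounds. -/
theorem ext_bounds_of_local (hM : Covers M) (hL : ∀ k, IsLocH (algebraMap A (S k)) (M k) (η k))
    {a₀ : ℤ} (hge : R.IsGE a₀) (i : ℤ)
    (h : ∀ k (N : Type u) [AddCommGroup N] [Module (S k) N], Subsingleton (Dual.inD (S k) N ⟶ (Z k)⟦i⟧))
    (N : Type u) [AddCommGroup N] [Module A N] [Module.Finite A N] :
    Subsingleton (Dual.inD A N ⟶ R⟦i⟧) := by
  refine hM.subsingleton fun k => ?_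
  obtain ⟨ηN, hN, -⟩ := exists_loc_single (S := S k) (M k) (ModuleCat.of A N) (Iso.refl _)
  refine tor_hom_loc (M k) hN (hL k) hge (c := 0) (k := 1) (fun l hl => ?_) (fun l => ?_) i
    (h k ((ModuleCat.extendScalars.{u, u, u} (algebraMap A (S k))).obj (ModuleCat.of A N)))
  · exact DTenLib.Point.isZero_sg (show l ≠ 0 by omega)
  · rcases eq_or_ne l 0 with rfl | hl
    · exact Module.Finite.equiv (DTenLib.Point.sgH (ModuleCat.of A N) 0).toLinearEquiv.symm
    · haveI := ModuleCat.subsingleton_of_isZero (DTenLib.Point.isZero_sg (N := ModuleCat.of A N) hl)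
      exact inferInstanceAs (Module.Finite A ((hH A l).obj (sg (ModuleCat.of A N) 0)))

/-- Being dualizing is local, given bounds on `Ext`. -/
theorem isDualizing_of_local (hM : Covers M) (hη : ∀ k, IsUniv (algebraMap A (S k)) (η k))
    (hL : ∀ k, IsLocH (algebraMap A (S k)) (M k) (η k)) (hfin : ∀ i, Module.Finite A (Dual.HD A R i))
    (hZ : ∀ k, Dual.IsDualizing (S k) (Z k)) {a b : ℤ}
    (hab : ∀ (I : Ideal A) (i : ℤ), (i < a ∨ b < i) → Subsingleton (Dual.inD A (A ⧸ I) ⟶ R⟦i⟧)) :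
    Dual.IsDualizing A R := by
  have hX : ∀ i, (i < a ∨ a + ((b + 1 - a).toNat : ℤ) ≤ i) → IsZero ((hH A i).obj R) := fun i hi =>
    isZero_of_ext_ring i (hab _ i (by omega))
  haveI hge : R.IsGE a := (DerivedCategory.isGE_iff R a).2 fun i hi => hX i (Or.inl hi)
  have hS := fun k => exists_smul_eq_of_loc (M k) (hη k) (hL k) hge hX hfin (hZ k).toEnd_bijective
  refine ⟨inferInstance, ⟨a, b, fun N _ _ i hi =>
    ext_of_hasInjAmplitudeIn (hasInjAmplitudeIn_of_ext hab) N i hi⟩, hfin, ⟨fun x y hxy => ?_, fun g => ?_⟩,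
    fun i hi => hM.subsingleton fun k =>
      tor_hom_loc (M k) (hη k) (hL k) hge hX hfin i ((hZ k).ext_self_subsingleton i hi)⟩
  · have h0 : (x - y) • 𝟙 R = 0 := by rw [sub_smul, sub_eq_zero]; exact hxy
    haveI := hM.subsingleton (V := A ∙ (x - y)) fun k => by
      obtain ⟨s, hs, h⟩ := (hS k).1 _ h0
      intro z
      obtain ⟨c, hc⟩ := Submodule.mem_span_singleton.1 z.2
      refine ⟨s, hs, Subtype.ext ?_⟩
      show s • (z : A) = 0
      rw [← hc, smul_eq_mul, smul_eq_mul, mul_left_comm, h, mul_zero]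
    exact sub_eq_zero.1 (congrArg Subtype.val
      (Subsingleton.elim (⟨x - y, Submodule.mem_span_singleton_self _⟩ : A ∙ (x - y)) 0))
  · let P : Submodule A (R ⟶ R) := LinearMap.range (LinearMap.toSpanSingleton A (R ⟶ R) (𝟙 R))
    haveI := hM.subsingleton (V := (R ⟶ R) ⧸ P) fun k z => by
      obtain ⟨g, rfl⟩ := P.mkQ_surjective z
      obtain ⟨s, hs, r, h⟩ := (hS k).2 g
      exact ⟨s, hs, by rw [← map_smul, h]; exact (Submodule.Quotient.mk_eq_zero P).2 ⟨r, rfl⟩⟩
    exact (Submodule.Quotient.mk_eq_zero P).1 (Subsingleton.elim (P.mkQ g) 0)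

end Global

end Groth.Agent.DualCxLib
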