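import Groth.Agent.DualCxLib.LocAway

/-!
# Being dualizing descends from a finite cover by localizations
-/

set_option autoImplicit false
set_option linter.style.haveILetI false
set_option linter.unusedSectionVars false

universe u

open CategoryTheory CategoryTheory.Limits
open Groth.Agent DTen
open DTenLib.Point (hH sg)

attribute [local instance] HasDerivedCategory.standard

noncomputable section

namespace Groth.Agent.DualCxLib

variable {A : Type u} [CommRing A] [IsNoetherianRing A]

/-- A module is finite as soon as its localizations are. -/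
theorem exists_fg_loc {S : Type u} [CommRing S] [Algebra A S] (M : Submonoid A) [IsLocalization M S]
    {H H' : Type u} [AddCommGroup H] [Module A H] [AddCommGroup H'] [Module A H'] [Module S H']
    [IsScalarTower A S H'] [Module.Finite S H'] (f : H →ₗ[A] H') [IsLocalizedModule M f] :
    ∃ P : Submodule A H, P.FG ∧ Tor M (H ⧸ P) := by
  classical
  obtain ⟨G, hG⟩ := Module.Finite.fg_top (R := S) (M := H')
  choose x hx using fun y : H' => IsLocalizedModule.surj M f y
  let P : Submodule A H := Submodule.span A ↑(G.image fun y => (x y).1)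
  have htop : P.localized' S M f = ⊤ := by
    refine top_le_iff.1 (hG ▸ Submodule.span_le.2 fun y hy => ?_)
    exact ⟨(x y).1, Submodule.subset_span (Finset.mem_coe.2 (Finset.mem_image_of_mem _ hy)), (x y).2,
      IsLocalizedModule.mk'_eq_iff.2 (hx y).symm⟩
  refine ⟨P, ⟨_, rfl⟩, fun z => ?_⟩
  obtain ⟨z, rfl⟩ := P.mkQ_surjective z
  obtain ⟨p, hp, s, hps⟩ : f z ∈ P.localized' S M f := htop ▸ Submodule.mem_top
  obtain ⟨t, ht⟩ := IsLocalizedModule.exists_of_eq (S := M) (f := f) (x₁ := p) (x₂ := (s : A) • z)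
    (by rw [map_smul]; exact IsLocalizedModule.mk'_eq_iff.1 hps)
  refine ⟨(t : A) * s, M.mul_mem t.2 s.2, ?_⟩
  rw [← map_smul, mul_smul]
  exact (Submodule.Quotient.mk_eq_zero P).2 (ht ▸ P.smul_mem t hp)

variable {ι : Type*} [Finite ι] {S : ι → Type u} [∀ k, CommRing (S k)] [∀ k, Algebra A (S k)]
  {M : ι → Submonoid A} [∀ k, IsLocalization (M k) (S k)] {R : Dual.D A} {Z : ∀ k, Dual.D (S k)}
  {η : ∀ k, R ⟶ (DRing.restrictD (algebraMap A (S k))).obj (Z k)}

theorem exists_fg_loc_HD {T : Type u} [CommRing T] [Algebra A T] (N : Submonoid A) [IsLocalization N T]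
    {W : Dual.D T} {θ : R ⟶ (DRing.restrictD (algebraMap A T)).obj W} (hθ : IsLocH (algebraMap A T) N θ)
    (i : ℤ) (h : Module.Finite T (Dual.HD T W i)) :
    ∃ P : Submodule A (Dual.HD A R i), P.FG ∧ Tor N (Dual.HD A R i ⧸ P) := by
  obtain ⟨e⟩ := DRingLib.exists_homology_iso_mapDerived (ModuleCat.restrictScalars.{u} (algebraMap A T)) W i
  letI : Module A (Dual.HD T W i) := Module.compHom _ (algebraMap A T)
  haveI : IsScalarTower A T (Dual.HD T W i) := IsScalarTower.of_algebraMap_smul fun _ _ => rfl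
  let e' : (hH A i).obj ((DRing.restrictD (algebraMap A T)).obj W) ≃ₗ[A] Dual.HD T W i := e.toLinearEquiv
  haveI := hθ i
  haveI : IsLocalizedModule N (e'.toLinearMap.comp ((hH A i).map θ).hom) :=
    IsLocalizedModule.of_linearEquiv _ _ e'
  exact exists_fg_loc N (e'.toLinearMap.comp ((hH A i).map θ).hom) (S := T)

/-- Dualizing on a finite cover. -/
theorem isDualizing_of_cover (hM : Covers M) (hη : ∀ k, IsUniv (algebraMap A (S k)) (η k))
    (hL : ∀ k, IsLocH (algebraMap A (S k)) (M k) (η k))
    (hZ : ∀ k, Dual.IsDualizing (S k) (Z k)) : Dual.IsDualizing A R := by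
  choose a b hab using fun k => (hZ k).finite_injective_dimension
  obtain ⟨lo, hlo⟩ := (Set.finite_range a).bddBelow
  obtain ⟨hi, hhi⟩ := (Set.finite_range b).bddAbove
  have hge : R.IsGE lo := isGE_of_subsingleton fun i hi' => hM.subsingleton fun k =>
    tor_HD_of_isZero _ (hL k) i
      (isZero_of_ext_ring i (hab k _ i (Or.inl (lt_of_lt_of_le hi' (hlo ⟨k, rfl⟩)))))
  have hfin : ∀ i, Module.Finite A (Dual.HD A R i) := fun i => by
    choose P hP hT using fun k => exists_fg_loc_HD (M k) (hL k) i ((hZ k).finite_cohomology i)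
    haveI : Subsingleton (Dual.HD A R i ⧸ ⨆ k, P k) := hM.subsingleton fun k z => by
      obtain ⟨z, rfl⟩ := (⨆ k, P k).mkQ_surjective z
      obtain ⟨s, hs, h⟩ := hT k ((P k).mkQ z)
      rw [← map_smul] at h
      refine ⟨s, hs, ?_⟩
      rw [← map_smul]
      exact (Submodule.Quotient.mk_eq_zero _).2 (le_iSup P k ((Submodule.Quotient.mk_eq_zero _).1 h))
    refine ⟨?_⟩
    rw [← (Submodule.Quotient.subsingleton_iff.1 this)]
    exact Submodule.fg_iSup P hP
  refine isDualizing_of_local hM hη hL hfin hZ (a := lo) (b := hi) fun I i hi' => ?_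
  refine ext_bounds_of_local hM hL hge i (fun k N _ _ => ?_) (A ⧸ I)
  have h1 : lo ≤ a k := hlo ⟨k, rfl⟩
  have h2 : b k ≤ hi := hhi ⟨k, rfl⟩
  exact hab k N i (by omega)

end Groth.Agent.DualCxLib
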