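import Groth.Agent.DualCxLib.Chart2
import Groth.Agent.DualCxLib.LocCover
import Groth.Agent.DualCxLib.Sch

/-!
# Dualizing complexes on schemes are recognized on one affine cover
-/

set_option autoImplicit false
set_option linter.style.haveILetI false
set_option linter.unusedSectionVars false

universe u

open CategoryTheory CategoryTheory.Limits AlgebraicGeometry
open Groth.Agent DTen
open DTenLib.Point (hH sg)

attribute [local instance] HasDerivedCategory.standard

noncomputable section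

namespace Groth.Agent.DualCxLib

variable {X : Scheme.{u}}

/-- The open immersion of a basic open. -/
abbrev basicι {A : Type u} [CommRing A] (f : A) : Spec (CommRingCat.of (Localization.Away f)) ⟶ Spec (CommRingCat.of A) :=
  Spec.map (CommRingCat.ofHom (algebraMap A (Localization.Away f)))

theorem range_basicι {A : Type u} [CommRing A] (f : A) :
    Set.range (basicι f) = (PrimeSpectrum.basicOpen f : Set (PrimeSpectrum A)) :=
  PrimeSpectrum.localization_away_comap_range (Localization.Away f) f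

theorem mem_range_basicι {A : Type u} [CommRing A] (f : A) (x : PrimeSpectrum A) :
    x ∈ Set.range (basicι f) ↔ f ∉ x.asIdeal :=
  (Set.ext_iff.1 (range_basicι f) x).trans Iff.rfl

/-- Two affine charts share basic opens. -/
theorem exists_common_basic {A B : Type u} [CommRing A] [CommRing B] (j : Spec (CommRingCat.of A) ⟶ X)
    [IsOpenImmersion j] (j' : Spec (CommRingCat.of B) ⟶ X) [IsOpenImmersion j'] (q : PrimeSpectrum B)
    (hq : j' q ∈ Set.range j) :
    ∃ (f : A) (g : B), g ∉ q.asIdeal ∧ Set.range (basicι f ≫ j) = Set.range (basicι g ≫ j') := by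
  obtain ⟨_, ⟨g₀, rfl⟩, hqg, hsub⟩ := PrimeSpectrum.isTopologicalBasis_basic_opens.exists_subset_of_mem_open
    (show q ∈ j' ⁻¹' Set.range j from hq) (j.isOpenEmbedding.isOpen_range.preimage j'.continuous)
  have hle : Set.range (basicι g₀ ≫ j') ⊆ Set.range j := by
    rintro _ ⟨y, rfl⟩
    rw [Scheme.Hom.comp_apply]
    exact hsub ((mem_range_basicι g₀ _).1 ⟨y, rfl⟩)
  let k := IsOpenImmersion.lift j (basicι g₀ ≫ j') hle
  have hk : k ≫ j = basicι g₀ ≫ j' := IsOpenImmersion.lift_fac _ _ _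
  haveI : IsOpenImmersion (k ≫ j) := hk ▸ inferInstance
  haveI : IsOpenImmersion k := IsOpenImmersion.of_comp k j
  obtain ⟨q₀, hq₀⟩ := (mem_range_basicι g₀ q).2 hqg
  obtain ⟨_, ⟨f, rfl⟩, hqf, hfk⟩ := PrimeSpectrum.isTopologicalBasis_basic_opens.exists_subset_of_mem_open
    (show (k q₀ : PrimeSpectrum A) ∈ Set.range k from ⟨q₀, rfl⟩) k.isOpenEmbedding.isOpen_range
  let θ : CommRingCat.of A ⟶ CommRingCat.of (Localization.Away g₀) := Spec.preimage k
  have hθ : ∀ y : PrimeSpectrum (Localization.Away g₀), (k y).asIdeal = y.asIdeal.comap θ.hom := fun y => by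
    have h : Spec.map θ = k := Spec.map_preimage k
    rw [← h]
    rfl
  obtain ⟨⟨b, m⟩, hb⟩ := IsLocalization.surj (M := Submonoid.powers (g₀ : B)) (S := Localization.Away (g₀ : B)) (θ.hom f)
  have key : ∀ y : PrimeSpectrum (Localization.Away g₀),
      (f : A) ∉ (k y).asIdeal ↔ (g₀ * b : B) ∉ (basicι g₀ y).asIdeal := fun y => by
    have hu : IsUnit (algebraMap B (Localization.Away g₀) (m : B)) := IsLocalization.map_units _ m
    have hg : IsUnit (algebraMap B (Localization.Away g₀) g₀) := IsLocalization.Away.algebraMap_isUnit g₀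
    show _ ↔ ¬ algebraMap B (Localization.Away g₀) (g₀ * b) ∈ y.asIdeal
    rw [hθ, Ideal.mem_comap, map_mul, ← hb, Ideal.unit_mul_mem_iff_mem _ hg, Ideal.mul_unit_mem_iff_mem _ hu]
  refine ⟨f, g₀ * b, ?_, Set.ext fun x => ⟨?_, ?_⟩⟩
  · rw [← hq₀]
    exact (key q₀).1 hqf
  · rintro ⟨z, rfl⟩
    have hzf : (f : A) ∉ (basicι f z).asIdeal := (mem_range_basicι f _).1 ⟨z, rfl⟩
    obtain ⟨y, hy⟩ := hfk hzf
    obtain ⟨w, hw⟩ := (mem_range_basicι (g₀ * b) (basicι g₀ y)).2 ((key y).1 (hy.symm ▸ hzf))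
    refine ⟨w, ?_⟩
    rw [Scheme.Hom.comp_apply, Scheme.Hom.comp_apply, hw, ← Scheme.Hom.comp_apply, ← hk,
      Scheme.Hom.comp_apply, hy]
  · rintro ⟨w, rfl⟩
    have hwg : (g₀ * b : B) ∉ (basicι (g₀ * b) w).asIdeal := (mem_range_basicι _ _).1 ⟨w, rfl⟩
    obtain ⟨y, hy⟩ := (mem_range_basicι g₀ (basicι (g₀ * b) w)).2 fun h => hwg (Ideal.mul_mem_right b _ h)
    obtain ⟨z, hz⟩ := (mem_range_basicι f (k y)).2 ((key y).2 (hy.symm ▸ hwg))
    refine ⟨z, ?_⟩
    rw [Scheme.Hom.comp_apply, Scheme.Hom.comp_apply, hz, ← Scheme.Hom.comp_apply, hk,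
      Scheme.Hom.comp_apply, hy]

section Main

variable [∀ (U V : Scheme.{u}) (j : U ⟶ V) [IsOpenImmersion j], PreservesFiniteLimits (Scheme.Modules.restrictFunctor j)]
  [∀ (R : CommRingCat.{u}), PreservesFiniteLimits (tilde.functor R)] {K : DCoh.D X}

theorem exists_local_dualizing {A B : Type u} [CommRing A] [CommRing B]
    (j : Spec (CommRingCat.of A) ⟶ X) [IsOpenImmersion j] {ω : Dual.D A} (hω : Dual.IsDualizing A ω)
    (e : (DCoh.restrictD j).obj K ≅ (DCoh.tildeD (CommRingCat.of A)).obj ω)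
    (j' : Spec (CommRingCat.of B) ⟶ X) [IsOpenImmersion j'] {ω' : Dual.D B}
    (e' : (DCoh.restrictD j').obj K ≅ (DCoh.tildeD (CommRingCat.of B)).obj ω')
    (q : PrimeSpectrum B) (hq : j' q ∈ Set.range j) :
    ∃ (g : B) (S : Type u) (_ : CommRing S) (_ : Algebra B S) (_ : IsLocalization (Submonoid.powers g) S)
      (Z : Dual.D S) (η : ω' ⟶ (DRing.restrictD (algebraMap B S)).obj Z),
      g ∉ q.asIdeal ∧ IsUniv (algebraMap B S) η ∧ IsLocH (algebraMap B S) (Submonoid.powers g) η ∧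
        Dual.IsDualizing S Z := by
  haveI := hω.isNoetherianRing
  obtain ⟨f, g, hqg, hr⟩ := exists_common_basic j j' q hq
  let σ := IsOpenImmersion.isoOfRangeEq (basicι f ≫ j) (basicι g ≫ j') hr
  let θ : CommRingCat.of (Localization.Away g) ⟶ CommRingCat.of (Localization.Away f) := Spec.preimage σ.hom
  haveI : IsIso θ := ⟨Spec.preimage σ.inv,
    Spec.map_injective (by
      rw [Spec.map_comp, Spec.map_id, Spec.map_preimage, Spec.map_preimage]
      exact σ.inv_hom_id),
    Spec.map_injective (by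
      rw [Spec.map_comp, Spec.map_id, Spec.map_preimage, Spec.map_preimage]
      exact σ.hom_inv_id)⟩
  letI : Algebra B (Localization.Away f) := (θ.hom.comp (algebraMap B (Localization.Away g))).toAlgebra
  let τ : Localization.Away g ≃ₐ[B] Localization.Away f :=
    AlgEquiv.ofRingEquiv (f := (asIso θ).commRingCatIsoToRingEquiv) fun _ => rfl
  haveI : IsLocalization (Submonoid.powers g) (Localization.Away f) :=
    IsLocalization.isLocalization_of_algEquiv (Submonoid.powers g) τ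
  have hB : Spec.map (CommRingCat.ofHom (algebraMap B (Localization.Away f))) = σ.hom ≫ basicι g := by
    rw [← Spec.map_preimage σ.hom, ← Spec.map_comp]
    rfl
  haveI : IsOpenImmersion (Spec.map (CommRingCat.ofHom (algebraMap B (Localization.Away f)))) := by
    rw [hB]; infer_instance
  obtain ⟨Z₁, η₁, hu₁, hl₁, ⟨i₁⟩⟩ := exists_chart_loc (S := Localization.Away f) (Submonoid.powers f) j e
  obtain ⟨Z₂, η₂, hu₂, hl₂, ⟨i₂⟩⟩ := exists_chart_loc (S := Localization.Away f) (Submonoid.powers g) j' e'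
  have h12 : basicι f ≫ j = Spec.map (CommRingCat.ofHom (algebraMap B (Localization.Away f))) ≫ j' := by
    rw [hB, Category.assoc]
    exact (IsOpenImmersion.isoOfRangeEq_hom_fac _ _ hr).symm
  obtain ⟨c⟩ := nonempty_iso_of_tildeD (i₁.symm ≪≫ restrictCongrIso h12 K ≪≫ i₂)
  exact ⟨g, _, inferInstance, inferInstance, inferInstance, Z₂, η₂, hqg, hu₂, hl₂,
    isDualizing_of_iso c (isDualizing_loc (Submonoid.powers f) hω hu₁ hl₁)⟩

theorem isQCohD_restrict {ι : Type u} (A : ι → Type u) [∀ i, CommRing (A i)]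
    (j : ∀ i, Spec (CommRingCat.of (A i)) ⟶ X) [∀ i, IsOpenImmersion (j i)]
    (hcov : ∀ x : X, ∃ i, x ∈ Set.range (j i))
    (hK : ∀ i, ∃ ω : Dual.D (A i), Nonempty ((DCoh.restrictD (j i)).obj K ≅ (DCoh.tildeD (CommRingCat.of (A i))).obj ω))
    {B : Type u} [CommRing B] (j' : Spec (CommRingCat.of B) ⟶ X) [IsOpenImmersion j'] :
    DCoh.IsQCohD ((DCoh.restrictD j').obj K) := fun n => by
  haveI : Coh.IsQCoh (DCoh.HD K n) := by
    refine QCohLib.isQCoh_of_cover _ (fun i => (j i).opensRange) ?_ fun i => ?_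
    · exact top_le_iff.1 fun x _ => TopologicalSpace.Opens.mem_iSup.2 (hcov x)
    · obtain ⟨ω, ⟨e⟩⟩ := hK i
      have h : Coh.IsQCoh (tilde (ModuleCat.of (CommRingCat.of (A i)) (Dual.HD (A i) ω n))) :=
        inferInstanceAs ((tilde (ModuleCat.of (CommRingCat.of (A i)) (Dual.HD (A i) ω n))).IsQuasicoherent)
      haveI := h
      haveI h1 : Coh.IsQCoh ((DCoh.HD K n).restrict (j i)) :=
        QCohLib.isQCoh_of_iso (chartIso (A := CommRingCat.of (A i)) (j i) e n).symm
      have h2 : (j i).isoOpensRange.inv ≫ j i = (j i).opensRange.ι := by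
        rw [Iso.inv_comp_eq]; exact (Scheme.Hom.isoOpensRange_hom_ι (j i)).symm
      let ι' := ((Scheme.Modules.restrictFunctorComp (j i).isoOpensRange.inv (j i)).app (DCoh.HD K n))
      haveI : (((DCoh.HD K n).restrict (j i)).restrict (j i).isoOpensRange.inv).IsQuasicoherent := by
        haveI : ((DCoh.HD K n).restrict (j i)).IsQuasicoherent := h1
        infer_instance
      haveI : Coh.IsQCoh ((DCoh.HD K n).restrict ((j i).isoOpensRange.inv ≫ j i)) :=
        @QCohLib.isQCoh_of_iso _ _ _ ι'.symm this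
      exact QCohLib.isQCoh_of_iso (((Scheme.Modules.restrictFunctorCongr h2)).app _)
  haveI : ((DCoh.HD K n).restrict j').IsQuasicoherent := by
    haveI : (DCoh.HD K n).IsQuasicoherent := ‹Coh.IsQCoh (DCoh.HD K n)›
    infer_instance
  exact @QCohLib.isQCoh_of_iso _ _ _
    ((DerLib.ExactHomology.homologyIso (Scheme.Modules.restrictFunctor j') n).app K).symm this

/-- Dualizing on one affine cover is dualizing. -/
theorem isDualizingSch_of_cover [IsLocallyNoetherian X] {ι : Type u} (A : ι → Type u) [∀ i, CommRing (A i)]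
    (j : ∀ i, Spec (CommRingCat.of (A i)) ⟶ X) [∀ i, IsOpenImmersion (j i)]
    (hcov : ∀ x : X, ∃ i, x ∈ Set.range (j i))
    (hK : ∀ i, ∃ ω : Dual.D (A i), Dual.IsDualizing (A i) ω ∧
      Nonempty ((DCoh.restrictD (j i)).obj K ≅ (DCoh.tildeD (CommRingCat.of (A i))).obj ω)) :
    Dual2.IsDualizingSch X K := by
  intro B _ j' _
  haveI : IsLocallyNoetherian (Spec (CommRingCat.of B)) := isLocallyNoetherian_of_isOpenImmersion j'
  haveI : IsNoetherianRing B := (isLocallyNoetherian_Spec (R := CommRingCat.of B)).1 inferInstance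
  obtain ⟨-, -, himg⟩ := Groth.Agent.S0997.result (CommRingCat.of B)
  obtain ⟨ω', ⟨e'⟩⟩ := (himg _).1 (isQCohD_restrict A j hcov (fun i => (hK i).imp fun _ h => h.2) j')
  refine ⟨ω', ?_, ⟨e'.symm⟩⟩
  have H : ∀ q : PrimeSpectrum B, ∃ (g : B) (S : Type u) (_ : CommRing S) (_ : Algebra B S)
      (_ : IsLocalization (Submonoid.powers g) S) (Z : Dual.D S) (η : ω' ⟶ (DRing.restrictD (algebraMap B S)).obj Z),
      g ∉ q.asIdeal ∧ IsUniv (algebraMap B S) η ∧ IsLocH (algebraMap B S) (Submonoid.powers g) η ∧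
        Dual.IsDualizing S Z := fun q => by
    obtain ⟨i, hi⟩ := hcov (j' q)
    obtain ⟨ω, hω, ⟨e⟩⟩ := hK i
    exact exists_local_dualizing (j i) hω e j' e'.symm q hi
  choose g S _ _ _ Z η hg hu hl hZ using H
  obtain ⟨t, ht⟩ := isCompact_univ.elim_finite_subcover (fun q => (PrimeSpectrum.basicOpen (g q) : Set (PrimeSpectrum B)))
    (fun q => (PrimeSpectrum.basicOpen (g q)).2) fun q _ => Set.mem_iUnion.2 ⟨q, hg q⟩
  refine isDualizing_of_cover (ι := ↥t) (M := fun q => Submonoid.powers (g q.1)) (fun m hm => ?_)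
    (fun q => hu q.1) (fun q => hl q.1) fun q => hZ q.1
  obtain ⟨q, hqt, hmq⟩ := Set.mem_iUnion₂.1 (ht (Set.mem_univ (⟨m, hm.isPrime⟩ : PrimeSpectrum B)))
  exact ⟨⟨q, hqt⟩, fun s ⟨n, hn⟩ hs => hmq (hm.isPrime.mem_of_pow_mem n (by rw [← hn] at hs; exact hs))⟩

end Main

end Groth.Agent.DualCxLib
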