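import Groth.Agent.DualCxLib.LocGlobal
import Groth.Agent.DualCxLib.GorLoc
import Groth.Agent.GorLib.Basic
import Groth.Agent.S0342

/-!
# Applications of locality
-/

set_option autoImplicit false
set_option linter.style.haveILetI false
set_option linter.unusedSectionVars false

universe u

open CategoryTheory CategoryTheory.Limits
open Groth.Agent DTen
open DTenLib.Point (hH sg)

attribute [local instance] HasDerivedCategory.standard

noncomputable section

namespace Groth.Agent.DualCxLib

variable {A : Type u} [CommRing A]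

theorem exists_dim_le (h : ringKrullDim A < ⊤) : ∃ N : ℕ, ringKrullDim A ≤ N := by
  have h1 : ringKrullDim A ≠ ⊤ := h.ne
  generalize ringKrullDim A = D at h1 ⊢
  induction D using WithBot.recBotCoe with
  | bot => exact ⟨0, bot_le⟩
  | coe D =>
    induction D using ENat.recTopCoe with
    | top => exact absurd rfl h1
    | coe n => exact ⟨n, le_rfl⟩

theorem dim_atPrime_le (p : PrimeSpectrum A) {N : ℕ} (hN : ringKrullDim A ≤ N) :
    ringKrullDim (Localization.AtPrime p.asIdeal) ≤ N := by
  rw [IsLocalization.AtPrime.ringKrullDim_eq_height p.asIdeal (Localization.AtPrime p.asIdeal)]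
  exact le_trans Ideal.height_le_ringKrullDim_of_isPrime hN

theorem ext_bounds_n [IsLocalRing A] [IsNoetherianRing A] {R : Dual.D A} {d : ℤ} (hR : IsPointwiseDual R d)
    {n : ℕ} (hn : ringKrullDim A ≤ n) (M : Type u) [AddCommGroup M] [Module A M] (i : ℤ)
    (hi : i < d - n ∨ d < i) : Subsingleton (Dual.inD A M ⟶ R⟦i⟧) := by
  refine ext_of_hasInjAmplitudeIn (hasInjAmplitudeIn_of_ext (a := d - n) (b := d) fun I j hj => ?_) M i hi
  refine subsingleton_of_van_closedPt (van_ext_of_primes j fun q _ _ => ?_)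
  haveI := ext_quot_bounds hR n hn q j hj
  exact van_of_subsingleton

theorem isZero_outside [IsLocalRing A] [IsNoetherianRing A] {R : Dual.D A} {d : ℤ} (hR : IsPointwiseDual R d)
    {n : ℕ} (hn : ringKrullDim A ≤ n) (i : ℤ) (hi : i < d - n ∨ d < i) : IsZero ((hH A i).obj R) :=
  isZero_of_ext_ring i (ext_bounds_n hR hn _ i hi)

theorem exists_not_isZero {R : Dual.D A} [Nontrivial A] (h : Dual.IsDualizing A R) :
    ∃ i, ¬ IsZero ((hH A i).obj R) := by
  by_contra! h'
  have h0 : IsZero R := DRingLib.isZero_of_isZero_Hn h'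
  exact one_ne_zero (h.toEnd_bijective.1 (h0.eq_of_src ((1 : A) • 𝟙 R) ((0 : A) • 𝟙 R)))

theorem isGE_of_subsingleton {R : Dual.D A} {a : ℤ} (h : ∀ i, i < a → Subsingleton (Dual.HD A R i)) : R.IsGE a :=
  (DerivedCategory.isGE_iff R a).2 fun i hi => by
    haveI := h i hi
    exact ModuleCat.isZero_of_subsingleton _

/-- The localization map at a prime. -/
abbrev locMap (p : PrimeSpectrum A) : A →+* Localization.AtPrime p.asIdeal :=
  algebraMap A (Localization.AtPrime p.asIdeal)

/-- Dualizing at all primes, in finite dimension. -/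
theorem isDualizing_of_atPrime [IsNoetherianRing A] (hdim : ringKrullDim A < ⊤) {R : Dual.D A}
    (hfin : ∀ i, Module.Finite A (Dual.HD A R i)) {a₀ : ℤ} (hge : R.IsGE a₀)
    (Z : ∀ p : PrimeSpectrum A, Dual.D (Localization.AtPrime p.asIdeal))
    (η : ∀ p : PrimeSpectrum A, R ⟶ (DRing.restrictD (locMap p)).obj (Z p))
    (hη : ∀ p : PrimeSpectrum A, IsUniv (locMap p) (η p))
    (hL : ∀ p : PrimeSpectrum A, IsLocH (locMap p) p.asIdeal.primeCompl (η p))
    (hZ : ∀ p, Dual.IsDualizing (Localization.AtPrime p.asIdeal) (Z p)) : Dual.IsDualizing A R := by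
  classical
  obtain ⟨N, hN⟩ := exists_dim_le hdim
  haveI : ∀ p : PrimeSpectrum A, IsNoetherianRing (Localization.AtPrime p.asIdeal) := fun p =>
    IsLocalization.isNoetherianRing p.asIdeal.primeCompl _ inferInstance
  choose d hd using fun p : PrimeSpectrum A => isPointwiseDual_of_isDualizing (hZ p)
  -- the degrees at minimal primes bound all the degrees
  choose e he using fun q : PrimeSpectrum A => exists_not_isZero (hZ q)
  have hbd : ∀ p : PrimeSpectrum A, ∃ q : PrimeSpectrum A, q.asIdeal ∈ minimalPrimes A ∧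
      e q ≤ d p ∧ d p ≤ e q + N := fun p => by
    obtain ⟨q, hq, hqp⟩ := Ideal.exists_minimalPrimes_le (J := p.asIdeal) (I := (⊥ : Ideal A)) bot_le
    refine ⟨⟨q, hq.1.1⟩, hq, ?_⟩
    have h1 : ¬ IsZero ((hH _ (e ⟨q, hq.1.1⟩)).obj (Z p)) := fun h => he ⟨q, hq.1.1⟩
      (not_tor_HD _ (hL _) _ fun x => by
        obtain ⟨s, hs, hsx⟩ := tor_HD_of_isZero _ (hL p) _ h x
        exact ⟨s, fun h' => hs (hqp h'), hsx⟩)
    by_contra hcon
    exact h1 (isZero_outside (hd p) (dim_atPrime_le p hN) _ (by omega))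
  have hfinmin : Set.Finite {q : PrimeSpectrum A | q.asIdeal ∈ minimalPrimes A} :=
    (minimalPrimes.finite_of_isNoetherianRing A).preimage fun a _ b _ h => PrimeSpectrum.ext h
  obtain ⟨lo, hlo⟩ := (hfinmin.image e).bddBelow
  obtain ⟨hi, hhi⟩ := (hfinmin.image e).bddAbove
  refine isDualizing_of_local covers_atPrime hη hL hfin hZ (a := lo - N) (b := hi + N) fun I i hi' => ?_
  refine ext_bounds_of_local covers_atPrime hL hge i (fun p M _ _ => ?_) (A ⧸ I)
  obtain ⟨q, hq, h1, h2⟩ := hbd p
  have h3 : lo ≤ e q := hlo ⟨q, hq, rfl⟩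
  have h4 : e q ≤ hi := hhi ⟨q, hq, rfl⟩
  exact ext_bounds_n (hd p) (dim_atPrime_le p hN) M i (by omega)

section Self

variable {S : Type u} [CommRing S] [Algebra A S] (M : Submonoid A) [IsLocalization M S]

local notation "φ" => algebraMap A S

include M in
theorem nonempty_extend_self :
    Nonempty ((ModuleCat.extendScalars.{u, u, u} φ).obj (ModuleCat.of A A) ≅ ModuleCat.of S S) := by
  let g : ModuleCat.of A A ⟶ (ModuleCat.restrictScalars φ).obj (ModuleCat.of S S) := ModuleCat.ofHom
    (X := A) (Y := (ModuleCat.restrictScalars φ).obj (ModuleCat.of S S))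
    { toFun := fun x => φ x, map_add' := map_add φ, map_smul' := fun r x => map_mul φ r x }
  let η := (ModuleCat.extendRestrictScalarsAdj.{u, u, u} φ).unit.app (ModuleCat.of A A)
  let h := ((ModuleCat.extendRestrictScalarsAdj.{u, u, u} φ).homEquiv (ModuleCat.of A A) (ModuleCat.of S S)).symm g
  have hg : ∀ n : A, h.hom (η.hom n) = φ n := fun n =>
    congr($(((ModuleCat.extendRestrictScalarsAdj.{u, u, u} φ).homEquiv_unit _ _ h).symm.trans
      (Equiv.apply_symm_apply _ g)).hom n)
  haveI hη : IsLocalizedModule M η.hom := isLocalizedModule_unit M _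
  refine ⟨(LinearEquiv.ofBijective h.hom ⟨(injective_iff_map_eq_zero _).2 fun z hz => ?_,
    fun y => ?_⟩).toModuleIso⟩
  · obtain ⟨⟨n, m⟩, hm⟩ := IsLocalizedModule.surj M η.hom z
    have h1 : φ n = 0 := by
      rw [← hg, ← hm]
      refine (map_smul h.hom (φ (m : A)) z).trans ?_
      rw [hz, smul_zero]
    obtain ⟨t, ht⟩ := (IsLocalization.map_eq_zero_iff M S n).1 h1
    have h2 : η.hom n = 0 := (IsLocalizedModule.eq_zero_iff M η.hom).2 ⟨t, ht⟩
    exact IsLocalizedModule.smul_injective η.hom m (hm.trans (h2.trans (smul_zero m).symm))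
  · obtain ⟨⟨a, m⟩, hm⟩ := IsLocalization.surj M y
    let z : (ModuleCat.extendScalars.{u, u, u} φ).obj (ModuleCat.of A A) := η.hom a
    refine ⟨(IsLocalization.mk' S 1 m : S) • z, ?_⟩
    refine (map_smul h.hom _ _).trans ?_
    rw [hg]
    show IsLocalization.mk' S 1 m * φ a = y
    rw [← hm, mul_left_comm, IsLocalization.mk'_spec, map_one, mul_one]

end Self

/-- A Noetherian ring of finite dimension, Gorenstein at all primes, is its own dualizing complex. -/
theorem isDualizing_self_of_gorenstein [IsNoetherianRing A] (hdim : ringKrullDim A < ⊤)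
    (h : ∀ p : PrimeSpectrum A, LocCoh.IsGorensteinLocalRing (Localization.AtPrime p.asIdeal)) :
    Dual.IsDualizing A (Dual.inD A A) := by
  have hloc : ∀ p : PrimeSpectrum A, ∃ η : Dual.inD A A ⟶
      (DRing.restrictD (algebraMap A (Localization.AtPrime p.asIdeal))).obj
        (Dual.inD (Localization.AtPrime p.asIdeal) (Localization.AtPrime p.asIdeal)),
      IsUniv (algebraMap A (Localization.AtPrime p.asIdeal)) η ∧
        IsLocH (algebraMap A (Localization.AtPrime p.asIdeal)) p.asIdeal.primeCompl η := fun p =>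
    exists_loc_single p.asIdeal.primeCompl (ModuleCat.of A A)
      (nonempty_extend_self p.asIdeal.primeCompl).some
  choose η hη hL using hloc
  refine isDualizing_of_atPrime hdim (fun i => ?_) (a₀ := 0) inferInstance _ η hη hL fun p => ?_
  · rcases eq_or_ne i 0 with rfl | hi
    · exact Module.Finite.equiv (DTenLib.Point.sgH (ModuleCat.of A A) 0).toLinearEquiv.symm
    · haveI := ModuleCat.subsingleton_of_isZero (DTenLib.Point.isZero_sg (N := ModuleCat.of A A) hi)
      exact inferInstanceAs (Module.Finite A ((hH A i).obj (sg (ModuleCat.of A A) 0)))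
  · haveI := h p
    exact isDualizing_inD_self (h p).exists_hasInjectiveDimensionLT

end Groth.Agent.DualCxLib
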