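import Groth.Agent.DualCxLib.DimFnLocal
import Groth.Agent.CommAlgDim.Depth
import Groth.Agent.LocSuppLib.DepthStalk
import Groth.Agent.DepthTwoLib.Reflexive
import Mathlib.RingTheory.Regular.Category

/-!
# Depth and the Cohen-Macaulay property in terms of a dualizing complex
-/

set_option autoImplicit false
set_option linter.style.haveILetI false
set_option linter.unusedSectionVars false

universe u

open CategoryTheory CategoryTheory.Limits
open Groth.Agent
open DTenLib.Point (hH sg kM)

attribute [local instance] HasDerivedCategory.standard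

noncomputable section

namespace Groth.Agent.DualCxLib

variable {A : Type u} [CommRing A]

/-- The part of `M` dying at `p`. -/
def deadPart (p : Ideal A) [p.IsPrime] (M : Type u) [AddCommGroup M] [Module A M] : Submodule A M :=
  LinearMap.ker (LocalizedModule.mkLinearMap p.primeCompl M)

theorem mem_deadPart {p : Ideal A} [p.IsPrime] {M : Type u} [AddCommGroup M] [Module A M] {m : M} :
    m ∈ deadPart p M ↔ ∃ s ∉ p, s • m = 0 :=
  LinearMap.mem_ker.trans ((IsLocalizedModule.eq_zero_iff p.primeCompl _).trans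
    ⟨fun ⟨c, hc⟩ => ⟨c, c.2, hc⟩, fun ⟨s, hs, h⟩ => ⟨⟨s, hs⟩, h⟩⟩)

/-- Removing the part dying at `p` does not change the localization. -/
theorem nonempty_localized_equiv (p : Ideal A) [p.IsPrime] (M : Type u) [AddCommGroup M] [Module A M] :
    Nonempty (LocalizedModule p.primeCompl M ≃ₗ[Localization.AtPrime p]
      LocalizedModule p.primeCompl (M ⧸ deadPart p M)) := by
  let l := LocalizedModule.map p.primeCompl (deadPart p M).mkQ
  refine ⟨LinearEquiv.ofBijective l ⟨(injective_iff_map_eq_zero _).2 fun z => ?_, ?_⟩⟩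
  · induction z using LocalizedModule.induction_on with
    | h m s =>
      intro hz
      rw [show l (LocalizedModule.mk m s) = LocalizedModule.mk ((deadPart p M).mkQ m) s from
        LocalizedModule.map_mk _ _ _ _, ← LocalizedModule.zero_mk s, LocalizedModule.mk_eq] at hz
      obtain ⟨u', hu⟩ := hz
      rw [smul_zero, smul_zero] at hu
      have hu' : (deadPart p M).mkQ ((u' : A) • (s : A) • m) = 0 := by
        rw [map_smul, map_smul]
        exact hu
      obtain ⟨t, ht, htm⟩ := mem_deadPart.1 ((Submodule.Quotient.mk_eq_zero _).1 hu')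
      rw [← LocalizedModule.zero_mk s, LocalizedModule.mk_eq]
      refine ⟨⟨t * u', p.primeCompl.mul_mem ht u'.2⟩, ?_⟩
      simp only [smul_zero, Submonoid.smul_def]
      rw [mul_smul]
      exact htm
  · intro z
    induction z using LocalizedModule.induction_on with
    | h n s =>
      obtain ⟨m, rfl⟩ := Submodule.Quotient.mk_surjective _ n
      exact ⟨LocalizedModule.mk m s, LocalizedModule.map_mk _ _ _ _⟩

variable [IsNoetherianRing A] {ω : Dual.D A}

/-- `Ext` only sees `M` up to the part dying at `p`. -/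
theorem van_deadPart_iff (p : Ideal A) [p.IsPrime] (M : Type u) [AddCommGroup M] [Module A M]
    [Module.Finite A M] (i : ℤ) :
    Van p (Ext ω (ModuleCat.of A (M ⧸ deadPart p M)) i) ↔ Van p (Ext ω (ModuleCat.of A M) i) := by
  let S : ShortComplex (ModuleCat.{u} A) := ShortComplex.mk (ModuleCat.ofHom (deadPart p M).subtype)
    (ModuleCat.ofHom (deadPart p M).mkQ)
    (ModuleCat.hom_ext (LinearMap.ext fun x => (Submodule.Quotient.mk_eq_zero _).2 x.2))
  have hS : S.ShortExact :=
    { exact := (ShortComplex.moduleCat_exact_iff_range_eq_ker _).2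
        ((Submodule.range_subtype _).trans (Submodule.ker_mkQ _).symm)
      mono_f := (ModuleCat.mono_iff_injective _).2 Subtype.val_injective
      epi_g := (ModuleCat.epi_iff_surjective _).2 (Submodule.mkQ_surjective _) }
  have hT : ∀ j, Van p (Ext ω S.X₁ j) := fun j => by
    classical
    obtain ⟨G, hG⟩ := Module.Finite.fg_top (R := A) (M := deadPart p M)
    choose s hs hx using fun g : deadPart p M => mem_deadPart.1 g.2
    refine van_ext_of_killed (s := ∏ g ∈ G, s g) (fun hm => ?_) (fun x => ?_) j
    · obtain ⟨g, -, hg⟩ := Ideal.IsPrime.prod_mem_iff.1 hm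
      exact hs g hg
    · have : (⊤ : Submodule A (deadPart p M)) ≤
          LinearMap.ker (LinearMap.lsmul A (deadPart p M) (∏ g ∈ G, s g)) := by
        rw [← hG, Submodule.span_le]
        intro g hg
        obtain ⟨c, hc⟩ := Finset.dvd_prod_of_mem s hg
        show (∏ g ∈ G, s g) • g = 0
        refine Subtype.ext ?_
        rw [Submodule.coe_smul, hc, mul_comm, mul_smul, hx, smul_zero]
        rfl
      exact this Submodule.mem_top
  exact ⟨fun h => van_ext₂ hS i (hT i) h, fun h => van_ext₃ hS i (i - 1) (by omega) (hT _) h⟩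

/-- Depth at `p` measured by `Ext` into a dualizing complex. -/
theorem le_depth_iff_van (hω : Dual.IsDualizing A ω) (p : PrimeSpectrum A) (n : ℕ)
    (M : Type u) [AddCommGroup M] [Module A M] [Module.Finite A M] :
    (n : ℕ∞) ≤ LocCoh.depth (Localization.AtPrime p.asIdeal) (LocalizedModule p.asIdeal.primeCompl M) ↔
      ∀ δ : ℕ, δ < n → Van p.asIdeal (Ext ω (ModuleCat.of A M) (deg hω p - δ)) := by
  induction n generalizing M with
  | zero => exact ⟨fun _ δ hδ => absurd hδ (Nat.not_lt_zero δ), fun _ => zero_le⟩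
  | succ n ih =>
    obtain ⟨e⟩ := nonempty_localized_equiv p.asIdeal M
    rw [CommAlgDim.depth_congr e]
    simp_rw [← van_deadPart_iff p.asIdeal M]
    have hsat : ∀ (s : A) (m : M ⧸ deadPart p.asIdeal M), s ∉ p.asIdeal → s • m = 0 → m = 0 := by
      intro s m hs hm
      obtain ⟨m, rfl⟩ := Submodule.Quotient.mk_surjective _ m
      rw [← Submodule.Quotient.mk_smul, Submodule.Quotient.mk_eq_zero] at hm
      obtain ⟨t, ht, htm⟩ := mem_deadPart.1 hm
      exact (Submodule.Quotient.mk_eq_zero _).2 (mem_deadPart.2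
        ⟨t * s, fun h => (p.isPrime.mem_or_mem h).elim ht hs, by rw [mul_smul, htm]⟩)
    by_cases hassoc : p.asIdeal ∈ associatedPrimes A (M ⧸ deadPart p.asIdeal M)
    · refine iff_of_false (fun hd => ?_) fun h => ?_
      · have h1 : (1 : ℕ∞) ≤ LocCoh.depth (Localization.AtPrime p.asIdeal)
            (LocalizedModule p.asIdeal.primeCompl (M ⧸ deadPart p.asIdeal M)) :=
          le_trans (by exact_mod_cast Nat.le_add_left 1 n) hd
        haveI : IsNoetherianRing (Localization.AtPrime p.asIdeal) :=
          IsLocalization.isNoetherianRing p.asIdeal.primeCompl _ ‹_›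
        haveI : Module.Finite (Localization.AtPrime p.asIdeal)
            (LocalizedModule p.asIdeal.primeCompl (M ⧸ deadPart p.asIdeal M)) :=
          Module.Finite.of_isLocalizedModule p.asIdeal.primeCompl (LocalizedModule.mkLinearMap p.asIdeal.primeCompl _)
        exact CommAlgDim.maximalIdeal_notMem_of_hasSeqIn_one ((CommAlgDim.le_depth_iff 1).1 h1) hassoc
      · obtain ⟨-, v, hv⟩ := isAssociatedPrime_iff.1 hassoc
        let f : (A ⧸ p.asIdeal) →ₗ[A] M ⧸ deadPart p.asIdeal M :=
          p.asIdeal.liftQ (LinearMap.toSpanSingleton A _ v) fun a ha => by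
            rw [hv, Submodule.mem_colon_singleton, Submodule.mem_bot] at ha
            exact ha
        have hf : Function.Injective f := by
          refine LinearMap.ker_eq_bot.1 (Submodule.ker_liftQ_eq_bot _ _ _ fun a ha => ?_)
          rw [hv, Submodule.mem_colon_singleton, Submodule.mem_bot]
          exact ha
        refine (isDeg_deg hω p).2 (van_ext₁ (S := ShortComplex.mk
          (ModuleCat.ofHom f) (ModuleCat.ofHom (LinearMap.range f).mkQ)
          (ModuleCat.hom_ext (LinearMap.ext fun x => (Submodule.Quotient.mk_eq_zero _).2 ⟨x, rfl⟩)))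
          { exact := (ShortComplex.moduleCat_exact_iff_range_eq_ker _).2 (Submodule.ker_mkQ _).symm
            mono_f := (ModuleCat.mono_iff_injective _).2 hf
            epi_g := (ModuleCat.epi_iff_surjective _).2 (Submodule.mkQ_surjective _) } _
          (by have h0 := h 0 (Nat.succ_pos n); rwa [Nat.cast_zero, sub_zero] at h0) (van_of_gt hω p _ (by omega)))
    obtain ⟨x, hxp, hx⟩ := CommAlgDim.exists_isSMulRegular_mem (I := p.asIdeal)
      (M := M ⧸ deadPart p.asIdeal M) fun q hq hle => hassoc (by
        suffices q ≤ p.asIdeal from le_antisymm this hle ▸ hq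
        intro a ha
        by_contra hap
        obtain ⟨hqp, v, hv⟩ := isAssociatedPrime_iff.1 hq
        rw [hv, Submodule.mem_colon_singleton, Submodule.mem_bot] at ha
        have := hsat a v hap ha
        refine hqp.ne_top ((Ideal.eq_top_iff_one q).2 ?_)
        rw [hv, Submodule.mem_colon_singleton, Submodule.mem_bot, this, smul_zero])
    obtain ⟨a, ha⟩ := isGE_dualizing hω
    let N' := M ⧸ deadPart p.asIdeal M
    let e₃ : (mulSeq (ModuleCat.of A N') x).X₃ ≃ₗ[A] QuotSMulTop x N' :=
      Submodule.quotEquivOfEq _ _ (by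
        ext z
        simp [Submodule.mem_smul_pointwise_iff_exists, LinearMap.mem_range])
    haveI : Module.Finite A (mulSeq (ModuleCat.of A N') x).X₃ := inferInstanceAs (Module.Finite A (N' ⧸ _))
    haveI : IsNoetherianRing (Localization.AtPrime p.asIdeal) :=
      IsLocalization.isNoetherianRing p.asIdeal.primeCompl _ ‹_›
    haveI : Module.Finite (Localization.AtPrime p.asIdeal) (LocalizedModule p.asIdeal.primeCompl N') :=
      Module.Finite.of_isLocalizedModule p.asIdeal.primeCompl (LocalizedModule.mkLinearMap p.asIdeal.primeCompl _)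
    haveI : Module.Finite (Localization.AtPrime p.asIdeal)
        (LocalizedModule p.asIdeal.primeCompl (QuotSMulTop x N')) :=
      Module.Finite.of_isLocalizedModule p.asIdeal.primeCompl (LocalizedModule.mkLinearMap p.asIdeal.primeCompl _)
    obtain ⟨eq⟩ := CommAlgDim.exists_quot_equiv (M := N') p.asIdeal x
    have hxm : algebraMap A (Localization.AtPrime p.asIdeal) x ∈
        IsLocalRing.maximalIdeal (Localization.AtPrime p.asIdeal) :=
      (IsLocalization.AtPrime.to_map_mem_maximal_iff _ p.asIdeal x).2 hxp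
    have hx' := CommAlgDim.isSMulRegular_localization (M := N') p.asIdeal hx
    have hdepth : ((n + 1 : ℕ) : ℕ∞) ≤
          LocCoh.depth (Localization.AtPrime p.asIdeal) (LocalizedModule p.asIdeal.primeCompl N') ↔
        (n : ℕ∞) ≤ LocCoh.depth (Localization.AtPrime p.asIdeal)
          (LocalizedModule p.asIdeal.primeCompl (QuotSMulTop x N')) := by
      rw [CommAlgDim.le_depth_iff, CommAlgDim.le_depth_iff]
      exact ⟨fun h => (h.quotSMulTop hxm hx').congr eq.symm,
        fun h => CommAlgDim.hasSeqIn_succ_of_cons hxm hx' (h.congr eq)⟩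
    refine hdepth.trans ((ih (QuotSMulTop x N')).trans ⟨fun h δ hδ => ?_, fun h δ hδ => ?_⟩)
    · refine van_ext_of_regular ha hω.finite_cohomology (M := ModuleCat.of A N') hxp hx _ ?_
      refine van_ext_of_equiv e₃ ?_
      rcases Nat.eq_zero_or_pos δ with rfl | hpos
      · exact van_of_gt hω p _ (by push_cast; omega)
      · have := h (δ - 1) (by omega)
        rwa [show deg hω p - (δ : ℤ) + 1 = deg hω p - ((δ - 1 : ℕ) : ℤ) by omega]
    · refine van_ext_of_equiv e₃.symm (van_ext₃ (shortExact_mulSeq (M := ModuleCat.of A N') hx) _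
        (deg hω p - ((δ + 1 : ℕ) : ℤ)) (by push_cast; ring) ?_ ?_)
      · exact h (δ + 1) (by omega)
      · exact h δ (by omega)

theorem depth_eq_iff_van (hω : Dual.IsDualizing A ω) (p : PrimeSpectrum A) (n : ℕ)
    (M : Type u) [AddCommGroup M] [Module A M] [Module.Finite A M] :
    LocCoh.depth (Localization.AtPrime p.asIdeal) (LocalizedModule p.asIdeal.primeCompl M) = n ↔
      (∀ δ : ℕ, δ < n → Van p.asIdeal (Ext ω (ModuleCat.of A M) (deg hω p - δ))) ∧
        ¬ Van p.asIdeal (Ext ω (ModuleCat.of A M) (deg hω p - n)) := by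
  rw [← le_depth_iff_van hω p n M]
  constructor
  · intro h
    refine ⟨h.ge, fun hv => ?_⟩
    have h1 : ((n + 1 : ℕ) : ℕ∞) ≤ n := by
      rw [← h, le_depth_iff_van hω p (n + 1) M]
      intro δ hδ
      rcases Nat.lt_succ_iff_lt_or_eq.1 hδ with hlt | rfl
      · exact (le_depth_iff_van hω p n M).1 h.ge δ hlt
      · exact hv
    exact Nat.not_succ_le_self n (ENat.natCast_le_natCast.1 h1)
  · rintro ⟨h1, h2⟩
    refine le_antisymm ?_ h1
    by_contra hlt
    refine h2 ((le_depth_iff_van hω p (n + 1) M).1 ?_ n (Nat.lt_succ_self n))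
    exact_mod_cast Order.add_one_le_of_lt (not_le.1 hlt)

/-- Depth over a local ring is depth at the closed point. -/
theorem depth_eq_depth_closedPt [IsLocalRing A] (M : Type u) [AddCommGroup M] [Module A M]
    [Module.Finite A M] :
    LocCoh.depth A M = LocCoh.depth (Localization.AtPrime (closedPt A).asIdeal)
      (LocalizedModule (closedPt A).asIdeal.primeCompl M) := by
  have hu : ∀ s : (closedPt A).asIdeal.primeCompl, IsUnit (s : A) :=
    fun s => IsLocalRing.notMem_maximalIdeal.1 s.2
  haveI : IsLocalization.AtPrime A (closedPt A).asIdeal :=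
    IsLocalization.self fun x hx => hu ⟨x, hx⟩
  haveI : IsLocalizedModule (closedPt A).asIdeal.primeCompl (LinearMap.id : M →ₗ[A] M) :=
    { map_units := fun s => by
        rw [Module.End.isUnit_iff]
        exact ⟨fun a b h => (hu s).smul_left_cancel.1 h,
          fun b => ⟨(hu s).unit⁻¹ • b, by
            show (s : A) • (hu s).unit⁻¹ • b = b
            rw [Units.smul_def, ← mul_smul, IsUnit.mul_val_inv, one_smul]⟩⟩
      surj := fun y => ⟨(y, 1), one_smul _ _⟩
      exists_of_eq := fun {a b} h => ⟨1, by rw [show a = b from h]⟩ }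
  refine le_antisymm ?_ ?_ <;> refine ENat.forall_natCast_le_iff_le.1 fun n hn => ?_
  · exact (LocSuppLib.le_depth_iff_localization (S := A) (closedPt A).asIdeal
      (LinearMap.id : M →ₗ[A] M) n).1 hn
  · exact (LocSuppLib.le_depth_iff_localization (S := A) (closedPt A).asIdeal
      (LinearMap.id : M →ₗ[A] M) n).2 hn

theorem exists_series_to (hω : Dual.IsDualizing A ω) (q p : PrimeSpectrum A) (h : q ≤ p) :
    ∃ l : LTSeries (PrimeSpectrum A), l.head = q ∧ l.last = p ∧ deg hω q + l.length = deg hω p := by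
  haveI := wellFoundedGT_primeSpectrum (A := A)
  revert h
  refine WellFoundedGT.induction (motive := fun q => q ≤ p →
    ∃ l : LTSeries (PrimeSpectrum A), l.head = q ∧ l.last = p ∧ deg hω q + l.length = deg hω p) q
    fun q ih h => ?_
  rcases eq_or_lt_of_le h with rfl | hlt
  · exact ⟨RelSeries.singleton _ q, rfl, rfl, by simp⟩
  · obtain ⟨x, r, hxq, hr, hqr, hrp⟩ := exists_cover_below q p hlt
    obtain ⟨l, hl, hl', hlen⟩ := ih r hqr hrp
    refine ⟨l.cons q (by rw [hl]; exact hqr), RelSeries.head_cons _ _ _, ?_, ?_⟩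
    · rw [RelSeries.last_cons]
      exact hl'
    · have h1 := IsDeg.eq_deg hω (isDeg_of_minimal_over hω hxq hr (isDeg_deg hω r))
      simp only [RelSeries.cons_length, Nat.cast_add, Nat.cast_one]
      omega

/-- The dimension of a localization. -/
theorem supportDim_localized_eq (hω : Dual.IsDualizing A ω) (p q₀ : PrimeSpectrum A)
    (M : Type u) [AddCommGroup M] [Module A M]
    (hq₀ : q₀ ∈ Module.support A M) (hle : q₀ ≤ p)
    (hmin : ∀ q ∈ Module.support A M, q ≤ p → deg hω q₀ ≤ deg hω q) :
    Module.supportDim (Localization.AtPrime p.asIdeal) (LocalizedModule p.asIdeal.primeCompl M) =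
      (((deg hω p - deg hω q₀).toNat : ℕ∞) : WithBot ℕ∞) := by
  let c := IsLocalization.AtPrime.primeSpectrumOrderIso (Localization.AtPrime p.asIdeal) p.asIdeal
  have hc : ∀ q, (c q).1 = PrimeSpectrum.comap (algebraMap A (Localization.AtPrime p.asIdeal)) q :=
    fun q => PrimeSpectrum.ext rfl
  refine le_antisymm (iSup_le fun l => WithBot.coe_le_coe.2 (ENat.natCast_le_natCast.2 ?_)) ?_
  · let l' : LTSeries (PrimeSpectrum A) :=
      ⟨l.length, fun i => (c (l.toFun i).1).1, fun i => c.strictMono (l.step i)⟩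
    have h1 := length_le_deg_sub hω l'
    have h2 : deg hω q₀ ≤ deg hω l'.head := hmin _ (by
      have := (DepthTwoLib.mem_support_localized_iff p.asIdeal M l.head.1).1 l.head.2
      rwa [← hc] at this) (c l.head.1).2
    have h3 : deg hω l'.last ≤ deg hω p := (deg_strictMono hω).monotone (c l.last.1).2
    change l'.length ≤ _
    omega
  · obtain ⟨l, hl, hl', hlen⟩ := exists_series_to hω q₀ p hle
    let T := Module.support (Localization.AtPrime p.asIdeal) (LocalizedModule p.asIdeal.primeCompl M)
    have hlast : ∀ i, l.toFun i ≤ p := fun i => hl' ▸ l.strictMono.monotone (Fin.le_last i)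
    let l' : LTSeries T := ⟨l.length, fun i => ⟨c.symm ⟨l.toFun i, hlast i⟩, by
      refine (DepthTwoLib.mem_support_localized_iff p.asIdeal M _).2 ?_
      rw [← hc, OrderIso.apply_symm_apply]
      have h0 := LTSeries.head_le l i
      rw [hl] at h0
      exact Module.mem_support_mono h0 hq₀⟩, fun i => c.symm.strictMono (l.step i)⟩
    refine le_trans ?_ (Order.LTSeries.length_le_krullDim l')
    refine WithBot.coe_le_coe.2 (ENat.natCast_le_natCast.2 ?_)
    change _ ≤ l.length
    omega

/-- The degrees occurring at `p`. -/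
theorem exists_min_deg (hω : Dual.IsDualizing A ω) (p : PrimeSpectrum A)
    (M : Type u) [AddCommGroup M] [Module A M] [Module.Finite A M] (hp : p ∈ Module.support A M) :
    ∃ q₀ ∈ Module.support A M, q₀ ≤ p ∧ (∀ q ∈ Module.support A M, q ≤ p → deg hω q₀ ≤ deg hω q) ∧
      ¬ Van p.asIdeal (Ext ω (ModuleCat.of A M) (deg hω q₀)) := by
  obtain ⟨a, b, hab⟩ := exists_deg_bounds hω
  obtain ⟨d, ⟨q₀, hq₀, hle, rfl⟩, hmin⟩ := Int.exists_least_of_bdd
    (P := fun d => ∃ q ∈ Module.support A M, q ≤ p ∧ deg hω q = d)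
    ⟨a, fun d ⟨q, _, _, hq⟩ => hq ▸ (hab q).1⟩ ⟨_, p, hp, le_rfl, rfl⟩
  refine ⟨q₀, hq₀, hle, fun q hq hqp => hmin _ ⟨q, hq, hqp, rfl⟩, fun h => ?_⟩
  refine (not_van_iff_of_minimal hω q₀ hq₀ (fun q hq hqq => ?_) _).2 rfl (h.mono hle)
  rcases eq_or_lt_of_le hqq with h' | h'
  · exact h'
  · exact absurd (hmin _ ⟨q, hq, hqq.trans hle, rfl⟩) (not_le.2 (deg_strictMono hω h'))

/-- Cohen-Macaulay at `p` means one degree. -/
theorem isCM_localized_iff (hω : Dual.IsDualizing A ω) (p : PrimeSpectrum A)
    (M : Type u) [AddCommGroup M] [Module A M] [Module.Finite A M] (hp : p ∈ Module.support A M) :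
    LocCoh.IsCohenMacaulayModule (Localization.AtPrime p.asIdeal) (LocalizedModule p.asIdeal.primeCompl M) ↔
      ∀ i j : ℤ, ¬ Van p.asIdeal (Ext ω (ModuleCat.of A M) i) →
        ¬ Van p.asIdeal (Ext ω (ModuleCat.of A M) j) → i = j := by
  obtain ⟨q₀, hq₀, hle, hmin, hne⟩ := exists_min_deg hω p M hp
  have hrange : ∀ i, ¬ Van p.asIdeal (Ext ω (ModuleCat.of A M) i) → deg hω q₀ ≤ i ∧ i ≤ deg hω p := by
    intro i hi
    refine ⟨?_, not_lt.1 fun h => hi (van_of_gt hω p i h)⟩
    by_contra hlt
    exact hi (van_of_lt hω p i fun q hq hqp => lt_of_lt_of_le (not_le.1 hlt) (hmin q hq hqp))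
  have hd := supportDim_localized_eq hω p q₀ M hq₀ hle hmin
  obtain ⟨N, hN⟩ : ∃ N : ℕ, deg hω p - deg hω q₀ = N :=
    ⟨(deg hω p - deg hω q₀).toNat, by have := (deg_strictMono hω).monotone hle; omega⟩
  rw [hN, Int.toNat_natCast] at hd
  unfold LocCoh.IsCohenMacaulayModule
  rw [hd, WithBot.coe_inj, eq_comm, depth_eq_iff_van hω p N M]
  constructor
  · rintro ⟨h, -⟩ i j hi hj
    have key : ∀ i, ¬ Van p.asIdeal (Ext ω (ModuleCat.of A M) i) → i = deg hω q₀ := fun i hi => by
      have h1 := hrange i hi
      by_contra hne'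
      refine hi ?_
      have := h (deg hω p - i).toNat (by omega)
      rwa [show deg hω p - ((deg hω p - i).toNat : ℤ) = i by omega] at this
    rw [key i hi, key j hj]
  · intro h
    refine ⟨fun δ hδ => by_contra fun hv => ?_, ?_⟩
    · have := h _ _ hv hne
      omega
    · rwa [show deg hω p - (N : ℤ) = deg hω q₀ by omega]

end Groth.Agent.DualCxLib
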