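import Groth.Agent.DualCxLib.Biduality
import Mathlib.Algebra.Homology.DerivedCategory.SingleTriangle

/-!
# The long exact sequence of `Ext` into a fixed complex; finiteness
-/

set_option autoImplicit false
set_option linter.style.haveILetI false
set_option linter.unusedSectionVars false

universe u

open CategoryTheory CategoryTheory.Limits
open CategoryTheory.Pretriangulated (Triangle)
open Groth.Agent
open DTenLib.Point (hH sg kM)

attribute [local instance] HasDerivedCategory.standard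

noncomputable section

namespace Groth.Agent.DualCxLib

variable {A : Type u} [CommRing A]

/-- Precomposition. -/
abbrev pre {X X' : Dual.D A} (f : X ⟶ X') (Y : Dual.D A) : (X' ⟶ Y) →ₗ[A] (X ⟶ Y) :=
  Linear.leftComp A Y f

/-- Twice shifted. -/
def shift₂ (Y : Dual.D A) (i j k : ℤ) (h : i + j = k) : (Y⟦i⟧)⟦j⟧ ≅ Y⟦k⟧ :=
  ((shiftFunctorAdd' (Dual.D A) i j k h).app Y).symm

/-- Maps out of `X⟦1⟧`. -/
def shiftOneL (X Y : Dual.D A) (i j : ℤ) (h : j + 1 = i) : (X⟦(1 : ℤ)⟧ ⟶ Y⟦i⟧) ≃ₗ[A] (X ⟶ Y⟦j⟧) :=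
  ((precompL (eqToIso (by norm_num : X⟦(1 : ℤ)⟧ = X⟦-(-1 : ℤ)⟧)) (Y⟦i⟧)).trans
    (shiftL X (Y⟦i⟧) (-1))).trans (postcompL X (shift₂ Y i (-1) j (by omega)))

theorem isNoetherian_hom_of_triangle (T : Triangle (Dual.D A)) (hT : T ∈ distTriang (Dual.D A))
    (Y : Dual.D A) [IsNoetherian A (T.obj₁ ⟶ Y)] [IsNoetherian A (T.obj₃ ⟶ Y)] :
    IsNoetherian A (T.obj₂ ⟶ Y) := by
  refine isNoetherian_of_range_eq_ker (pre T.mor₂ Y) (pre T.mor₁ Y) (Submodule.ext fun f => ?_)
  rw [LinearMap.mem_range, LinearMap.mem_ker]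
  constructor
  · rintro ⟨g, rfl⟩
    change T.mor₁ ≫ T.mor₂ ≫ g = 0
    rw [← Category.assoc, Pretriangulated.comp_distTriang_mor_zero₁₂ _ hT, zero_comp]
  · intro hf
    obtain ⟨g, hg⟩ := Triangle.yoneda_exact₂ _ hT f hf
    exact ⟨g, hg.symm⟩

section Module

variable (ω : Dual.D A)

/-- `Ext^i(M, ω)`. -/
abbrev Ext (M : ModuleCat.{u} A) (i : ℤ) : Type (u + 1) := sg M 0 ⟶ ω⟦i⟧

/-- The action of a linear map. -/
abbrev extMap {M N : ModuleCat.{u} A} (φ : M ⟶ N) (i : ℤ) : Ext ω N i →ₗ[A] Ext ω M i :=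
  pre ((DerivedCategory.singleFunctor (ModuleCat.{u} A) 0).map φ) (ω⟦i⟧)

variable {ω} {S : ShortComplex (ModuleCat.{u} A)} (hS : S.ShortExact)
include hS

theorem exists_of_extMap_f_eq_zero (i : ℤ) (f : Ext ω S.X₂ i) (hf : extMap ω S.f i f = 0) :
    ∃ g : Ext ω S.X₃ i, f = extMap ω S.g i g :=
  Triangle.yoneda_exact₂ _ hS.singleTriangle_distinguished f hf

theorem exists_extend (i : ℤ) (h : Subsingleton (Ext ω S.X₃ (i + 1))) (f : Ext ω S.X₁ i) :
    ∃ g : Ext ω S.X₂ i, f = extMap ω S.f i g := by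
  obtain ⟨g, hg⟩ := Triangle.yoneda_exact₂ _ (Pretriangulated.inv_rot_of_distTriang _
    hS.singleTriangle_distinguished) f (by
      haveI : Subsingleton (hS.singleTriangle.obj₃⟦(-1 : ℤ)⟧ ⟶ ω⟦i⟧) :=
        (shiftL _ (ω⟦i⟧) 1).toEquiv.subsingleton_congr.2
          ((postcompL _ (shift₂ ω i 1 (i + 1) rfl)).toEquiv.subsingleton_congr.2 h)
      exact Subsingleton.elim (α := hS.singleTriangle.obj₃⟦(-1 : ℤ)⟧ ⟶ ω⟦i⟧) _ _)
  exact ⟨g, hg⟩

theorem subsingleton_ext₁ (i : ℤ) (h₂ : Subsingleton (Ext ω S.X₂ i))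
    (h₃ : Subsingleton (Ext ω S.X₃ (i + 1))) : Subsingleton (Ext ω S.X₁ i) :=
  subsingleton_of_forall_eq 0 fun f => by
    obtain ⟨g, rfl⟩ := exists_extend hS i h₃ f
    rw [Subsingleton.elim g 0, map_zero]

theorem subsingleton_ext₂ (i : ℤ) (h₁ : Subsingleton (Ext ω S.X₁ i))
    (h₃ : Subsingleton (Ext ω S.X₃ i)) : Subsingleton (Ext ω S.X₂ i) :=
  subsingleton_of_forall_eq 0 fun f => by
    obtain ⟨g, rfl⟩ := exists_of_extMap_f_eq_zero hS i f (Subsingleton.elim _ _)
    rw [Subsingleton.elim g 0, map_zero]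

theorem subsingleton_ext₃ (i j : ℤ) (h : j + 1 = i) (h₁ : Subsingleton (Ext ω S.X₁ j))
    (h₂ : Subsingleton (Ext ω S.X₂ i)) : Subsingleton (Ext ω S.X₃ i) :=
  subsingleton_of_forall_eq 0 fun f => by
    obtain ⟨g, hg⟩ := Triangle.yoneda_exact₃ _ hS.singleTriangle_distinguished f (@Subsingleton.elim _ h₂ _ _)
    haveI : Subsingleton (hS.singleTriangle.obj₁⟦(1 : ℤ)⟧ ⟶ ω⟦i⟧) :=
      (shiftOneL _ ω i j h).toEquiv.subsingleton_congr.2 h₁
    rw [hg, Subsingleton.elim g 0, comp_zero]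
    rfl

theorem isNoetherian_ext₂ (i : ℤ) [IsNoetherian A (Ext ω S.X₁ i)] [IsNoetherian A (Ext ω S.X₃ i)] :
    IsNoetherian A (Ext ω S.X₂ i) :=
  @isNoetherian_hom_of_triangle A _ _ hS.singleTriangle_distinguished (ω⟦i⟧)
    (inferInstanceAs (IsNoetherian A (Ext ω S.X₁ i))) (inferInstanceAs (IsNoetherian A (Ext ω S.X₃ i)))

theorem isNoetherian_ext₃ (i j : ℤ) (h : j + 1 = i) [IsNoetherian A (Ext ω S.X₁ j)]
    [IsNoetherian A (Ext ω S.X₂ i)] : IsNoetherian A (Ext ω S.X₃ i) :=
  @isNoetherian_hom_of_triangle A _ _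
    (Pretriangulated.rot_of_distTriang _ hS.singleTriangle_distinguished) (ω⟦i⟧)
    (inferInstanceAs (IsNoetherian A (Ext ω S.X₂ i)))
    (haveI : IsNoetherian A (hS.singleTriangle.obj₁ ⟶ ω⟦j⟧) := inferInstanceAs (IsNoetherian A (Ext ω S.X₁ j))
     isNoetherian_of_linearEquiv (shiftOneL (hS.singleTriangle.obj₁) ω i j h).symm)

end Module

/-- The generator of `H^i(A[-i])`. -/
def genH (A : Type u) [CommRing A] (i : ℤ) : (hH A i).obj (sg (ModuleCat.of A A) i) :=
  (DTenLib.Point.sgH (ModuleCat.of A A) i).inv.hom (1 : A)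

/-- Maps out of `A[-i]`, evaluated. -/
def evGen (X : Dual.D A) (i : ℤ) : (sg (ModuleCat.of A A) i ⟶ X) →ₗ[A] ((hH A i).obj X) where
  toFun f := ((hH A i).map f).hom (genH A i)
  map_add' f g := by rw [Functor.map_add]; rfl
  map_smul' r f := DTenLib.Point.smul_apply r f i _

theorem evGen_injective (X : Dual.D A) (i : ℤ) : Function.Injective (evGen X i) :=
  (injective_iff_map_eq_zero _).2 fun _ hf => DTenLib.Point.evA_injective i hf

/-- `A[0]` against `ω⟦i⟧`. -/
def extRingL (ω : Dual.D A) (i : ℤ) : Ext ω (ModuleCat.of A A) i ≃ₗ[A] (sg (ModuleCat.of A A) i ⟶ ω) :=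
  (shiftL _ ω i).symm.trans
    (precompL ((DTenLib.Point.shiftSg _ 0 (-i)) ≪≫ eqToIso (by simp)) ω)

variable [IsNoetherianRing A]

theorem isNoetherian_ext_free (ω : Dual.D A) (n : ℕ) (i : ℤ) [Module.Finite A ((hH A i).obj ω)] :
    IsNoetherian A (Ext ω (ModuleCat.of A (Fin n → A)) i) := by
  classical
  haveI : IsNoetherian A (Ext ω (ModuleCat.of A A) i) :=
    isNoetherian_of_injective ((evGen ω i).comp (extRingL ω i).toLinearMap)
      ((evGen_injective ω i).comp (extRingL ω i).injective)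
  let s : Fin n → (ModuleCat.of A A ⟶ ModuleCat.of A (Fin n → A)) :=
    fun j => ModuleCat.ofHom (LinearMap.single A (fun _ => A) j)
  let p : Fin n → (ModuleCat.of A (Fin n → A) ⟶ ModuleCat.of A A) :=
    fun j => ModuleCat.ofHom (LinearMap.proj j)
  refine isNoetherian_of_injective (LinearMap.pi fun j => extMap ω (s j) i)
    ((injective_iff_map_eq_zero _).2 fun f hf => ?_)
  have h1 : 𝟙 (ModuleCat.of A (Fin n → A)) = ∑ j, p j ≫ s j :=
    ModuleCat.hom_ext (LinearMap.ext fun x => by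
      funext k
      simp [s, p, ModuleCat.hom_sum, Finset.sum_apply, Pi.single_apply])
  have h2 := congrArg (fun φ => extMap ω φ i f) h1
  change (DerivedCategory.singleFunctor (ModuleCat.{u} A) 0).map (𝟙 _) ≫ f =
    (DerivedCategory.singleFunctor (ModuleCat.{u} A) 0).map _ ≫ f at h2
  rw [CategoryTheory.Functor.map_id, Category.id_comp, Functor.map_sum, Preadditive.sum_comp] at h2
  rw [h2]
  refine Finset.sum_eq_zero fun j _ => ?_
  rw [Functor.map_comp, Category.assoc]
  have : (DerivedCategory.singleFunctor (ModuleCat.{u} A) 0).map (s j) ≫ f = 0 := congrFun hf j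
  rw [this, comp_zero]

/-- `Ext` of finite modules into a bounded below object with finite cohomology. -/
theorem isNoetherian_ext {ω : Dual.D A} {a : ℤ} (ha : ω.IsGE a)
    (hfin : ∀ i, Module.Finite A ((hH A i).obj ω)) (M : ModuleCat.{u} A) [Module.Finite A M] (i : ℤ) :
    IsNoetherian A (Ext ω M i) := by
  suffices H : ∀ (n : ℕ) (M : ModuleCat.{u} A) [Module.Finite A M] (i : ℤ), i < a + n →
      IsNoetherian A (Ext ω M i) from H (i - a + 1).toNat M i (by omega)
  intro n
  induction n with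
  | zero =>
    intro M _ i hi
    haveI : Subsingleton (Ext ω M i) := by
      refine subsingleton_of_forall_eq 0 fun f => ?_
      haveI := DerivedCategory.TStructure.t.isGE_shift ω a i (a - i) (by omega)
      exact DerivedCategory.TStructure.t.zero f 0 (a - i) (by omega)
    infer_instance
  | succ n ih =>
    intro M _ i hi
    obtain ⟨k, π, hπ⟩ := Module.Finite.exists_fin' A M
    let S : ShortComplex (ModuleCat.{u} A) := ShortComplex.mk (ModuleCat.ofHom (LinearMap.ker π).subtype)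
      (ModuleCat.ofHom π : ModuleCat.of A (Fin k → A) ⟶ M)
      (ModuleCat.hom_ext (LinearMap.ext fun x => x.2))
    have hS : S.ShortExact :=
      { exact := (ShortComplex.moduleCat_exact_iff_range_eq_ker S).2 (Submodule.range_subtype _)
        mono_f := (ModuleCat.mono_iff_injective _).2 Subtype.val_injective
        epi_g := (ModuleCat.epi_iff_surjective _).2 hπ }
    haveI : Module.Finite A S.X₁ := inferInstanceAs (Module.Finite A (LinearMap.ker π))
    haveI := ih S.X₁ (i - 1) (by push_cast at hi; omega)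
    haveI : IsNoetherian A (Ext ω S.X₂ i) := by
      haveI := hfin i
      exact isNoetherian_ext_free ω k i
    exact isNoetherian_ext₃ hS i (i - 1) (by omega)

/-- `Hom` into an object of finite injective dimension with finite cohomology. -/
theorem finite_hom {K L : Dual.D A} (hK : ∀ i, Module.Finite A ((hH A i).obj K))
    (hL : ∀ i, Module.Finite A ((hH A i).obj L)) (hLi : DRing.HasFiniteInjDim A L) (i : ℤ) :
    Module.Finite A (K ⟶ L⟦i⟧) := by
  obtain ⟨a, b, hab⟩ := hLi
  obtain ⟨E, hE, -, ⟨e⟩⟩ := id hab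
  haveI hLge : L.IsGE a := (DerivedCategory.isGE_iff L a).2 fun j hj => by
    refine IsZero.of_iso ?_ ((hH A j).mapIso e.symm ≪≫
      (DerivedCategory.homologyFunctorFactors (ModuleCat.{u} A) j).app E)
    exact (HomologicalComplex.exactAt_iff_isZero_homology E j).1
      (ShortComplex.exact_of_isZero_X₂ _ (hE j (Or.inl hj)))
  have hhi : ∀ (X : Dual.D A) (g : ℤ), X.IsGE g → b < g + i → Subsingleton (X ⟶ L⟦i⟧) := fun X g hX hg => by
    refine (shiftL X L i).symm.toEquiv.subsingleton_congr.2 (subsingleton_of_forall_eq 0 fun f => ?_)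
    exact DTenLib.hom_eq_zero_of_injAmplitude hab
      (DerivedCategory.TStructure.t.isGE_shift X g (-i) (g + i) (by omega)) hg f
  have hlo : ∀ (X : Dual.D A) (p : ℤ), X.IsLE p → p < a - i → Subsingleton (X ⟶ L⟦i⟧) := fun X p hX hp => by
    haveI := DerivedCategory.TStructure.t.isGE_shift L a i (a - i) (by omega)
    exact subsingleton_of_forall_eq 0 fun f => DerivedCategory.TStructure.t.zero f p (a - i) hp
  let P : Dual.D A → Prop := fun X => ∀ j : ℤ, IsNoetherian A (X ⟶ L⟦j⟧)
  have hd : DRingLib.Devissable P :=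
    { iso := fun {X Y : Dual.D A} (e : X ≅ Y) (h : P X) (j : ℤ) =>
        haveI := h j
        isNoetherian_of_linearEquiv (precompL e (L⟦j⟧))
      zero := fun {X : Dual.D A} (h : IsZero X) (j : ℤ) => by
        haveI : Subsingleton (X ⟶ L⟦j⟧) := ⟨fun f g => h.eq_of_src f g⟩
        infer_instance
      ext := fun T hT (h1 : P T.obj₁) (h3 : P T.obj₃) (j : ℤ) => by
        haveI := h1 j
        haveI := h3 j
        exact isNoetherian_hom_of_triangle T hT _ }
  suffices IsNoetherian A (K ⟶ L⟦i⟧) from inferInstance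
  let g : ℤ := max (b - i + 1) (a - i)
  obtain ⟨K', Y, hK', hY, f, h, d, hT⟩ := DerivedCategory.TStructure.t.exists_triangle K (g - 1) g (by omega)
  haveI hK'le : K'.IsLE (g - 1) := ⟨hK'⟩
  haveI hYge : Y.IsGE g := ⟨hY⟩
  haveI : Subsingleton ((Triangle.mk f h d).obj₃ ⟶ L⟦i⟧) := hhi Y g inferInstance (by omega)
  suffices IsNoetherian A ((Triangle.mk f h d).obj₁ ⟶ L⟦i⟧) from isNoetherian_hom_of_triangle _ hT _
  obtain ⟨X, Z, hX, hZ, f', h', d', hT'⟩ :=
    DerivedCategory.TStructure.t.exists_triangle K' (a - i - 1) (a - i) (by omega)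
  haveI hXle : X.IsLE (a - i - 1) := ⟨hX⟩
  haveI hZge : Z.IsGE (a - i) := ⟨hZ⟩
  haveI : Subsingleton ((Triangle.mk f' h' d').obj₁ ⟶ L⟦i⟧) := hlo X (a - i - 1) inferInstance (by omega)
  suffices IsNoetherian A ((Triangle.mk f' h' d').obj₃ ⟶ L⟦i⟧) from isNoetherian_hom_of_triangle _ hT' _
  have hfin' : ∀ j, Module.Finite A ((hH A j).obj K') := fun j => by
    by_cases hj : j < g
    · have hm : Mono ((hH A j).map f) := (DerivedCategory.HomologySequence.mono_homologyMap_mor₁_iff _ hT (j - 1) j (by omega)).mpr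
        ((DerivedCategory.isZero_of_isGE Y g (j - 1) (by omega)).eq_of_src _ _)
      haveI := hK j
      exact Module.Finite.of_injective ((hH A j).map f).hom ((ModuleCat.mono_iff_injective _).1 hm)
    · haveI := ModuleCat.subsingleton_of_isZero (DerivedCategory.isZero_of_isLE K' (g - 1) j (by omega))
      infer_instance
  have hiso : ∀ j, a - i ≤ j → IsIso ((hH A j).map h') := fun j hj => by
    haveI : Mono ((hH A j).map h') := (DerivedCategory.HomologySequence.exact₂ _ hT' j).mono_g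
      ((DerivedCategory.isZero_of_isLE X (a - i - 1) j (by omega)).eq_of_src _ _)
    haveI : Epi ((hH A j).map h') := (DerivedCategory.HomologySequence.exact₃ _ hT' j (j + 1) rfl).epi_f
      ((DerivedCategory.isZero_of_isLE X (a - i - 1) (j + 1) (by omega)).eq_of_tgt _ _)
    exact isIso_of_mono_of_epi ((hH A j).map h')
  refine DRingLib.Devissable.of_homology hd (a - i) (g - (a - i)).toNat Z (fun j hj => ?_) (fun j l => ?_) i
  · rcases hj with hj | hj
    · exact DerivedCategory.isZero_of_isGE Z (a - i) j hj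
    · haveI := hiso j (by omega)
      exact (DerivedCategory.isZero_of_isLE K' (g - 1) j (by omega)).of_iso (asIso ((hH A j).map h')).symm
  · haveI : Module.Finite A ((hH A j).obj Z) := by
      by_cases hj : a - i ≤ j
      · haveI := hiso j hj
        haveI := hfin' j
        exact Module.Finite.equiv (asIso ((hH A j).map h')).toLinearEquiv
      · haveI := ModuleCat.subsingleton_of_isZero (DerivedCategory.isZero_of_isGE Z (a - i) j (by omega))
        infer_instance
    haveI := isNoetherian_ext hLge hL ((hH A j).obj Z) (l + j)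
    let s : (sg ((hH A j).obj Z) 0)⟦-j⟧ ≅ sg ((hH A j).obj Z) j :=
      DTenLib.Point.shiftSg _ 0 (-j) ≪≫ eqToIso (by simp)
    exact isNoetherian_of_linearEquiv (((precompL s.symm (L⟦l⟧)).trans (shiftL _ (L⟦l⟧) j)).trans
      (postcompL _ (shift₂ L l j (l + j) rfl))).symm

end Groth.Agent.DualCxLib
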