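import Groth.Agent.DualCxLib.LocTor
import Groth.Agent.DualCxLib.DimFnLocal
import Groth.Agent.DTenLib.BaseChange
import Groth.Agent.DRingLib.LBaseChange
import Groth.Agent.DRingLib.FlatBC
import Groth.Agent.DerLib.ExactHomology

/-!
# Localization in the derived category of a ring
-/

set_option autoImplicit false
set_option linter.style.haveILetI false
set_option linter.unusedSectionVars false

universe u

open CategoryTheory CategoryTheory.Limits HomologicalComplex MonoidalCategory
open Groth.Agent DTen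
open DTenLib.Point (hH sg)

attribute [local instance] HasDerivedCategory.standard

noncomputable section

namespace Groth.Agent.DualCxLib

variable {A S : Type u} [CommRing A] [CommRing S] (φ : A →+* S)

/-- The unit of termwise base change, in the derived category. -/
def γ (P : DRing.Cx A) :
    DerivedCategory.Q.obj P ⟶ (DRing.restrictD φ).obj (DerivedCategory.Q.obj ((extCx φ).obj P)) :=
  DerivedCategory.Q.map ((unitCx φ).app P) ≫ (resFactors φ).inv.app ((extCx φ).obj P)

theorem γ_comp {P : DRing.Cx A} {N : DRing.Cx S} (g : (extCx φ).obj P ⟶ N) :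
    γ φ P ≫ (DRing.restrictD φ).map (DerivedCategory.Q.map g) =
      DerivedCategory.Q.map ((unitCx φ).app P ≫ (resCx φ).map g) ≫ (resFactors φ).inv.app N := by
  show (DerivedCategory.Q.map _ ≫ _) ≫ _ = _
  rw [Functor.map_comp, Category.assoc, Category.assoc]
  exact congrArg _ ((resFactors φ).inv.naturality g).symm

theorem γ_naturality {P P' : DRing.Cx A} (s : P' ⟶ P) :
    DerivedCategory.Q.map s ≫ γ φ P =
      γ φ P' ≫ (DRing.restrictD φ).map (DerivedCategory.Q.map ((extCx φ).map s)) := by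
  rw [γ_comp]
  show DerivedCategory.Q.map s ≫ DerivedCategory.Q.map ((unitCx φ).app P) ≫ _ = _
  rw [← Category.assoc, ← Functor.map_comp]
  have h := (unitCx φ).naturality s
  dsimp at h
  rw [h]

theorem bijective_γ {P : DRing.Cx A}
    (hP : ∀ {P' : DRing.Cx A}, DTenLib.KF P' → ∀ (s : P' ⟶ P), QuasiIso s →
      IsIso (DerivedCategory.Q.map ((extCx φ).map s))) (Y : Dual.D S) :
    Function.Bijective fun f : DerivedCategory.Q.obj ((extCx φ).obj P) ⟶ Y =>
      γ φ P ≫ (DRing.restrictD φ).map f := by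
  obtain ⟨N, hN, ⟨e⟩⟩ := DerLib.KInjUse.exists_iso_Q_kInjective Y
  suffices h : Function.Bijective fun f : DerivedCategory.Q.obj ((extCx φ).obj P) ⟶ DerivedCategory.Q.obj N =>
      γ φ P ≫ (DRing.restrictD φ).map f by
    refine ⟨fun f f' hf => (cancel_mono e.hom).1 (h.1 ?_), fun ψ => ?_⟩
    · have h' := congrArg (· ≫ (DRing.restrictD φ).map e.hom) hf
      simpa only [Category.assoc, ← Functor.map_comp] using h'
    · obtain ⟨f, hf⟩ := h.2 (ψ ≫ (DRing.restrictD φ).map e.hom)
      refine ⟨f ≫ e.inv, ?_⟩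
      simp only [Functor.map_comp] at hf ⊢
      rw [reassoc_of% hf, ← Functor.map_comp, e.hom_inv_id, CategoryTheory.Functor.map_id,
        Category.comp_id]
  constructor
  · intro f f' hf
    rw [← sub_eq_zero]
    obtain ⟨g, hg⟩ := DerLib.KInjUse.Q_map_surjective ((extCx φ).obj P) N (f - f')
    rw [← hg]
    have h0 : DerivedCategory.Q.map ((unitCx φ).app P ≫ (resCx φ).map g) = 0 := by
      rw [← cancel_mono ((resFactors φ).inv.app N), zero_comp, ← γ_comp, hg, Functor.map_sub,
        Preadditive.comp_sub]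
      exact sub_eq_zero.2 hf
    obtain ⟨P', hP', s, hs, hnull⟩ := DTenLib.exists_kf_null h0
    have e1 : DTenLib.adjCx φ (s ≫ (unitCx φ).app P ≫ (resCx φ).map g) = (extCx φ).map s ≫ g := by
      rw [DTenLib.adjCx, Functor.map_comp, Category.assoc]
      exact congrArg _ (DTenLib.adjCx_unit φ g)
    have h2 := DerLib.KInjUse.Q_map_zero_of_quotient (DTenLib.quotient_adjCx_eq_zero φ hnull)
    rw [e1, Functor.map_comp] at h2
    have := hP hP' s hs
    rwa [← cancel_epi (DerivedCategory.Q.map ((extCx φ).map s)), comp_zero]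
  · intro ψ
    obtain ⟨P', hP', s, hs, g, hsg⟩ := DTenLib.exists_kf_fraction (ψ ≫ (resFactors φ).hom.app N)
    have := hP hP' s hs
    refine ⟨inv (DerivedCategory.Q.map ((extCx φ).map s)) ≫ DerivedCategory.Q.map (DTenLib.adjCx φ g), ?_⟩
    show _ ≫ _ = ψ
    rw [← cancel_epi (DerivedCategory.Q.map s), ← Category.assoc, γ_naturality, Category.assoc,
      ← Functor.map_comp, IsIso.hom_inv_id_assoc, γ_comp, DTenLib.unit_adjCx, ← hsg, Category.assoc,
      Category.assoc, Iso.hom_inv_id_app]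
    exact congrArg _ (Category.comp_id ψ)

theorem restrictD_smul_id (r : A) (Z : Dual.D S) :
    (DRing.restrictD φ).map (φ r • 𝟙 Z) = r • 𝟙 ((DRing.restrictD φ).obj Z) := by
  let N := DerivedCategory.Q.objPreimage Z
  let e : DerivedCategory.Q.obj N ≅ Z := DerivedCategory.Q.objObjPreimageIso Z
  have h0 : (resCx φ).map (φ r • 𝟙 N) = r • 𝟙 _ := HomologicalComplex.hom_ext _ _ fun i => by
    refine ModuleCat.hom_ext (LinearMap.ext fun x => ?_)
    rfl
  have h1 : (DRing.restrictD φ).map (φ r • 𝟙 (DerivedCategory.Q.obj N)) =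
      r • 𝟙 ((DRing.restrictD φ).obj (DerivedCategory.Q.obj N)) := by
    rw [← cancel_mono ((resFactors φ).hom.app N), ← CategoryTheory.Functor.map_id, ← Functor.map_smul]
    refine ((resFactors φ).hom.naturality (φ r • 𝟙 N)).trans ?_
    show _ ≫ DerivedCategory.Q.map ((resCx φ).map (φ r • 𝟙 N)) = _
    rw [h0, Functor.map_smul, CategoryTheory.Functor.map_id, Linear.comp_smul]
    exact (congrArg (r • ·) (Category.comp_id _)).trans
      ((congrArg (r • ·) (Category.id_comp _)).symm.trans (Linear.smul_comp _ _ _ _ _ _).symm)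
  have h2 : φ r • 𝟙 Z = e.inv ≫ (φ r • 𝟙 (DerivedCategory.Q.obj N)) ≫ e.hom := by
    rw [Linear.smul_comp, Category.id_comp, Linear.comp_smul, e.inv_hom_id]
  rw [h2, Functor.map_comp, Functor.map_comp, h1, Linear.smul_comp, Category.id_comp, Linear.comp_smul,
    ← Functor.map_comp, e.inv_hom_id, CategoryTheory.Functor.map_id]

theorem restrictD_smul (r : A) {Z W : Dual.D S} (g : Z ⟶ W) :
    (DRing.restrictD φ).map (φ r • g) = r • (DRing.restrictD φ).map g := by
  have : φ r • g = g ≫ (φ r • 𝟙 W) := by rw [Linear.comp_smul, Category.comp_id]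
  rw [this, Functor.map_comp, restrictD_smul_id, Linear.comp_smul, Category.comp_id]

variable (M : Submonoid A)

/-- `η` localizes the cohomology. -/
def IsLocH {Y : Dual.D A} {W : Dual.D S} (η : Y ⟶ (DRing.restrictD φ).obj W) : Prop :=
  ∀ i, IsLocalizedModule M ((hH A i).map η).hom

/-- `η` is universal. -/
def IsUniv {X : Dual.D A} {Z : Dual.D S} (η : X ⟶ (DRing.restrictD φ).obj Z) : Prop :=
  ∀ W : Dual.D S, Function.Bijective fun f : Z ⟶ W => η ≫ (DRing.restrictD φ).map f

variable {φ M}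

theorem isLocH_shift {Y : Dual.D A} {W : Dual.D S} {η : Y ⟶ (DRing.restrictD φ).obj W}
    (h : IsLocH φ M η) (n : ℤ) :
    IsLocH φ M (η⟦n⟧' ≫ ((DRing.restrictD φ).commShiftIso n).inv.app W) := by
  intro i
  let e : shiftFunctor (Dual.D A) n ⋙ hH A i ≅ hH A (n + i) :=
    (DerivedCategory.homologyFunctor (ModuleCat.{u} A) 0).shiftIso n i (n + i) rfl
  have h1 : (hH A i).map (η⟦n⟧' ≫ ((DRing.restrictD φ).commShiftIso n).inv.app W) =
      (e.hom.app Y ≫ (hH A (n + i)).map η) ≫
        (e.inv.app _ ≫ (hH A i).map (((DRing.restrictD φ).commShiftIso n).inv.app W)) := by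
    have h3 : (hH A i).map (η⟦n⟧') = (e.hom.app Y ≫ (hH A (n + i)).map η) ≫ e.inv.app _ :=
      (NatIso.naturality_2 e η).symm.trans (Category.assoc _ _ _).symm
    rw [Functor.map_comp, h3, Category.assoc]
  rw [h1, ModuleCat.hom_comp, ModuleCat.hom_comp]
  haveI := h (n + i)
  haveI : IsLocalizedModule M (((hH A (n + i)).map η).hom.comp (e.hom.app Y).hom) :=
    IsLocalizedModule.of_linearEquiv_right M _ ((e.app Y).toLinearEquiv)
  exact IsLocalizedModule.of_linearEquiv M _
    ((e.app _).symm ≪≫ (hH A i).mapIso (((DRing.restrictD φ).commShiftIso n).app W).symm).toLinearEquiv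

section Hom

variable [IsNoetherianRing A] {X Y : Dual.D A} {Z W : Dual.D S} {ηY : Y ⟶ (DRing.restrictD φ).obj W}
  {c a : ℤ} {k : ℕ}

/-- `Hom` commutes with localization. -/
theorem hom_loc (hY : IsLocH φ M ηY) (hYge : Y.IsGE a)
    (hX : ∀ i, (i < c ∨ c + k ≤ i) → IsZero ((hH A i).obj X))
    (hXf : ∀ i, Module.Finite A ((hH A i).obj X)) :
    (∀ f : X ⟶ Y, f ≫ ηY = 0 → ∃ s ∈ M, s • f = 0) ∧
      ∀ h : X ⟶ (DRing.restrictD φ).obj W, ∃ s ∈ M, ∃ f : X ⟶ Y, s • h = f ≫ ηY := by
  obtain ⟨C, g, d, hT⟩ := Pretriangulated.distinguished_cocone_triangle ηY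
  have hWz : ∀ j, j < a → IsZero ((hH A j).obj ((DRing.restrictD φ).obj W)) := fun j hj => by
    haveI := hY j
    haveI : Subsingleton ((hH A j).obj Y) :=
      ModuleCat.subsingleton_of_isZero (DerivedCategory.isZero_of_isGE Y a j hj)
    refine @ModuleCat.isZero_of_subsingleton _ _ _ (subsingleton_of_forall_eq 0 fun x => ?_)
    obtain ⟨⟨m, s⟩, hs⟩ := IsLocalizedModule.surj M ((hH A j).map ηY).hom x
    exact IsLocalizedModule.smul_injective ((hH A j).map ηY).hom s
      (show s • x = s • (0 : (hH A j).obj ((DRing.restrictD φ).obj W)) by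
        rw [hs, Subsingleton.elim m 0, map_zero, smul_zero])
  have hCge : C.IsGE (a - 1) := (DerivedCategory.isGE_iff C (a - 1)).2 fun j hj => by
    refine (DerivedCategory.HomologySequence.exact₃ _ hT j (j + 1) rfl).isZero_of_both_zeros
      ((hWz j (by omega)).eq_of_src _ _) ?_
    exact (DerivedCategory.isZero_of_isGE Y a (j + 1) (by omega)).eq_of_tgt _ _
  have hCtor : ∀ j, Tor M ((hH A j).obj C) := fun j x => by
    haveI := hY j
    haveI := hY (j + 1)
    let δ := DerivedCategory.HomologySequence.δ (Pretriangulated.Triangle.mk ηY g d) j (j + 1) rfl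
    have h1 : ((hH A (j + 1)).map ηY).hom (δ.hom x) = 0 :=
      congr($(DerivedCategory.HomologySequence.δ_comp _ hT j (j + 1) rfl).hom x)
    obtain ⟨s, hs⟩ := (IsLocalizedModule.eq_zero_iff M _).1 h1
    have h2 : δ.hom ((s : A) • x) = 0 := (map_smul δ.hom _ _).trans hs
    obtain ⟨w, hw⟩ := ((ShortComplex.moduleCat_exact_iff _).1
      (DerivedCategory.HomologySequence.exact₃ _ hT j (j + 1) rfl)) _ h2
    obtain ⟨⟨y, t⟩, ht⟩ := IsLocalizedModule.surj M ((hH A j).map ηY).hom w
    refine ⟨(t : A) * s, M.mul_mem t.2 s.2, ?_⟩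
    have h3 : ((hH A j).map g).hom (((hH A j).map ηY).hom y) = 0 :=
      congr($(((hH A j).map_comp ηY g).symm.trans ((congrArg (hH A j).map
        (Pretriangulated.comp_distTriang_mor_zero₁₂ _ hT)).trans (Functor.map_zero _ _ _))).hom y)
    change ((hH A j).map g).hom w = (s : A) • x at hw
    refine (mul_smul _ _ _).trans ((congrArg ((t : A) • ·) hw.symm).trans ?_)
    refine (map_smul ((hH A j).map g).hom (t : A) w).symm.trans (Eq.trans ?_ h3)
    exact congrArg _ ((Submonoid.smul_def t w).symm.trans ht)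
  refine ⟨fun f hf => ?_, fun h => ?_⟩
  · obtain ⟨w, hw⟩ := Pretriangulated.Triangle.coyoneda_exact₂ _
      (Pretriangulated.inv_rot_of_distTriang _ hT) f hf
    obtain ⟨s, hs, hsw⟩ := tor_hom hCge hCtor hX hXf (-1) w
    refine ⟨s, hs, ?_⟩
    rw [hw]
    exact (Linear.smul_comp _ _ _ _ _ _).symm.trans ((congrArg (· ≫ _) hsw).trans zero_comp)
  · obtain ⟨s, hs, hsg⟩ := tor_hom hCge hCtor hX hXf 0
      ((h ≫ g) ≫ ((shiftFunctorZero (Dual.D A) ℤ).inv.app C))
    have h1 : (s • h) ≫ g = 0 := by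
      rw [← cancel_mono ((shiftFunctorZero (Dual.D A) ℤ).inv.app C), zero_comp, Linear.smul_comp,
        Linear.smul_comp]
      exact hsg
    obtain ⟨f, hf⟩ := Pretriangulated.Triangle.coyoneda_exact₂ _ hT (s • h) h1
    exact ⟨s, hs, f, hf⟩

end Hom

end Groth.Agent.DualCxLib
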