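import Groth.Agent.DualCxLib.LocApps
import Mathlib.RingTheory.Localization.Finiteness

/-!
# Being dualizing descends from an open cover
-/

set_option autoImplicit false
set_option linter.style.haveILetI false
set_option linter.unusedSectionVars false

universe u

open CategoryTheory CategoryTheory.Limits
open Groth.Agent DTen
open DTenLib.Point (hH sg)

attribute [local instance] HasDerivedCategory.standard

noncomputable section

namespace Groth.Agent.DualCxLib

variable {A : Type u} [CommRing A]

/-- The localization map at an element. -/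
abbrev awayMap (a : A) : A →+* Localization.Away a := algebraMap A (Localization.Away a)

theorem finite_localized_HD [IsNoetherianRing A] (a : A) {R : Dual.D A} {Z : Dual.D (Localization.Away a)}
    {η : R ⟶ (DRing.restrictD (awayMap a)).obj Z} (hL : IsLocH (awayMap a) (Submonoid.powers a) η) (i : ℤ)
    (h : Module.Finite (Localization.Away a) (Dual.HD (Localization.Away a) Z i)) :
    Module.Finite (Localization.Away a) (LocalizedModule.Away a (Dual.HD A R i)) := by
  obtain ⟨e⟩ := DRingLib.exists_homology_iso_mapDerived (ModuleCat.restrictScalars.{u} (awayMap a)) Z i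
  letI : Module A (Dual.HD (Localization.Away a) Z i) := Module.compHom _ (awayMap a)
  haveI : IsScalarTower A (Localization.Away a) (Dual.HD (Localization.Away a) Z i) :=
    IsScalarTower.of_algebraMap_smul fun _ _ => rfl
  let e' : (hH A i).obj ((DRing.restrictD (awayMap a)).obj Z) ≃ₗ[A] Dual.HD (Localization.Away a) Z i :=
    e.toLinearEquiv
  haveI := hL i
  haveI : IsLocalizedModule (Submonoid.powers a) (e'.toLinearMap.comp ((hH A i).map η).hom) :=
    IsLocalizedModule.of_linearEquiv _ _ e'
  exact Module.Finite.equiv ((IsLocalizedModule.iso (Submonoid.powers a)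
    (e'.toLinearMap.comp ((hH A i).map η).hom)).extendScalarsOfIsLocalization (Submonoid.powers a)
      (Localization.Away a)).symm

/-- Dualizing on an open cover. -/
theorem isDualizing_of_away [IsNoetherianRing A] {n : ℕ} (f : Fin n → A) (hf : Ideal.span (Set.range f) = ⊤)
    {R : Dual.D A} (Z : ∀ k : Fin n, Dual.D (Localization.Away (f k)))
    (η : ∀ k : Fin n, R ⟶ (DRing.restrictD (awayMap (f k))).obj (Z k))
    (hη : ∀ k : Fin n, IsUniv (awayMap (f k)) (η k))
    (hL : ∀ k : Fin n, IsLocH (awayMap (f k)) (Submonoid.powers (f k)) (η k))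
    (hZ : ∀ k : Fin n, Dual.IsDualizing (Localization.Away (f k)) (Z k)) : Dual.IsDualizing A R := by
  choose a b hab using fun k => (hZ k).finite_injective_dimension
  obtain ⟨lo, hlo⟩ := (Set.finite_range a).bddBelow
  obtain ⟨hi, hhi⟩ := (Set.finite_range b).bddAbove
  have hge : R.IsGE lo := isGE_of_subsingleton fun i hi' => (covers_away f hf).subsingleton fun k =>
    tor_HD_of_isZero _ (hL k) i
      (isZero_of_ext_ring i (hab k _ i (Or.inl (lt_of_lt_of_le hi' (hlo ⟨k, rfl⟩)))))
  have hfin : ∀ i, Module.Finite A (Dual.HD A R i) := fun i => by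
    refine Module.Finite.of_localizationSpan (Set.range f) hf fun g => ?_
    obtain ⟨_, k, rfl⟩ := g
    exact finite_localized_HD (f k) (hL k) i ((hZ k).finite_cohomology i)
  refine isDualizing_of_local (covers_away f hf) hη hL hfin hZ (a := lo) (b := hi) fun I i hi' => ?_
  refine ext_bounds_of_local (covers_away f hf) hL hge i (fun k N _ _ => ?_) (A ⧸ I)
  have h1 : lo ≤ a k := hlo ⟨k, rfl⟩
  have h2 : b k ≤ hi := hhi ⟨k, rfl⟩
  exact hab k N i (by omega)

end Groth.Agent.DualCxLib
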