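import Groth.Agent.DualCxLib.LocDualBase
import Groth.Agent.DualCxLib.FinLen

/-!
# Compatible embeddings `Ext^0(A/m^n, ω) → E` and the trace map in degree zero
-/

set_option autoImplicit false
set_option linter.style.haveILetI false
set_option linter.unusedSectionVars false

universe u

open CategoryTheory CategoryTheory.Limits
open Groth.Agent
open DTenLib.Point (hH sg)

attribute [local instance] HasDerivedCategory.standard

noncomputable section

namespace Groth.Agent.DualCxLib

variable {A : Type u} [CommRing A] [IsLocalRing A]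

/-- `A/m^n`. -/
abbrev qPow (A : Type u) [CommRing A] [IsLocalRing A] (n : ℕ) : ModuleCat.{u} A :=
  ModuleCat.of A (A ⧸ IsLocalRing.maximalIdeal A ^ n)

/-- `A/m^k → A/m^n`. -/
def qFac {n k : ℕ} (h : n ≤ k) : qPow A k ⟶ qPow A n :=
  ModuleCat.ofHom (Submodule.factor (Ideal.pow_le_pow_right h))

/-- The map `A/m^n → M` of an element killed by `m^n`. -/
def eltMap {M : ModuleCat.{u} A} (n : ℕ) (x : M) (hx : ∀ a ∈ IsLocalRing.maximalIdeal A ^ n, a • x = 0) :
    qPow A n ⟶ M :=
  ModuleCat.ofHom (Submodule.liftQ _ (LinearMap.toSpanSingleton A M x) fun a ha => hx a ha)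

theorem eltMap_fac {M : ModuleCat.{u} A} {n k : ℕ} (h : n ≤ k) (x : M)
    (hx : ∀ a ∈ IsLocalRing.maximalIdeal A ^ n, a • x = 0) :
    qFac h ≫ eltMap n x hx = eltMap k x (fun a ha => hx a (Ideal.pow_le_pow_right h ha)) :=
  ModuleCat.hom_ext (Submodule.linearMap_qext _ (LinearMap.ext_ring rfl))

theorem eltMap_comp {M N : ModuleCat.{u} A} (φ : M ⟶ N) (n : ℕ) (x : M)
    (hx : ∀ a ∈ IsLocalRing.maximalIdeal A ^ n, a • x = 0) :
    eltMap n x hx ≫ φ = eltMap n (φ.hom x) (fun a ha => by rw [← map_smul, hx a ha, map_zero]) :=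
  ModuleCat.hom_ext (Submodule.linearMap_qext _ (LinearMap.ext_ring (φ.hom.map_smul 1 x)))

theorem eltMap_add {M : ModuleCat.{u} A} (n : ℕ) (x y : M) (hx : ∀ a ∈ IsLocalRing.maximalIdeal A ^ n, a • x = 0)
    (hy : ∀ a ∈ IsLocalRing.maximalIdeal A ^ n, a • y = 0) :
    eltMap n (x + y) (fun a ha => by rw [smul_add, hx a ha, hy a ha, add_zero]) = eltMap n x hx + eltMap n y hy :=
  ModuleCat.hom_ext (Submodule.linearMap_qext _ (LinearMap.ext_ring (smul_add (1 : A) x y)))

theorem eltMap_smul {M : ModuleCat.{u} A} (n : ℕ) (r : A) (x : M) (hx : ∀ a ∈ IsLocalRing.maximalIdeal A ^ n, a • x = 0) :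
    eltMap n (r • x) (fun a ha => by rw [smul_comm, hx a ha, smul_zero]) = r • eltMap n x hx :=
  ModuleCat.hom_ext (Submodule.linearMap_qext _ (LinearMap.ext_ring (smul_comm (1 : A) r x)))

variable (ω : Dual.D A)

/-- The transition maps. -/
abbrev qTrans {n k : ℕ} (h : n ≤ k) : Ext ω (qPow A n) 0 →ₗ[A] Ext ω (qPow A k) 0 := extMap ω (qFac h) 0

theorem qTrans_trans {n k l : ℕ} (h : n ≤ k) (h' : k ≤ l) (g : Ext ω (qPow A n) 0) :
    qTrans ω h' (qTrans ω h g) = qTrans ω (h.trans h') g := by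
  rw [← extMap_comp]
  exact congrArg (fun φ => extMap ω φ 0 g) (ModuleCat.hom_ext (Submodule.linearMap_qext _ (LinearMap.ext_ring rfl)))

theorem pow_smul_ext (n : ℕ) (a : A) (ha : a ∈ IsLocalRing.maximalIdeal A ^ n) (i : ℤ)
    (g : Ext ω (qPow A n) i) : a • g = 0 := by
  rw [← extMap_smul_id a (qPow A n) i, show a • 𝟙 (qPow A n) = 0 from ModuleCat.hom_ext (LinearMap.ext fun z => by
    obtain ⟨z, rfl⟩ := Submodule.Quotient.mk_surjective _ z
    exact (Submodule.Quotient.mk_eq_zero _).2 (Ideal.mul_mem_right _ _ ha))]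
  show (DerivedCategory.singleFunctor (ModuleCat.{u} A) 0).map 0 ≫ g = 0
  rw [Functor.map_zero, zero_comp]

variable [IsNoetherianRing A] {ω}

theorem subsingleton_qExt_zero : Subsingleton (Ext ω (qPow A 0) 0) :=
  subsingleton_of_forall_eq 0 fun g => by
    rw [← one_smul A g]
    exact pow_smul_ext ω 0 1 (by simp) 0 g

theorem qTrans_injective (hn : Dual.IsNormalized A ω) {n k : ℕ} (h : n ≤ k) : Function.Injective (qTrans ω h) := by
  let S : ShortComplex (ModuleCat.{u} A) := ShortComplex.mk (ModuleCat.ofHom (LinearMap.ker (qFac (A := A) h).hom).subtype)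
    (qFac (A := A) h) (ModuleCat.hom_ext (LinearMap.ext fun x => x.2))
  have hS : S.ShortExact :=
    { exact := (ShortComplex.moduleCat_exact_iff_range_eq_ker S).2 (Submodule.range_subtype _)
      mono_f := (ModuleCat.mono_iff_injective _).2 Subtype.val_injective
      epi_g := (ModuleCat.epi_iff_surjective _).2 (Submodule.factor_surjective (Ideal.pow_le_pow_right h)) }
  haveI : Subsingleton (Ext ω S.X₁ (-1)) := by
    obtain ⟨_, _⟩ := isFiniteLength_iff_isNoetherian_isArtinian.1
      (InjHullLib.isFiniteLength_quotient_pow (m := IsLocalRing.maximalIdeal A) k)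
    exact subsingleton_ext_finLen hn (LinearMap.ker (qFac (A := A) h).hom)
      (isFiniteLength_iff_isNoetherian_isArtinian.2 ⟨inferInstance, inferInstance⟩) (-1) (by omega)
  refine (injective_iff_map_eq_zero _).2 fun g hg => ?_
  obtain ⟨w, rfl⟩ := exists_conn_eq ω hS (-1) 0 rfl g hg
  rw [Subsingleton.elim w 0, map_zero]

variable {E : Type u} [AddCommGroup E] [Module A E] {f : IsLocalRing.ResidueField A →ₗ[A] E}

/-- An embedding has the torsion of the hull as its image. -/
theorem range_eq_torsion (hω : Dual.IsDualizing A ω) (hn : Dual.IsNormalized A ω) (hf : InjHull.IsInjectiveHull f)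
    (n : ℕ) (φ : Ext ω (qPow A (n + 1)) 0 →ₗ[A] E) (hφ : Function.Injective φ) :
    LinearMap.range φ = LocCoh.torsionBy (IsLocalRing.maximalIdeal A ^ (n + 1)) E := by
  have hfl := InjHullLib.isFiniteLength_quotient_pow (m := IsLocalRing.maximalIdeal A) (n + 1)
  obtain ⟨e⟩ := nonempty_ext_quot_equiv hω hn hf _ (Ideal.pow_le_self (Nat.succ_ne_zero n)) hfl
  have hle : LinearMap.range φ ≤ LocCoh.torsionBy (IsLocalRing.maximalIdeal A ^ (n + 1)) E := by
    rintro _ ⟨g, rfl⟩
    exact InjHullLib.mem_torsionBy_iff.2 fun a ha => by rw [← map_smul, pow_smul_ext ω _ a ha 0 g, map_zero]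
  have hfin : Module.length A (LocCoh.torsionBy (IsLocalRing.maximalIdeal A ^ (n + 1)) E) ≠ ⊤ := by
    rw [← e.length_eq, length_ext_finLen hω hn _ hfl]
    exact Module.length_ne_top_iff.2 hfl
  refine hle.eq_or_lt.elim id fun hlt => ?_
  exfalso
  obtain ⟨_, _⟩ := isFiniteLength_iff_isNoetherian_isArtinian.1 (Module.length_ne_top_iff.1 hfin)
  let ψ := φ.codRestrict _ fun g => hle ⟨g, rfl⟩
  have hψ : LinearMap.range ψ ≠ ⊤ := fun htop => hlt.ne (le_antisymm hle fun x hx => by
    obtain ⟨g, hg⟩ := LinearMap.range_eq_top.1 htop ⟨x, hx⟩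
    exact ⟨g, congrArg Subtype.val hg⟩)
  have h := Submodule.length_lt hψ
  rw [← (LinearEquiv.ofInjective ψ fun a b hab => hφ (congrArg Subtype.val hab)).length_eq, e.length_eq] at h
  exact lt_irrefl _ h

theorem exists_qExt_step (hω : Dual.IsDualizing A ω) (hn : Dual.IsNormalized A ω) (hf : InjHull.IsInjectiveHull f)
    (n : ℕ) (φ : Ext ω (qPow A (n + 1)) 0 →ₗ[A] E) (hφ : Function.Injective φ) :
    ∃ ψ : Ext ω (qPow A (n + 2)) 0 →ₗ[A] E, Function.Injective ψ ∧ ψ ∘ₗ qTrans ω (Nat.le_succ (n + 1)) = φ := by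
  obtain ⟨e⟩ := nonempty_ext_quot_equiv hω hn hf _ (Ideal.pow_le_self (Nat.succ_ne_zero (n + 1)))
    (InjHullLib.isFiniteLength_quotient_pow (m := IsLocalRing.maximalIdeal A) (n + 2))
  let e' : Ext ω (qPow A (n + 2)) 0 →ₗ[A] E := (Submodule.subtype _).comp e.toLinearMap
  have he' : Function.Injective e' := Subtype.val_injective.comp e.injective
  let j := e' ∘ₗ qTrans ω (Nat.le_succ (n + 1))
  have hj : Function.Injective j := he'.comp (qTrans_injective hn _)
  obtain ⟨γ, hγ⟩ := (Module.Baer.of_injective hf.isInjective).extension_property j hj φ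
  have hγi : Function.Injective γ := by
    rw [← LinearMap.ker_eq_bot]
    by_contra hne
    obtain ⟨y, ⟨hy, c, rfl⟩, hy0⟩ := Submodule.exists_mem_ne_zero_of_ne_bot (hf.essential _ hne)
    have hmem : f c ∈ LinearMap.range j := by
      rw [range_eq_torsion hω hn hf n j hj]
      exact InjHullLib.mem_torsionBy_iff.2 fun a ha => by
        rw [← map_smul]
        obtain ⟨r, rfl⟩ := IsLocalRing.residue_surjective c
        rw [show a • IsLocalRing.residue A r = 0 from by
          rw [Algebra.smul_def, IsLocalRing.ResidueField.algebraMap_eq, IsLocalRing.residue_eq_zero_iff _ |>.2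
            (Ideal.pow_le_self (Nat.succ_ne_zero n) ha), zero_mul], map_zero]
    obtain ⟨z, hz⟩ := hmem
    have h1 : φ z = 0 := by
      rw [← hγ, LinearMap.comp_apply, hz]
      exact hy
    rw [hφ (h1.trans (map_zero φ).symm), map_zero] at hz
    exact hy0 hz.symm
  exact ⟨γ ∘ₗ e', hγi.comp he', by rw [LinearMap.comp_assoc]; exact hγ⟩

/-- Compatible embeddings of the `Ext^0(A/m^n, ω)`. -/
structure Traces (ω : Dual.D A) (E : Type u) [AddCommGroup E] [Module A E] where
  /-- the embeddings -/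
  ι : ∀ n, Ext ω (qPow A n) 0 →ₗ[A] E
  injective : ∀ n, Function.Injective (ι n)
  compat : ∀ {n k : ℕ} (h : n ≤ k) (g : Ext ω (qPow A n) 0), ι k (qTrans ω h g) = ι n g
  surj : ∀ x : E, ∃ (n : ℕ) (g : Ext ω (qPow A n) 0), ι n g = x

theorem nonempty_traces (hω : Dual.IsDualizing A ω) (hn : Dual.IsNormalized A ω) (hf : InjHull.IsInjectiveHull f) :
    Nonempty (Traces ω E) := by
  classical
  have h1 : ∃ φ : Ext ω (qPow A 1) 0 →ₗ[A] E, Function.Injective φ := by
    obtain ⟨e⟩ := nonempty_ext_quot_equiv hω hn hf _ (Ideal.pow_le_self one_ne_zero)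
      (InjHullLib.isFiniteLength_quotient_pow (m := IsLocalRing.maximalIdeal A) 1)
    exact ⟨(Submodule.subtype _).comp e.toLinearMap, Subtype.val_injective.comp e.injective⟩
  choose step hinj hcomp using exists_qExt_step hω hn hf
  let s : ∀ n, {φ : Ext ω (qPow A (n + 1)) 0 →ₗ[A] E // Function.Injective φ} := fun n =>
    Nat.rec (motive := fun n => {φ : Ext ω (qPow A (n + 1)) 0 →ₗ[A] E // Function.Injective φ})
      ⟨h1.choose, h1.choose_spec⟩ (fun k φ => ⟨step k φ.1 φ.2, hinj k φ.1 φ.2⟩) n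
  let ι : ∀ n, Ext ω (qPow A n) 0 →ₗ[A] E := fun n => match n with
    | 0 => 0
    | n + 1 => (s n).1
  have hι : ∀ n, Function.Injective (ι n) := fun n => match n with
    | 0 => fun a b _ => subsingleton_qExt_zero.elim a b
    | n + 1 => (s n).2
  have hc : ∀ n g, ι (n + 1) (qTrans ω (Nat.le_succ n) g) = ι n g := fun n => match n with
    | 0 => fun g => by rw [subsingleton_qExt_zero.elim g 0, map_zero, map_zero, map_zero]
    | n + 1 => fun g => LinearMap.congr_fun (hcomp n (s n).1 (s n).2) g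
  refine ⟨⟨ι, hι, fun {n k} h g => ?_, fun x => ?_⟩⟩
  · induction k, h using Nat.le_induction with
    | base =>
      show ι n (extMap ω (qFac (A := A) (le_refl n)) 0 g) = ι n g
      rw [show qFac (A := A) (le_refl n) = 𝟙 (qPow A n) from ModuleCat.hom_ext (Submodule.linearMap_qext _ (LinearMap.ext_ring rfl)),
        extMap_id]
    | succ k hk ih => rw [← qTrans_trans ω hk (Nat.le_succ k) g, hc, ih]
  · obtain ⟨n, hx⟩ := InjHullLib.isPowerTorsion_hull_local hf x
    have : x ∈ LinearMap.range (ι (n + 1)) := by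
      rw [range_eq_torsion hω hn hf n (ι (n + 1)) (hι _)]
      exact InjHullLib.mem_torsionBy_iff.2 fun a ha => hx a (Ideal.pow_le_pow_right (Nat.le_succ n) ha)
    obtain ⟨g, hg⟩ := this
    exact ⟨n + 1, g, hg⟩

namespace Traces

variable (T : Traces ω E) {M N : ModuleCat.{u} A}

/-- The pairing of a torsion element with `Ext^0`. -/
def tr (n : ℕ) (x : M) (hx : ∀ a ∈ IsLocalRing.maximalIdeal A ^ n, a • x = 0) : Ext ω M 0 →ₗ[A] E :=
  T.ι n ∘ₗ extMap ω (eltMap n x hx) 0

theorem tr_le {n k : ℕ} (h : n ≤ k) (x : M) (hx : ∀ a ∈ IsLocalRing.maximalIdeal A ^ n, a • x = 0) :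
    T.tr k x (fun a ha => hx a (Ideal.pow_le_pow_right h ha)) = T.tr n x hx := LinearMap.ext fun g => by
  show T.ι k (extMap ω (eltMap k x _) 0 g) = T.ι n (extMap ω (eltMap n x hx) 0 g)
  rw [← eltMap_fac h x hx, extMap_comp]
  exact T.compat h _

theorem tr_eq {n k : ℕ} (x : M) (hx : ∀ a ∈ IsLocalRing.maximalIdeal A ^ n, a • x = 0)
    (hx' : ∀ a ∈ IsLocalRing.maximalIdeal A ^ k, a • x = 0) : T.tr n x hx = T.tr k x hx' :=
  (T.tr_le (le_max_left n k) x hx).symm.trans (T.tr_le (le_max_right n k) x hx')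

/-- The trace in degree zero. -/
def theta (M : ModuleCat.{u} A) :
    DRing.torsionSub (IsLocalRing.maximalIdeal A) M →ₗ[A] (Ext ω M 0 →ₗ[A] E) where
  toFun x := T.tr x.2.choose x.1 x.2.choose_spec
  map_add' x y := by
    let n := max x.2.choose y.2.choose
    have hx := fun a (ha : a ∈ IsLocalRing.maximalIdeal A ^ n) =>
      x.2.choose_spec a (Ideal.pow_le_pow_right (le_max_left _ _) ha)
    have hy := fun a (ha : a ∈ IsLocalRing.maximalIdeal A ^ n) =>
      y.2.choose_spec a (Ideal.pow_le_pow_right (le_max_right _ _) ha)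
    rw [T.tr_eq (x + y).1 _ (k := n) (fun a ha => by rw [Submodule.coe_add, smul_add, hx a ha, hy a ha, add_zero]),
      T.tr_eq x.1 _ hx, T.tr_eq y.1 _ hy]
    refine LinearMap.ext fun g => ?_
    show T.ι n (extMap ω (eltMap n (x.1 + y.1) _) 0 g) = T.ι n _ + T.ι n _
    rw [eltMap_add n x.1 y.1 hx hy, extMap_add, map_add]
  map_smul' r x := by
    rw [T.tr_eq (r • x).1 _ (k := x.2.choose)
      (fun a ha => by rw [Submodule.coe_smul, smul_comm, x.2.choose_spec a ha, smul_zero]), RingHom.id_apply]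
    refine LinearMap.ext fun g => ?_
    show T.ι _ (extMap ω (eltMap _ (r • x.1) _) 0 g) = r • T.ι _ _
    rw [eltMap_smul _ r x.1 x.2.choose_spec, extMap_smul, map_smul]

theorem theta_apply (x : DRing.torsionSub (IsLocalRing.maximalIdeal A) M) (n : ℕ)
    (hx : ∀ a ∈ IsLocalRing.maximalIdeal A ^ n, a • x.1 = 0) (g : Ext ω M 0) :
    T.theta M x g = T.ι n (extMap ω (eltMap n x.1 hx) 0 g) :=
  LinearMap.congr_fun (T.tr_eq x.1 x.2.choose_spec hx) g

theorem theta_natural (φ : M ⟶ N) (x : DRing.torsionSub (IsLocalRing.maximalIdeal A) M) (g : Ext ω N 0) :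
    T.theta N ((((DRing.gammaI (IsLocalRing.maximalIdeal A)).map φ).hom x)) g = T.theta M x (extMap ω φ 0 g) := by
  obtain ⟨n, hn⟩ := x.2
  rw [T.theta_apply x n hn, ← extMap_comp, eltMap_comp]
  exact T.theta_apply _ n _ g

end Traces

end Groth.Agent.DualCxLib
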