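import Groth.Agent.DualCxLib.ExtTri
import Groth.Agent.DualCxLib.Biduality

/-!
# Torsion of `Hom` into an object with torsion cohomology
-/

set_option autoImplicit false
set_option linter.style.haveILetI false
set_option linter.unusedSectionVars false

universe u

open CategoryTheory CategoryTheory.Limits
open Groth.Agent
open DTenLib.Point (hH sg)

attribute [local instance] HasDerivedCategory.standard

noncomputable section

namespace Groth.Agent.DualCxLib

variable {A : Type u} [CommRing A]

/-- Every element is killed by an element of `M`. -/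
def Tor (M : Submonoid A) (V : Type*) [AddCommGroup V] [Module A V] : Prop :=
  ∀ x : V, ∃ s ∈ M, s • x = 0

section Tor

variable {M : Submonoid A} {V W : Type*} [AddCommGroup V] [Module A V] [AddCommGroup W] [Module A W]

theorem tor_of_subsingleton [Subsingleton V] : Tor M V := fun _ => ⟨1, M.one_mem, Subsingleton.elim _ _⟩

theorem Tor.of_injective (f : V →ₗ[A] W) (hf : Function.Injective f) (h : Tor M W) : Tor M V := fun x => by
  obtain ⟨s, hs, hx⟩ := h (f x)
  exact ⟨s, hs, hf (by rw [map_smul, hx, map_zero])⟩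

theorem tor_pi {ι : Type*} [Fintype ι] {V : ι → Type*} [∀ i, AddCommGroup (V i)] [∀ i, Module A (V i)]
    (h : ∀ i, Tor M (V i)) : Tor M (∀ i, V i) := fun x => by
  classical
  choose s hs hx using fun i => h i (x i)
  refine ⟨∏ i, s i, Submonoid.prod_mem _ fun i _ => hs i, funext fun i => ?_⟩
  obtain ⟨c, hc⟩ := Finset.dvd_prod_of_mem s (Finset.mem_univ i)
  rw [Pi.smul_apply, hc, mul_comm, mul_smul, hx, smul_zero, Pi.zero_apply]

end Tor

variable [IsNoetherianRing A] {M : Submonoid A} {C : Dual.D A}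

theorem tor_ext_free (hC : ∀ i, Tor M ((hH A i).obj C)) (n : ℕ) (i : ℤ) :
    Tor M (Ext C (ModuleCat.of A (Fin n → A)) i) := by
  classical
  have h1 : Tor M (Ext C (ModuleCat.of A A) i) :=
    (hC i).of_injective ((evGen C i).comp (extRingL C i).toLinearMap)
      ((evGen_injective C i).comp (extRingL C i).injective)
  let s : Fin n → (ModuleCat.of A A ⟶ ModuleCat.of A (Fin n → A)) :=
    fun j => ModuleCat.ofHom (LinearMap.single A (fun _ => A) j)
  let p : Fin n → (ModuleCat.of A (Fin n → A) ⟶ ModuleCat.of A A) :=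
    fun j => ModuleCat.ofHom (LinearMap.proj j)
  refine (tor_pi fun _ : Fin n => h1).of_injective (LinearMap.pi fun j => extMap C (s j) i)
    ((injective_iff_map_eq_zero _).2 fun f hf => ?_)
  have h2 : 𝟙 (ModuleCat.of A (Fin n → A)) = ∑ j, p j ≫ s j :=
    ModuleCat.hom_ext (LinearMap.ext fun x => by
      funext k
      simp [s, p, ModuleCat.hom_sum, Finset.sum_apply, Pi.single_apply])
  have h3 := congrArg (fun φ => extMap C φ i f) h2
  change (DerivedCategory.singleFunctor (ModuleCat.{u} A) 0).map (𝟙 _) ≫ f =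
    (DerivedCategory.singleFunctor (ModuleCat.{u} A) 0).map _ ≫ f at h3
  rw [CategoryTheory.Functor.map_id, Category.id_comp, Functor.map_sum, Preadditive.sum_comp] at h3
  rw [h3]
  refine Finset.sum_eq_zero fun j _ => ?_
  rw [Functor.map_comp, Category.assoc]
  have : (DerivedCategory.singleFunctor (ModuleCat.{u} A) 0).map (s j) ≫ f = 0 := congrFun hf j
  rw [this, comp_zero]

/-- `Ext` of finite modules into an object with torsion cohomology is torsion. -/
theorem tor_ext {a : ℤ} (ha : C.IsGE a) (hC : ∀ i, Tor M ((hH A i).obj C)) (N : ModuleCat.{u} A)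
    [Module.Finite A N] (i : ℤ) : Tor M (Ext C N i) := by
  suffices H : ∀ (n : ℕ) (N : ModuleCat.{u} A) [Module.Finite A N] (i : ℤ), i < a + n →
      Tor M (Ext C N i) from H (i - a + 1).toNat N i (by omega)
  intro n
  induction n with
  | zero =>
    intro N _ i hi
    haveI : Subsingleton (Ext C N i) := by
      refine subsingleton_of_forall_eq 0 fun f => ?_
      haveI := DerivedCategory.TStructure.t.isGE_shift C a i (a - i) (by omega)
      exact DerivedCategory.TStructure.t.zero f 0 (a - i) (by omega)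
    exact tor_of_subsingleton
  | succ n ih =>
    intro N _ i hi
    obtain ⟨k, π, hπ⟩ := Module.Finite.exists_fin' A N
    let S : ShortComplex (ModuleCat.{u} A) := ShortComplex.mk (ModuleCat.ofHom (LinearMap.ker π).subtype)
      (ModuleCat.ofHom π : ModuleCat.of A (Fin k → A) ⟶ N)
      (ModuleCat.hom_ext (LinearMap.ext fun x => x.2))
    have hS : S.ShortExact :=
      { exact := (ShortComplex.moduleCat_exact_iff_range_eq_ker S).2 (Submodule.range_subtype _)
        mono_f := (ModuleCat.mono_iff_injective _).2 Subtype.val_injective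
        epi_g := (ModuleCat.epi_iff_surjective _).2 hπ }
    haveI : Module.Finite A S.X₁ := inferInstanceAs (Module.Finite A (LinearMap.ker π))
    intro f
    obtain ⟨s, hs, hsf⟩ := tor_ext_free hC k i (extMap C S.g i f)
    obtain ⟨w, hw⟩ := Pretriangulated.Triangle.yoneda_exact₃ _ hS.singleTriangle_distinguished (s • f)
      (by show extMap C S.g i (s • f) = 0; rw [map_smul]; exact hsf)
    obtain ⟨t, ht, htw⟩ := ih S.X₁ (i - 1) (by push_cast at hi; omega)
      (shiftOneL _ C i (i - 1) (by omega) w)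
    replace htw : t • w = 0 :=
      ((shiftOneL _ C i (i - 1) (by omega)).map_eq_zero_iff).1 ((map_smul _ t w).trans htw)
    refine ⟨t * s, M.mul_mem ht hs, ?_⟩
    refine (mul_smul _ _ _).trans ((congrArg (t • ·) hw).trans ?_)
    exact (Linear.comp_smul _ _ _ _ _ _).symm.trans ((congrArg (_ ≫ ·) htw).trans comp_zero)

/-- `Hom` out of a bounded object with finite cohomology. -/
theorem tor_hom {a : ℤ} (ha : C.IsGE a) (hC : ∀ i, Tor M ((hH A i).obj C)) {X : Dual.D A} {c : ℤ} {k : ℕ}
    (hX : ∀ i, (i < c ∨ c + k ≤ i) → IsZero ((hH A i).obj X))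
    (hXf : ∀ i, Module.Finite A ((hH A i).obj X)) (i : ℤ) : Tor M (X ⟶ C⟦i⟧) := by
  let P : Dual.D A → Prop := fun X => ∀ j : ℤ, Tor M (X ⟶ C⟦j⟧)
  have hd : DRingLib.Devissable P :=
    { iso := fun {X Y : Dual.D A} (e : X ≅ Y) (h : P X) (j : ℤ) =>
        (h j).of_injective (precompL e (C⟦j⟧)).symm.toLinearMap (precompL e (C⟦j⟧)).symm.injective
      zero := fun {X : Dual.D A} (h : IsZero X) (j : ℤ) => by
        haveI : Subsingleton (X ⟶ C⟦j⟧) := ⟨fun f g => h.eq_of_src f g⟩
        exact tor_of_subsingleton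
      ext := fun T hT (h1 : P T.obj₁) (h3 : P T.obj₃) (j : ℤ) f => by
        obtain ⟨s, hs, hsf⟩ := h1 j (T.mor₁ ≫ f)
        obtain ⟨w, hw⟩ := Pretriangulated.Triangle.yoneda_exact₂ _ hT (s • f)
          (by rw [Linear.comp_smul]; exact hsf)
        obtain ⟨t, ht, htw⟩ := h3 j w
        exact ⟨t * s, M.mul_mem ht hs, by rw [mul_smul, hw, ← Linear.comp_smul, htw, comp_zero]⟩ }
  refine DRingLib.Devissable.of_homology hd c k X hX (fun j l => ?_) i
  haveI := hXf j
  let s : (sg ((hH A j).obj X) 0)⟦-j⟧ ≅ sg ((hH A j).obj X) j :=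
    DTenLib.Point.shiftSg _ 0 (-j) ≪≫ eqToIso (by simp)
  let e := (((precompL s.symm (C⟦l⟧)).trans (shiftL _ (C⟦l⟧) j)).trans
    (postcompL _ (shift₂ C l j (l + j) rfl)))
  exact (tor_ext ha hC _ (l + j)).of_injective e.toLinearMap e.injective

end Groth.Agent.DualCxLib
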