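import Groth.Agent.DualCxLib.Loc

/-!
# The unit of termwise localization
-/

set_option autoImplicit false
set_option linter.style.haveILetI false
set_option linter.unusedSectionVars false

universe u

open CategoryTheory CategoryTheory.Limits HomologicalComplex
open Groth.Agent DTen
open DTenLib.Point (hH sg)
open scoped TensorProduct

attribute [local instance] HasDerivedCategory.standard

noncomputable section

namespace Groth.Agent.DualCxLib

section Unit

variable {A S : Type u} [CommRing A] [CommRing S] [Algebra A S] (M : Submonoid A) [IsLocalization M S]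

local notation "φ" => algebraMap A S

/-- The underlying module of the base change. -/
def extEquiv (N : ModuleCat.{u} A) :
    ((ModuleCat.restrictScalars φ).obj ((ModuleCat.extendScalars.{u, u, u} φ).obj N) : Type u) ≃ₗ[A]
      S ⊗[A] N :=
  TensorProduct.congr
    ({ AddEquiv.refl S with map_smul' := fun a x => (Algebra.smul_def a (show S from x)).symm } :
      (ModuleCat.restrictScalars φ).obj (ModuleCat.of _ S) ≃ₗ[A] S)
    (LinearEquiv.refl A N)

theorem isLocalizedModule_unit (N : ModuleCat.{u} A) :
    IsLocalizedModule M ((ModuleCat.extendRestrictScalarsAdj.{u, u, u} φ).unit.app N).hom := by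
  haveI : IsLocalizedModule M (TensorProduct.mk A S N 1) :=
    (isLocalizedModule_iff_isBaseChange M S _).2 (TensorProduct.isBaseChange A N S)
  have h : ((ModuleCat.extendRestrictScalarsAdj.{u, u, u} φ).unit.app N).hom =
      (extEquiv (S := S) N).symm.toLinearMap.comp (TensorProduct.mk A S N 1) := LinearMap.ext fun x =>
    (extEquiv (S := S) N).injective
      (Eq.trans rfl ((extEquiv (S := S) N).apply_symm_apply ((1 : S) ⊗ₜ[A] x)).symm)
  rw [h]
  exact IsLocalizedModule.of_linearEquiv M _ (extEquiv (S := S) N).symm

include M in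
theorem flat_φ : (algebraMap A S).Flat :=
  RingHom.flat_algebraMap_iff.2 (IsLocalization.flat S M)

/-- The unit of termwise localization localizes cohomology. -/
theorem isLocH_γ (P : DRing.Cx A) : IsLocH φ M (γ φ P) := by
  intro i
  let G := ModuleCat.extendScalars.{u, u, u} φ ⋙ ModuleCat.restrictScalars.{u} φ
  haveI : PreservesFiniteLimits (ModuleCat.extendScalars.{u, u, u} φ) :=
    ModuleCat.preservesFiniteLimits_extendScalars_of_flat (flat_φ M)
  haveI : PreservesFiniteLimits G := comp_preservesFiniteLimits _ _
  haveI : PreservesFiniteColimits G := comp_preservesFiniteColimits _ _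
  let η : 𝟭 (ModuleCat.{u} A) ⟶ G := (ModuleCat.extendRestrictScalarsAdj.{u, u, u} φ).unit
  let FF := DerivedCategory.homologyFunctorFactors (ModuleCat.{u} A) i
  let e : (hH A i).obj (DerivedCategory.Q.obj P) ≅ (P.sc i).homology :=
    FF.app P ≪≫ ((P.sc i).mapHomologyIso (𝟭 _))
  let e' : (hH A i).obj ((DRing.restrictD φ).obj (DerivedCategory.Q.obj ((extCx φ).obj P))) ≅
      G.obj (P.sc i).homology :=
    (hH A i).mapIso ((resFactors φ).app ((extCx φ).obj P)) ≪≫ FF.app _ ≪≫ (P.sc i).mapHomologyIso G
  have h : (hH A i).map (γ φ P) = e.hom ≫ η.app (P.sc i).homology ≫ e'.inv := by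
    rw [← Category.assoc, Iso.eq_comp_inv, NatTrans.app_homology η (P.sc i)]
    show (hH A i).map (γ φ P) ≫ (hH A i).map ((resFactors φ).hom.app _) ≫ FF.hom.app _ ≫ _ =
      (FF.hom.app P ≫ _) ≫ _
    rw [← Category.assoc ((hH A i).map (γ φ P)), ← Functor.map_comp]
    have h1 : γ φ P ≫ (resFactors φ).hom.app ((extCx φ).obj P) = DerivedCategory.Q.map ((unitCx φ).app P) :=
      (Category.assoc _ _ _).trans ((congrArg (DerivedCategory.Q.map ((unitCx φ).app P) ≫ ·) ((resFactors φ).inv_hom_id_app ((extCx φ).obj P))).trans (Category.comp_id _))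
    rw [h1, ← Category.assoc, Category.assoc (FF.hom.app P)]
    refine Eq.trans ?_ (congrArg (FF.hom.app P ≫ ·) ((Iso.hom_inv_id_assoc _ _).symm))
    refine Eq.trans ?_ (Category.assoc _ _ _)
    exact congrArg (· ≫ ((P.sc i).mapHomologyIso G).hom) (FF.hom.naturality ((unitCx φ).app P))
  rw [h, ModuleCat.hom_comp, ModuleCat.hom_comp]
  haveI : IsLocalizedModule M (η.app (P.sc i).homology).hom := isLocalizedModule_unit M _
  haveI : IsLocalizedModule M (e'.inv.hom.comp (η.app (P.sc i).homology).hom) :=
    IsLocalizedModule.of_linearEquiv M _ e'.symm.toLinearEquiv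
  exact IsLocalizedModule.of_linearEquiv_right M _ e.toLinearEquiv

end Unit

end Groth.Agent.DualCxLib
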