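import Groth.Agent.DualCxLib.DepthApps

/-!
# The lowest cohomology of a dualizing complex satisfies (S₂)
-/

set_option autoImplicit false
set_option linter.style.haveILetI false
set_option linter.unusedSectionVars false

universe u

open CategoryTheory CategoryTheory.Limits
open Groth.Agent
open DTenLib.Point (hH sg kM)

attribute [local instance] HasDerivedCategory.standard

noncomputable section

namespace Groth.Agent.DualCxLib

variable {A : Type u} [CommRing A]

/-- The connecting map of the sequence of multiplication by `x`. -/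
def mulDelta {ω : Dual.D A} {M : ModuleCat.{u} A} {x : A} (hx : IsSMulRegular M x) (i : ℤ) :
    Ext ω M i →ₗ[A] Ext ω (mulSeq M x).X₃ (i + 1) :=
  ((shiftL (shortExact_mulSeq hx).singleTriangle.obj₃ (ω⟦i⟧) 1).trans
    (postcompL _ (shift₂ ω i 1 (i + 1) rfl))).toLinearMap.comp
    (pre (shortExact_mulSeq hx).singleTriangle.invRotate.mor₁ (ω⟦i⟧))

theorem exists_smul_of_mulDelta_eq_zero {ω : Dual.D A} {M : ModuleCat.{u} A} {x : A}
    (hx : IsSMulRegular M x) (i : ℤ) {w : Ext ω M i} (h : mulDelta hx i w = 0) :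
    ∃ v : Ext ω M i, w = x • v := by
  let hS := shortExact_mulSeq hx
  have h0 : hS.singleTriangle.invRotate.mor₁ ≫ w = (0 : hS.singleTriangle.invRotate.obj₁ ⟶ ω⟦i⟧) :=
    ((shiftL hS.singleTriangle.obj₃ (ω⟦i⟧) 1).trans
      (postcompL _ (shift₂ ω i 1 (i + 1) rfl))).map_eq_zero_iff.1 h
  obtain ⟨g, hg⟩ := Pretriangulated.Triangle.yoneda_exact₂ _
    (Pretriangulated.inv_rot_of_distTriang _ hS.singleTriangle_distinguished) w h0
  exact ⟨g, Eq.trans hg (extMap_smul_id x M i g)⟩

variable [IsNoetherianRing A] {ω : Dual.D A}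

theorem subsingleton_ext_of_lt_deg (hω : Dual.IsDualizing A ω) (M : Type u) [AddCommGroup M] [Module A M]
    [Module.Finite A M] (i : ℤ) (h : ∀ q ∈ Module.support A M, i < deg hω q) :
    Subsingleton (Ext ω (ModuleCat.of A M) i) := by
  haveI := Ext_finite hω M i
  refine (Module.support_eq_empty_iff (R := A)).1 (Set.eq_empty_of_forall_notMem fun p hp => ?_)
  exact (mem_support_iff_not_van.1 hp) (van_of_lt hω p i fun q hq _ => h q hq)

/-- Discarding what lives above degree `m`. -/
theorem exists_pure_quotient (hω : Dual.IsDualizing A ω) (M : Type u) [AddCommGroup M] [Module A M]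
    [Module.Finite A M] (m : ℤ) (hm : ∀ q ∈ Module.support A M, m ≤ deg hω q) :
    ∃ (K : Submodule A M), Nonempty (Ext ω (ModuleCat.of A (M ⧸ K)) m ≃ₗ[A] Ext ω (ModuleCat.of A M) m) ∧
      ∀ r : PrimeSpectrum A, r.asIdeal ∈ associatedPrimes A (M ⧸ K) → deg hω r = m := by
  classical
  let K : Submodule A M :=
    ⨅ (q : PrimeSpectrum A) (_ : q ∈ Module.support A M ∧ deg hω q = m), deadPart q.asIdeal M
  have hKle : ∀ q : PrimeSpectrum A, q ∈ Module.support A M → deg hω q = m → K ≤ deadPart q.asIdeal M :=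
    fun q hq hqm => iInf₂_le q ⟨hq, hqm⟩
  have hsub : Module.support A K ⊆ Module.support A M :=
    Module.support_subset_of_injective K.subtype Subtype.val_injective
  have hK : ∀ r ∈ Module.support A K, m < deg hω r := fun r hr => by
    refine lt_of_le_of_ne (hm r (hsub hr)) fun heq => ?_
    refine (Module.notMem_support_iff'.2 fun v => ?_) hr
    obtain ⟨s, hs, hsv⟩ := mem_deadPart.1 (hKle r (hsub hr) heq.symm v.2)
    exact ⟨s, hs, Subtype.ext hsv⟩
  refine ⟨K, ?_, fun r hr => ?_⟩
  · let S : ShortComplex (ModuleCat.{u} A) := ShortComplex.mk (ModuleCat.ofHom K.subtype)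
      (ModuleCat.ofHom K.mkQ) (ModuleCat.hom_ext (LinearMap.ext fun x => (Submodule.Quotient.mk_eq_zero _).2 x.2))
    have hS : S.ShortExact :=
      { exact := (ShortComplex.moduleCat_exact_iff_range_eq_ker _).2
          ((Submodule.range_subtype _).trans (Submodule.ker_mkQ _).symm)
        mono_f := (ModuleCat.mono_iff_injective _).2 Subtype.val_injective
        epi_g := (ModuleCat.epi_iff_surjective _).2 (Submodule.mkQ_surjective _) }
    haveI h0 : Subsingleton (Ext ω S.X₁ m) := subsingleton_ext_of_lt_deg hω K m hK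
    haveI h1 : Subsingleton (Ext ω S.X₁ (m - 1)) :=
      subsingleton_ext_of_lt_deg hω K (m - 1) fun r hr => by have := hK r hr; omega
    refine ⟨LinearEquiv.ofBijective (extMap ω S.g m) ⟨(injective_iff_map_eq_zero _).2 fun g hg => ?_,
      fun f => ?_⟩⟩
    · obtain ⟨w, hw⟩ := Pretriangulated.Triangle.yoneda_exact₃ _ hS.singleTriangle_distinguished g hg
      haveI : Subsingleton (hS.singleTriangle.obj₁⟦(1 : ℤ)⟧ ⟶ ω⟦m⟧) :=
        (shiftOneL _ ω m (m - 1) (by omega)).toEquiv.subsingleton_congr.2 h1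
      rw [hw, Subsingleton.elim w 0, comp_zero]
      rfl
    · obtain ⟨g, hg⟩ := exists_of_extMap_f_eq_zero hS m f (Subsingleton.elim _ _)
      exact ⟨g, hg.symm⟩
  · obtain ⟨-, v, hv⟩ := isAssociatedPrime_iff.1 hr
    obtain ⟨v, rfl⟩ := Submodule.Quotient.mk_surjective _ v
    have hann : ∀ s : A, s ∈ r.asIdeal ↔ s • v ∈ K := fun s => by
      rw [hv, Submodule.mem_colon_singleton, Submodule.mem_bot, ← Submodule.Quotient.mk_smul,
        Submodule.Quotient.mk_eq_zero]
    have hvK : v ∉ K := fun h => r.isPrime.ne_top ((Ideal.eq_top_iff_one _).2 ((hann 1).2 (by rwa [one_smul])))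
    obtain ⟨q, hq, hqv⟩ : ∃ q, (q ∈ Module.support A M ∧ deg hω q = m) ∧ v ∉ deadPart q.asIdeal M := by
      by_contra! h
      exact hvK ((Submodule.mem_iInf _).2 fun q => (Submodule.mem_iInf _).2 fun hq => h q hq)
    have hle : r ≤ q := by
      intro s hs
      by_contra hsq
      obtain ⟨t, ht, htv⟩ := mem_deadPart.1 (hKle q hq.1 hq.2 ((hann s).1 hs))
      exact hqv (mem_deadPart.2 ⟨t * s, fun h => (q.isPrime.mem_or_mem h).elim ht hsq, by rw [mul_smul, htv]⟩)
    refine le_antisymm (hq.2 ▸ (deg_strictMono hω).monotone hle) (hm r ?_)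
    have h1 : r ∈ Module.support A (M ⧸ K) :=
      Module.mem_support_iff_of_finite.2 (fun s hs => IsAssociatedPrime.annihilator_le hr (by rwa [Submodule.annihilator_top]))
    exact Module.support_subset_of_surjective K.mkQ (Submodule.mkQ_surjective _) h1

/-- One step: a regular element and the next module. -/
theorem exists_cut (hω : Dual.IsDualizing A ω) (M : Type u) [AddCommGroup M] [Module A M] [Module.Finite A M]
    (m : ℤ) (hm : ∀ q ∈ Module.support A M, m ≤ deg hω q) (p : PrimeSpectrum A) (hp : m < deg hω p) :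
    ∃ x ∈ p.asIdeal, IsSMulRegular (Ext ω (ModuleCat.of A M) m) x ∧
      ∃ (N : ModuleCat.{u} A) (_ : Module.Finite A N),
        (∀ q ∈ Module.support A N, m + 1 ≤ deg hω q) ∧
        ∃ δ : Ext ω (ModuleCat.of A M) m →ₗ[A] Ext ω N (m + 1),
          (∀ w, δ w = 0 → ∃ v, w = x • v) ∧ ∀ v, δ (x • v) = 0 := by
  obtain ⟨K, ⟨e⟩, hass⟩ := exists_pure_quotient hω M m hm
  obtain ⟨x, hxp, hx⟩ := CommAlgDim.exists_isSMulRegular_mem (I := p.asIdeal) (M := M ⧸ K) fun q hq hle => by
    have h1 := hass ⟨q, hq.isPrime⟩ hq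
    have h2 := (deg_strictMono hω).monotone (show p ≤ ⟨q, hq.isPrime⟩ from hle)
    omega
  let M' : ModuleCat.{u} A := ModuleCat.of A (M ⧸ K)
  let N := (mulSeq M' x).X₃
  haveI hNfin : Module.Finite A N := inferInstanceAs (Module.Finite A ((M ⧸ K) ⧸ _))
  have hN : ∀ q ∈ Module.support A N, m + 1 ≤ deg hω q := fun r hr => by
    have hsub : r ∈ Module.support A (M ⧸ K) :=
      Module.support_subset_of_surjective (mulSeq M' x).g.hom
        ((ModuleCat.epi_iff_surjective _).1 (shortExact_mulSeq (M := M') hx).epi_g) hr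
    have hxr : x ∈ r.asIdeal := by
      refine Module.mem_support_iff_of_finite.1 hr (Module.mem_annihilator.2 fun z => ?_)
      obtain ⟨z, rfl⟩ := Submodule.Quotient.mk_surjective _ z
      rw [← Submodule.Quotient.mk_smul, Submodule.Quotient.mk_eq_zero]
      exact ⟨z, rfl⟩
    obtain ⟨q, hq, hqr, hmin⟩ := exists_minimal_support (M ⧸ K) hsub
    have hqass : q.asIdeal ∈ associatedPrimes A (M ⧸ K) := by
      refine Module.associatedPrimes.minimalPrimes_annihilator_subset_associatedPrimes A (M ⧸ K)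
        ⟨⟨q.isPrime, Module.mem_support_iff_of_finite.1 hq⟩, fun s hs hsq => ?_⟩
      exact le_of_eq (congrArg PrimeSpectrum.asIdeal
        (hmin ⟨s, hs.1⟩ (Module.mem_support_iff_of_finite.2 hs.2) hsq)).symm
    have hne : q < r := lt_of_le_of_ne hqr fun h => by
      have h1 : x ∈ ⋃ s ∈ associatedPrimes A (M ⧸ K), (s : Set A) := Set.mem_biUnion hqass (h ▸ hxr)
      rw [biUnion_associatedPrimes_eq_compl_regular] at h1
      exact h1 hx
    have := deg_strictMono hω hne
    rw [hass q hqass] at this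
    omega
  haveI : Subsingleton (Ext ω N m) := subsingleton_ext_of_lt_deg hω N m fun q hq => by have := hN q hq; omega
  refine ⟨x, hxp, ?_, N, hNfin, hN, (mulDelta (M := M') hx m).comp e.symm.toLinearMap, fun w hw => ?_, fun v => ?_⟩
  · refine (isSMulRegular_iff_ker_lsmul_eq_bot _ _).2 ?_
    rw [LinearMap.ker_eq_bot, injective_iff_map_eq_zero]
    intro w hw
    obtain ⟨g, hg⟩ := exists_of_extMap_f_eq_zero (shortExact_mulSeq (M := M') hx) m (e.symm w)
      ((extMap_smul_id x M' m _).trans (by rw [← map_smul, show x • w = 0 from hw, map_zero]))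
    rw [Subsingleton.elim g 0, map_zero] at hg
    exact e.symm.map_eq_zero_iff.1 hg
  · obtain ⟨v, hv⟩ := exists_smul_of_mulDelta_eq_zero (M := M') hx m hw
    refine ⟨e v, ?_⟩
    rw [← map_smul, ← hv]
    exact (e.apply_symm_apply w).symm
  · have h0 : (x • 𝟙 N : N ⟶ N) = 0 := ModuleCat.hom_ext (LinearMap.ext fun z => by
      obtain ⟨z, rfl⟩ := Submodule.Quotient.mk_surjective _ z
      show x • (Submodule.Quotient.mk z : N) = 0
      rw [← Submodule.Quotient.mk_smul, Submodule.Quotient.mk_eq_zero]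
      exact ⟨z, rfl⟩)
    rw [map_smul, ← extMap_smul_id x N (m + 1), h0]
    show (DerivedCategory.singleFunctor (ModuleCat.{u} A) 0).map 0 ≫ _ = 0
    rw [Functor.map_zero, zero_comp]

/-- Regular sequences on the lowest cohomology. -/
theorem hasSeqIn_lowest (hω : Dual.IsDualizing A ω) (n : ℤ) (hn : ∀ q, n ≤ deg hω q) (p : PrimeSpectrum A) :
    (n < deg hω p → CommAlgDim.HasSeqIn p.asIdeal (Dual.HD A ω n) 1) ∧
      (n + 1 < deg hω p → CommAlgDim.HasSeqIn p.asIdeal (Dual.HD A ω n) 2) := by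
  let e := extHL ω n
  refine ⟨fun hp => ?_, fun hp => ?_⟩
  all_goals obtain ⟨x, hxp, hx, N, _, hN, δ, hδ, hδ'⟩ := exists_cut hω A n (fun q _ => hn q) p (by omega)
  all_goals have hx' : IsSMulRegular (Dual.HD A ω n) x := (e.isSMulRegular_congr x).1 hx
  · exact CommAlgDim.hasSeqIn_succ_of_cons hxp hx' (CommAlgDim.hasSeqIn_zero _)
  · obtain ⟨y, hyp, hy, -⟩ := exists_cut hω N (n + 1) hN p hp
    refine ⟨[x, y], rfl, ?_, RingTheory.Sequence.IsWeaklyRegular.cons hx'
      ((RingTheory.Sequence.isWeaklyRegular_singleton_iff _ _).2 ?_)⟩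
    · simp [hxp, hyp]
    refine (isSMulRegular_iff_ker_lsmul_eq_bot _ _).2 ?_
    rw [LinearMap.ker_eq_bot, injective_iff_map_eq_zero]
    intro z hz
    obtain ⟨w, rfl⟩ := Submodule.Quotient.mk_surjective _ z
    have hz' : (Submodule.Quotient.mk (y • w) : QuotSMulTop x (Dual.HD A ω n)) = 0 := hz
    rw [Submodule.Quotient.mk_eq_zero, Submodule.mem_smul_pointwise_iff_exists] at hz'
    obtain ⟨v, -, hv⟩ := hz'
    obtain ⟨u', hu'⟩ := hδ (e.symm w) (hy.right_eq_zero_of_smul (by
      rw [← map_smul, ← map_smul, ← hv, map_smul]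
      exact hδ' _))
    rw [Submodule.Quotient.mk_eq_zero, Submodule.mem_smul_pointwise_iff_exists]
    refine ⟨e u', trivial, ?_⟩
    rw [← map_smul, ← hu']
    exact e.apply_symm_apply w

end Groth.Agent.DualCxLib
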