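import Groth.Agent.DualCxLib.Pure

/-!
# (S₂) for the lowest cohomology of a dualizing complex
-/

set_option autoImplicit false
set_option linter.style.haveILetI false
set_option linter.unusedSectionVars false

universe u

open CategoryTheory CategoryTheory.Limits
open Groth.Agent

attribute [local instance] HasDerivedCategory.standard

noncomputable section

namespace Groth.Agent.DualCxLib

variable {A : Type u} [CommRing A] [IsNoetherianRing A] {ω : Dual.D A}

theorem ringKrullDim_localized_le (hω : Dual.IsDualizing A ω) (n : ℤ) (hn : ∀ q, n ≤ deg hω q)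
    (p : PrimeSpectrum A) :
    ringKrullDim (Localization.AtPrime p.asIdeal) ≤ (((deg hω p - n).toNat : ℕ∞) : WithBot ℕ∞) := by
  rw [IsLocalization.AtPrime.ringKrullDim_eq_height p.asIdeal (Localization.AtPrime p.asIdeal)]
  refine WithBot.coe_le_coe.2 ?_
  rw [PrimeSpectrum.height_eq_orderHeight]
  refine Order.height_le fun l hl => ?_
  have h1 := length_le_deg_sub hω l
  have h2 := hn l.head
  rw [hl] at h1
  exact_mod_cast (show l.length ≤ (deg hω p - n).toNat by omega)

/-- The lowest cohomology is (S₂), locally in the ring. -/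
theorem min_two_le_depth_lowest (hω : Dual.IsDualizing A ω) (n : ℤ) (hn : ∀ q, n ≤ deg hω q)
    (p : PrimeSpectrum A) :
    min (2 : WithBot ℕ∞) (ringKrullDim (Localization.AtPrime p.asIdeal)) ≤
      ((LocCoh.depth (Localization.AtPrime p.asIdeal)
        (LocalizedModule p.asIdeal.primeCompl (Dual.HD A ω n)) : ℕ∞) : WithBot ℕ∞) := by
  haveI := hω.finite_cohomology n
  haveI : Module.Finite (Localization.AtPrime p.asIdeal) (LocalizedModule p.asIdeal.primeCompl (Dual.HD A ω n)) :=
    Module.Finite.of_isLocalizedModule p.asIdeal.primeCompl (LocalizedModule.mkLinearMap p.asIdeal.primeCompl _)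
  haveI : IsNoetherianRing (Localization.AtPrime p.asIdeal) := IsLocalization.isNoetherianRing p.asIdeal.primeCompl _ ‹_›
  obtain ⟨h1, h2⟩ := hasSeqIn_lowest hω n hn p
  have key : ∀ k : ℕ, CommAlgDim.HasSeqIn p.asIdeal (Dual.HD A ω n) k →
      ((k : ℕ∞) : WithBot ℕ∞) ≤ ((LocCoh.depth (Localization.AtPrime p.asIdeal)
        (LocalizedModule p.asIdeal.primeCompl (Dual.HD A ω n)) : ℕ∞) : WithBot ℕ∞) :=
    fun k hk => WithBot.coe_le_coe.2 ((CommAlgDim.le_depth_iff k).2 (hk.localization le_rfl))
  have hdim := ringKrullDim_localized_le hω n hn p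
  rcases lt_trichotomy (n + 1) (deg hω p) with h | h | h
  · exact (min_le_left _ _).trans (key 2 (h2 h))
  · refine (min_le_right _ _).trans (hdim.trans (le_trans ?_ (key 1 (h1 (by omega)))))
    rw [show deg hω p - n = 1 by omega]
    rfl
  · have := hn p
    refine (min_le_right _ _).trans (hdim.trans (le_trans ?_ (key 0 (CommAlgDim.hasSeqIn_zero _))))
    rw [show deg hω p - n = 0 by omega]
    rfl

theorem hasSk_two_lowest (hω : Dual.IsDualizing A ω) (n : ℤ) (hn : ∀ q, n ≤ deg hω q) :
    LocCoh.HasSk 2 A (Dual.HD A ω n) := fun p _ =>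
  le_trans (min_le_min_left _ (Module.supportDim_le_ringKrullDim _ _)) (min_two_le_depth_lowest hω n hn ⟨p, ‹_›⟩)

theorem mem_minimalPrimes_of_deg_eq (hω : Dual.IsDualizing A ω) (n : ℤ) (hn : ∀ q, n ≤ deg hω q)
    (q : PrimeSpectrum A) (hq : deg hω q = n) : q.asIdeal ∈ minimalPrimes A := by
  obtain ⟨r, hr, hrq⟩ := Ideal.exists_minimalPrimes_le (show (⊥ : Ideal A) ≤ q.asIdeal from bot_le)
  let r' : PrimeSpectrum A := ⟨r, hr.1.1⟩
  have hle : r' ≤ q := hrq
  obtain heq | hlt := hle.eq_or_lt
  · exact heq ▸ hr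
  · have := deg_strictMono hω hlt
    have := hn r'
    omega

theorem mem_support_lowest (hω : Dual.IsDualizing A ω) (n : ℤ) (hn : ∀ q, n ≤ deg hω q) (p : PrimeSpectrum A) :
    p ∈ Module.support A (Dual.HD A ω n) ↔ ∃ q ≤ p, deg hω q = n := by
  haveI := hω.finite_cohomology n
  constructor
  · intro hp
    obtain ⟨q, hq, hqp, hmin⟩ := exists_minimal_support (Dual.HD A ω n) hp
    refine ⟨q, hqp, le_antisymm (not_lt.1 fun hlt => ?_) (hn q)⟩
    have hass : q.asIdeal ∈ associatedPrimes A (Dual.HD A ω n) := by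
      refine Module.associatedPrimes.minimalPrimes_annihilator_subset_associatedPrimes A (Dual.HD A ω n)
        ⟨⟨q.isPrime, Module.mem_support_iff_of_finite.1 hq⟩, fun s hs hsq => ?_⟩
      exact le_of_eq (congrArg PrimeSpectrum.asIdeal
        (hmin ⟨s, hs.1⟩ (Module.mem_support_iff_of_finite.2 hs.2) hsq)).symm
    exact (CommAlgDim.hasSeqIn_one_iff q.asIdeal).1 ((hasSeqIn_lowest hω n hn q).1 hlt) _ hass le_rfl
  · rintro ⟨q, hqp, hq⟩
    refine Module.mem_support_mono hqp ?_
    exact (nontrivial_HD_minimal_iff hω q (mem_minimalPrimes_of_deg_eq hω n hn q hq) n).2 hq.symm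

end Groth.Agent.DualCxLib
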