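import Groth.Agent.DualCxLib.ExtTri
import Mathlib.RingTheory.Ideal.Quotient.Operations
import Mathlib.RingTheory.Ideal.AssociatedPrime.Finiteness
import Mathlib.RingTheory.Support
import Mathlib.LinearAlgebra.Charpoly.Basic

/-!
# Vanishing of `Ext` near a prime
-/

set_option autoImplicit false
set_option linter.style.haveILetI false
set_option linter.unusedSectionVars false

universe u

open CategoryTheory CategoryTheory.Limits
open CategoryTheory.Pretriangulated (Triangle)
open Groth.Agent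
open DTenLib.Point (hH sg kM)

attribute [local instance] HasDerivedCategory.standard

noncomputable section

namespace Groth.Agent.DualCxLib

variable {A : Type u} [CommRing A]

/-- Every element dies outside `p`. -/
def Van (p : Ideal A) (V : Type (u + 1)) [AddCommGroup V] [Module A V] : Prop :=
  ∀ x : V, ∃ s ∉ p, s • x = 0

section Van

variable {p q : Ideal A} [p.IsPrime] {V W : Type (u + 1)} [AddCommGroup V] [Module A V] [AddCommGroup W]
  [Module A W]

theorem van_iff_subsingleton : Subsingleton (LocalizedModule p.primeCompl V) ↔ Van p V :=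
  LocalizedModule.subsingleton_iff.trans Iff.rfl

theorem one_notMem : (1 : A) ∉ p := fun h => Ideal.IsPrime.ne_top' ((Ideal.eq_top_iff_one p).2 h)

theorem van_of_subsingleton [Subsingleton V] : Van p V :=
  fun x => ⟨1, one_notMem, Subsingleton.elim _ _⟩

theorem Van.of_injective (f : V →ₗ[A] W) (hf : Function.Injective f) (h : Van p W) : Van p V := fun x => by
  obtain ⟨s, hs, hx⟩ := h (f x)
  exact ⟨s, hs, hf (by rw [map_smul, hx, map_zero])⟩

theorem Van.mono (hqp : p ≤ q) (h : Van q V) : Van p V := fun x => by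
  obtain ⟨s, hs, hx⟩ := h x
  exact ⟨s, fun hm => hs (hqp hm), hx⟩

theorem Van.congr (e : V ≃ₗ[A] W) (h : Van p W) : Van p V := h.of_injective e.toLinearMap e.injective

theorem van_of_killed {s : A} (hs : s ∉ p) (h : ∀ x : V, s • x = 0) : Van p V := fun x => ⟨s, hs, h x⟩

theorem exists_killed_of_fg [Module.Finite A V] (h : Van p V) : ∃ s ∉ p, ∀ x : V, s • x = 0 := by
  classical
  obtain ⟨G, hG⟩ := Module.Finite.fg_top (R := A) (M := V)
  choose s hs hx using h
  refine ⟨∏ g ∈ G, s g, fun hm => ?_, fun x => ?_⟩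
  · obtain ⟨g, -, hg⟩ := Ideal.IsPrime.prod_mem_iff.1 hm
    exact hs g hg
  · have : (⊤ : Submodule A V) ≤ LinearMap.ker (LinearMap.lsmul A V (∏ g ∈ G, s g)) := by
      rw [← hG, Submodule.span_le]
      intro g hg
      obtain ⟨c, hc⟩ := Finset.dvd_prod_of_mem s hg
      show (∏ g ∈ G, s g) • g = 0
      rw [hc, mul_comm, mul_smul, hx, smul_zero]
    exact this Submodule.mem_top

/-- Nakayama at a prime. -/
theorem van_of_smul_surjective [Module.Finite A V] {x : A} (hx : x ∈ p)
    (h : ∀ v : V, ∃ s ∉ p, ∃ w : V, s • v = x • w) : Van p V := by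
  classical
  obtain ⟨G, hG⟩ := Module.Finite.fg_top (R := A) (M := V)
  choose s hs w hw using h
  let s₀ : A := ∏ g ∈ G, s g
  have hs₀ : s₀ ∉ p := fun hm => by
    obtain ⟨g, -, hg⟩ := Ideal.IsPrime.prod_mem_iff.1 hm
    exact hs g hg
  have hle : (⊤ : Submodule A V) ≤
      (Ideal.span {x} • (⊤ : Submodule A V)).comap (LinearMap.lsmul A V s₀) := by
    rw [← hG, Submodule.span_le]
    intro g hg
    obtain ⟨c, hc⟩ := Finset.dvd_prod_of_mem s hg
    show s₀ • g ∈ Ideal.span {x} • Submodule.span A (G : Set V)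
    rw [show s₀ = c * s g by rw [mul_comm]; exact hc, mul_smul, hw, smul_comm, hG]
    exact Submodule.smul_mem_smul (Ideal.mem_span_singleton_self x) Submodule.mem_top
  obtain ⟨P, hP, -, hcoeff, hzero⟩ := LinearMap.exists_monic_and_natDegree_eq_and_coeff_mem_pow_and_aeval_eq_zero A
    (LinearMap.lsmul A V s₀) (Ideal.span {x}) (by
      rintro y ⟨v, rfl⟩
      exact hle Submodule.mem_top)
  refine van_of_killed (s := P.eval s₀) (fun hm => ?_) fun v => ?_
  · have hmap : P.map (Ideal.Quotient.mk p) = Polynomial.X ^ P.natDegree := by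
      refine Polynomial.ext fun k => ?_
      rw [Polynomial.coeff_map, Polynomial.coeff_X_pow]
      rcases lt_trichotomy k P.natDegree with hk | rfl | hk
      · rw [if_neg hk.ne, Ideal.Quotient.eq_zero_iff_mem]
        exact (Ideal.span_le.2 (Set.singleton_subset_iff.2 hx)) (Ideal.pow_le_self (by omega) (hcoeff k))
      · rw [if_pos rfl, hP.coeff_natDegree, map_one]
      · rw [if_neg hk.ne', Polynomial.coeff_eq_zero_of_natDegree_lt hk, map_zero]
    have h0 := Ideal.Quotient.eq_zero_iff_mem.2 hm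
    rw [← Polynomial.eval_map_apply, hmap, Polynomial.eval_X_pow, ← map_pow, Ideal.Quotient.eq_zero_iff_mem] at h0
    exact hs₀ (Ideal.IsPrime.mem_of_pow_mem inferInstance _ h0)
  · have h2 : LinearMap.lsmul A V s₀ = algebraMap A (Module.End A V) s₀ := LinearMap.ext fun _ => rfl
    rw [h2, Polynomial.aeval_algebraMap_apply] at hzero
    exact congrArg (fun f : Module.End A V => f v) hzero

end Van

variable {ω : Dual.D A} {S : ShortComplex (ModuleCat.{u} A)} (hS : S.ShortExact) {p : Ideal A} [p.IsPrime]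

section Exact

include hS

theorem exists_extend_van (i : ℤ) (h : Van p (Ext ω S.X₃ (i + 1))) (f : Ext ω S.X₁ i) :
    ∃ s ∉ p, ∃ g : Ext ω S.X₂ i, s • f = extMap ω S.f i g := by
  let T := hS.singleTriangle.invRotate
  have hT : T ∈ distTriang (Dual.D A) :=
    Pretriangulated.inv_rot_of_distTriang _ hS.singleTriangle_distinguished
  obtain ⟨s, hs, hsf⟩ : ∃ s ∉ p, s • (T.mor₁ ≫ f : T.obj₁ ⟶ ω⟦i⟧) = 0 := by
    have hv : Van p (T.obj₁ ⟶ ω⟦i⟧) :=
      Van.congr (((shiftL (hS.singleTriangle.obj₃) (ω⟦i⟧) 1)).trans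
        (postcompL _ (shift₂ ω i 1 (i + 1) rfl))) h
    exact hv _
  obtain ⟨g, hg⟩ := Triangle.yoneda_exact₂ _ hT (s • f) ((Linear.comp_smul (R := A) _ _ _ T.mor₁ s (f : T.obj₂ ⟶ ω⟦i⟧)).trans hsf)
  exact ⟨s, hs, g, hg⟩

theorem van_ext₁ (i : ℤ) (h₂ : Van p (Ext ω S.X₂ i)) (h₃ : Van p (Ext ω S.X₃ (i + 1))) :
    Van p (Ext ω S.X₁ i) := fun f => by
  obtain ⟨s, hs, g, hg⟩ := exists_extend_van hS i h₃ f
  obtain ⟨t, ht, htg⟩ := h₂ g
  refine ⟨t * s, fun hm => (Ideal.IsPrime.mem_or_mem inferInstance hm).elim ht hs, ?_⟩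
  rw [mul_smul, hg, ← map_smul, htg, map_zero]

theorem van_ext₂ (i : ℤ) (h₁ : Van p (Ext ω S.X₁ i)) (h₃ : Van p (Ext ω S.X₃ i)) :
    Van p (Ext ω S.X₂ i) := fun f => by
  obtain ⟨s, hs, hsf⟩ := h₁ (extMap ω S.f i f)
  obtain ⟨g, hg⟩ := exists_of_extMap_f_eq_zero hS i (s • f) (by rw [map_smul, hsf])
  obtain ⟨t, ht, htg⟩ := h₃ g
  refine ⟨t * s, fun hm => (Ideal.IsPrime.mem_or_mem inferInstance hm).elim ht hs, ?_⟩
  rw [mul_smul, hg, ← map_smul, htg, map_zero]

theorem van_ext₃ (i j : ℤ) (h : j + 1 = i) (h₁ : Van p (Ext ω S.X₁ j)) (h₂ : Van p (Ext ω S.X₂ i)) :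
    Van p (Ext ω S.X₃ i) := fun f => by
  obtain ⟨s, hs, hsf⟩ := h₂ (extMap ω S.g i f)
  obtain ⟨g, hg⟩ := Triangle.yoneda_exact₃ _ hS.singleTriangle_distinguished (s • f : Ext ω S.X₃ i)
    (((map_smul (extMap ω S.g i) s f)).trans hsf)
  have hv : Van p (hS.singleTriangle.obj₁⟦(1 : ℤ)⟧ ⟶ ω⟦i⟧) := Van.congr (shiftOneL _ ω i j h) h₁
  obtain ⟨t, ht, htg⟩ := hv g
  refine ⟨t * s, fun hm => (Ideal.IsPrime.mem_or_mem inferInstance hm).elim ht hs, ?_⟩
  rw [mul_smul, hg]
  show t • (_ ≫ g) = 0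
  rw [← Linear.comp_smul, htg, comp_zero]

end Exact

theorem extMap_smul_id (r : A) (M : ModuleCat.{u} A) (i : ℤ) (f : Ext ω M i) :
    extMap ω (r • 𝟙 M) i f = r • f := by
  show (DerivedCategory.singleFunctor (ModuleCat.{u} A) 0).map (r • 𝟙 M) ≫ f = r • f
  rw [Functor.map_smul, CategoryTheory.Functor.map_id, Linear.smul_comp]
  exact congrArg (r • ·) (Category.id_comp f)

theorem van_ext_of_killed {M : ModuleCat.{u} A} {s : A} (hs : s ∉ p) (h : ∀ x : M, s • x = 0) (i : ℤ) :
    Van p (Ext ω M i) :=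
  van_of_killed hs fun f => by
    rw [← extMap_smul_id s M i f, show s • 𝟙 M = 0 from ModuleCat.hom_ext (LinearMap.ext h)]
    show (DerivedCategory.singleFunctor (ModuleCat.{u} A) 0).map 0 ≫ f = 0
    rw [Functor.map_zero, zero_comp]

theorem van_ext_of_equiv {M N : Type u} [AddCommGroup M] [Module A M] [AddCommGroup N] [Module A N]
    (e : M ≃ₗ[A] N) {i : ℤ} (h : Van p (Ext ω (ModuleCat.of A N) i)) : Van p (Ext ω (ModuleCat.of A M) i) :=
  Van.congr (precompL ((DerivedCategory.singleFunctor (ModuleCat.{u} A) 0).mapIso e.toModuleIso) _) h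

/-- The sequence of multiplication by `x`. -/
abbrev mulSeq (M : ModuleCat.{u} A) (x : A) : ShortComplex (ModuleCat.{u} A) :=
  ShortComplex.mk (x • 𝟙 M : M ⟶ M)
    (ModuleCat.ofHom (LinearMap.range (x • (LinearMap.id : M →ₗ[A] M))).mkQ)
    (ModuleCat.hom_ext (LinearMap.ext fun m => (Submodule.Quotient.mk_eq_zero _).2 ⟨m, rfl⟩))

theorem shortExact_mulSeq {M : ModuleCat.{u} A} {x : A} (hx : IsSMulRegular M x) :
    (mulSeq M x).ShortExact :=
  { exact := (ShortComplex.moduleCat_exact_iff_range_eq_ker _).2 (Submodule.ker_mkQ _).symm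
    mono_f := (ModuleCat.mono_iff_injective _).2 hx
    epi_g := (ModuleCat.epi_iff_surjective _).2 (Submodule.mkQ_surjective _) }

variable [IsNoetherianRing A]

/-- Cutting by a regular element of `p`. -/
theorem van_ext_of_regular {a : ℤ} (ha : ω.IsGE a) (hfin : ∀ i, Module.Finite A ((hH A i).obj ω))
    {M : ModuleCat.{u} A} [Module.Finite A M] {x : A} (hx : x ∈ p) (hreg : IsSMulRegular M x) (i : ℤ)
    (h : Van p (Ext ω (mulSeq M x).X₃ (i + 1))) : Van p (Ext ω M i) := by
  haveI := isNoetherian_ext ha hfin M i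
  refine van_of_smul_surjective hx fun f => ?_
  obtain ⟨s, hs, g, hg⟩ := exists_extend_van (shortExact_mulSeq hreg) i h f
  exact ⟨s, hs, g, hg.trans (extMap_smul_id x M i g)⟩

/-- Dévissage along a prime filtration. -/
theorem van_ext_of_primes {M : Type u} [AddCommGroup M] [Module A M] [Module.Finite A M] (i : ℤ)
    (h : ∀ q : PrimeSpectrum A, q ∈ Module.support A M → q.asIdeal ≤ p →
      Van p (Ext ω (ModuleCat.of A (A ⧸ q.asIdeal)) i)) :
    Van p (Ext ω (ModuleCat.of A M) i) := by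
  revert h
  refine IsNoetherianRing.induction_on_isQuotientEquivQuotientPrime A (M := M) inferInstance
    (motive := fun N _ _ _ => (∀ q : PrimeSpectrum A, q ∈ Module.support A N → q.asIdeal ≤ p →
      Van p (Ext ω (ModuleCat.of A (A ⧸ q.asIdeal)) i)) → Van p (Ext ω (ModuleCat.of A N) i)) ?_ ?_ ?_
  · intro N _ _ _ _ _
    exact van_ext_of_killed (one_notMem) (fun x : N => Subsingleton.elim _ _) i
  · intro N _ _ _ q e h
    refine van_ext_of_equiv e ?_
    by_cases hq : q.asIdeal ≤ p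
    · refine h q ?_ hq
      rw [e.support_eq, Module.support_eq_zeroLocus, Ideal.annihilator_quotient]
      exact fun a ha => ha
    · obtain ⟨s, hsq, hsp⟩ := Set.not_subset.1 hq
      refine van_ext_of_killed (M := ModuleCat.of A (A ⧸ q.asIdeal)) hsp (fun x => ?_) i
      obtain ⟨a, rfl⟩ := Submodule.Quotient.mk_surjective _ x
      exact (Submodule.Quotient.mk_eq_zero _).2 (q.asIdeal.mul_mem_right a hsq)
  · intro N₁ _ _ _ N₂ _ _ _ N₃ _ _ _ f g hf hg hfg h1 h3 h
    have hsupp := Module.support_of_exact hfg hf hg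
    exact van_ext₂ (S := ShortComplex.mk (ModuleCat.ofHom f) (ModuleCat.ofHom g)
      (ModuleCat.hom_ext (LinearMap.ext fun x => hfg.apply_apply_eq_zero x)))
      { exact := (ShortComplex.moduleCat_exact_iff_range_eq_ker _).2 (LinearMap.exact_iff.1 hfg).symm
        mono_f := (ModuleCat.mono_iff_injective _).2 hf
        epi_g := (ModuleCat.epi_iff_surjective _).2 hg } i
      (h1 fun q hq => h q (by rw [hsupp]; exact Or.inl hq))
      (h3 fun q hq => h q (by rw [hsupp]; exact Or.inr hq))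

end Groth.Agent.DualCxLib
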